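import Cfsg.Agent.Lib.Invol.NoSCNBasic
import Cfsg.Agent.Lib.Invol.Critical

/-!
# 2-groups of normal rank two with an automorphism of odd prime order: basic facts (for S3311)
-/

set_option autoImplicit false

namespace Cfsg.Agent.Transfer.NTwo

open Subgroup
open Cfsg.Agent.Invol (NoSCN.Rot)

variable {P : Type*} [Group P]

/-- The commutator. -/
def br (x y : P) : P := x * y * x⁻¹ * y⁻¹

theorem br_eq_one {x y : P} : br x y = 1 ↔ x * y = y * x := by
  rw [br, mul_inv_eq_one, mul_inv_eq_iff_eq_mul]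

theorem br_self (x : P) : br x x = 1 := br_eq_one.2 rfl

theorem br_inv (x y : P) : (br x y)⁻¹ = br y x := by simp only [br]; group

theorem map_br (ψ : MulAut P) (x y : P) : ψ (br x y) = br (ψ x) (ψ y) := by simp [br]

theorem conj_eq_br (x y : P) : x * y * x⁻¹ = br x y * y := by simp only [br]; group

/-- A 2-group without normal elementary abelian subgroup of order 8 and an automorphism of odd
prime order. -/
structure Hyp (φ : MulAut P) : Prop where
  pgroup : IsPGroup 2 P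
  small : ∀ E : Subgroup P, E.Normal → (∀ a ∈ E, a * a = 1) → Nat.card ↥E ≤ 4
  prime : (orderOf φ).Prime
  odd : Odd (orderOf φ)

variable {φ : MulAut P}

theorem Hyp.ne_one (h : Hyp φ) : φ ≠ 1 := fun e => by
  have := h.prime; rw [e, orderOf_one] at this; exact Nat.not_prime_one this

theorem card_ge_eight [Finite P] {H : Subgroup P} (hH : ∀ a ∈ H, a * a = 1) {D : Subgroup P} (hD : D ≤ H)
    (h4 : Nat.card ↥D = 4) {x : P} (hx : x ∈ H) (hxD : x ∉ D) : 8 ≤ Nat.card ↥H := by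
  have h1 : Nat.card ↥D ∣ Nat.card ↥H := card_dvd_of_le hD
  have h2 : D ≠ H := fun e => hxD (e ▸ hx)
  have h3 : Nat.card ↥D < Nat.card ↥H := by
    refine lt_of_le_of_ne (Nat.le_of_dvd Nat.card_pos h1) fun e => h2 (eq_of_le_of_card_ge hD e.ge)
  obtain ⟨k, hk⟩ := h1
  rw [h4] at hk h3
  omega

/-- The elements of square one of an abelian subgroup. -/
def omega (A : Subgroup P) (hc : ∀ a ∈ A, ∀ b ∈ A, a * b = b * a) : Subgroup P where
  carrier := {x | x ∈ A ∧ x * x = 1}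
  one_mem' := ⟨one_mem A, one_mul 1⟩
  mul_mem' := fun {x y} hx hy => ⟨mul_mem hx.1 hy.1, by
    calc x * y * (x * y) = x * (y * x) * y := by group
      _ = x * (x * y) * y := by rw [hc y hy.1 x hx.1]
      _ = (x * x) * (y * y) := by group
      _ = 1 := by rw [hx.2, hy.2, one_mul]⟩
  inv_mem' := fun {x} hx => ⟨inv_mem hx.1, by rw [← mul_inv_rev, hx.2, inv_one]⟩

theorem mem_omega {A : Subgroup P} {hc : ∀ a ∈ A, ∀ b ∈ A, a * b = b * a} {x : P} :
    x ∈ omega A hc ↔ x ∈ A ∧ x * x = 1 := Iff.rfl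

theorem omega_normal {A : Subgroup P} (hA : A.Normal) (hc : ∀ a ∈ A, ∀ b ∈ A, a * b = b * a) :
    (omega A hc).Normal :=
  ⟨fun x hx g => ⟨hA.conj_mem x hx.1 g, by
    rw [show g * x * g⁻¹ * (g * x * g⁻¹) = g * (x * x) * g⁻¹ by group, hx.2, mul_one, mul_inv_cancel]⟩⟩

theorem Hyp.omega_le (h : Hyp φ) {A : Subgroup P} (hA : A.Normal) (hc : ∀ a ∈ A, ∀ b ∈ A, a * b = b * a) :
    Nat.card ↥(omega A hc) ≤ 4 :=
  h.small _ (omega_normal hA hc) fun _ hx => hx.2

/-- An automorphism of odd order fixing the involutions of an abelian 2-subgroup fixes it. -/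
theorem fixed_abelian [Finite P] (hP : IsPGroup 2 P) {ψ : MulAut P} (hψ : Odd (orderOf ψ)) {A : Subgroup P}
    (hc : ∀ a ∈ A, ∀ b ∈ A, a * b = b * a) (hmem : ∀ a ∈ A, ψ a ∈ A)
    (hfix : ∀ a ∈ A, a * a = 1 → ψ a = a) : ∀ a ∈ A, ψ a = a := by
  suffices H : ∀ k, ∀ a ∈ A, a ^ 2 ^ k = 1 → ψ a = a by
    intro a ha
    obtain ⟨k, hk⟩ := hP a
    exact H k a ha hk
  intro k
  induction k with
  | zero => intro a _ h1; rw [pow_zero, pow_one] at h1; rw [h1, map_one]
  | succ k ih =>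
    intro a ha h1
    have h2 : ψ (a * a) = a * a := ih _ (mul_mem ha ha) (by rw [← pow_two, ← pow_mul, ← pow_succ']; exact h1)
    have hcA : a⁻¹ * ψ a ∈ A := mul_mem (inv_mem ha) (hmem a ha)
    have hsq : a⁻¹ * ψ a * (a⁻¹ * ψ a) = 1 := by
      have e1 : ψ a * a⁻¹ = a⁻¹ * ψ a := hc _ (hmem a ha) _ (inv_mem ha)
      calc a⁻¹ * ψ a * (a⁻¹ * ψ a) = a⁻¹ * (ψ a * a⁻¹) * ψ a := by group
        _ = a⁻¹ * (a⁻¹ * ψ a) * ψ a := by rw [e1]
        _ = (a * a)⁻¹ * ψ (a * a) := by rw [map_mul]; group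
        _ = 1 := by rw [h2, inv_mul_cancel]
    exact (inv_mul_eq_one.1 (Cfsg.Agent.Invol.NoSCN.eq_one_of_shift hψ (a := a) (c := a⁻¹ * ψ a)
      (by group) (hfix _ hcA hsq) hsq)).symm

end Cfsg.Agent.Transfer.NTwo
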