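import Cfsg.Agent.Lib.Transfer.NormalTwo.Shell

/-!
# A critical subgroup of a 2-group of normal rank two with an automorphism of odd prime order (for S3311)
-/

set_option autoImplicit false

open scoped commutatorElement

namespace Cfsg.Agent.Transfer.NTwo

open Subgroup

variable {P : Type*} [Group P] {φ : MulAut P}

/-- The only fixed shift of an automorphism of odd order on a 2-group is trivial. -/
theorem shift_one [Finite P] (hP : IsPGroup 2 P) {ψ : MulAut P} (hψ : Odd (orderOf ψ)) {a c : P}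
    (h : ψ a = a * c) (hc : ψ c = c) : c = 1 := by
  have h3 : ∀ m : ℕ, (ψ ^ m) a = a * c ^ m := by
    intro m
    induction m with
    | zero => simp
    | succ m ih =>
      rw [pow_succ', MulAut.mul_apply, ih, map_mul, map_pow, h, hc, pow_succ', mul_assoc]
  have h4 := h3 (orderOf ψ)
  rw [pow_orderOf_eq_one, MulAut.one_apply, eq_comm, mul_eq_left] at h4
  obtain ⟨k, hk⟩ := hP c
  exact orderOf_eq_one_iff.1 (Nat.eq_one_of_dvd_coprimes
    ((Nat.coprime_two_right.2 hψ).pow_right k) (orderOf_dvd_of_pow_eq_one h4) (orderOf_dvd_of_pow_eq_one hk))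

/-- A characteristic subgroup containing its centraliser, of class two over its centre. -/
structure Crit (φ : MulAut P) (Z C : Subgroup P) : Prop where
  hyp : Hyp φ
  char : C.Characteristic
  mem_Z : ∀ z, z ∈ Z ↔ z ∈ C ∧ ∀ y ∈ C, z * y = y * z
  cc : ∀ x, (∀ y ∈ C, x * y = y * x) → x ∈ C
  sq : ∀ x ∈ C, x * x ∈ Z
  comm : ∀ t, ∀ x ∈ C, br t x ∈ Z

theorem exists_crit [Finite P] (h : Hyp φ) : ∃ Z C : Subgroup P, Crit φ Z C := by
  haveI : Fact (Nat.Prime 2) := ⟨Nat.prime_two⟩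
  obtain ⟨H, h1, h2, h3, h4⟩ := Cfsg.Agent.Invol.exists_critical h.pgroup
  have hmem : ∀ z, z ∈ H ⊓ centralizer (H : Set P) ↔ z ∈ H ∧ ∀ y ∈ H, z * y = y * z := fun z => by
    rw [Subgroup.mem_inf, mem_centralizer_iff]
    exact ⟨fun e => ⟨e.1, fun y hy => (e.2 y hy).symm⟩, fun e => ⟨e.1, fun y hy => (e.2 y hy).symm⟩⟩
  refine ⟨H ⊓ centralizer (H : Set P), H, h, h1, hmem,
    fun x hx => h4 (mem_centralizer_iff.2 fun y hy => (hx y hy).symm),
    fun x hx => by rw [← pow_two]; exact h3 x hx, fun t x hx => ?_⟩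
  have e := inv_mem (h2 (commutator_mem_commutator hx (mem_top t)))
  rw [commutatorElement_def] at e
  rwa [← br_inv x t]

namespace Crit

variable {Z C : Subgroup P} (K : Crit φ Z C)
include K

theorem C_map (ψ : MulAut P) {x : P} (hx : x ∈ C) : ψ x ∈ C := by
  haveI := K.char
  exact characteristic_iff_le_comap.1 inferInstance ψ hx

theorem Z_le : Z ≤ C := fun z hz => ((K.mem_Z z).1 hz).1

theorem zc : ∀ ζ ∈ Z, ∀ x ∈ C, ζ * x = x * ζ := fun ζ hζ => ((K.mem_Z ζ).1 hζ).2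

theorem Zc : ∀ a ∈ Z, ∀ b ∈ Z, a * b = b * a := fun a ha b hb => K.zc a ha b (K.Z_le hb)

theorem mem_of_comm {x : P} (hx : ∀ y ∈ C, x * y = y * x) : x ∈ Z := (K.mem_Z x).2 ⟨K.cc x hx, hx⟩

theorem Z_map (ψ : MulAut P) {x : P} (hx : x ∈ Z) : ψ x ∈ Z := by
  refine (K.mem_Z _).2 ⟨K.C_map ψ (K.Z_le hx), fun y hy => ?_⟩
  have h1 := congrArg ψ (K.zc x hx (ψ.symm y) (K.C_map ψ.symm hy))
  simpa using h1

theorem C_normal : C.Normal :=
  ⟨fun x hx t => by simpa [MulAut.conj_apply] using K.C_map (MulAut.conj t) hx⟩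

theorem Z_normal : Z.Normal :=
  ⟨fun x hx t => by simpa [MulAut.conj_apply] using K.Z_map (MulAut.conj t) hx⟩

theorem faithful [Finite P] {ψ : MulAut P} (hψ : Odd (orderOf ψ)) (h : ∀ x ∈ C, ψ x = x) : ψ = 1 := by
  refine MulEquiv.ext fun x => ?_
  have hz : x⁻¹ * ψ x ∈ Z := K.mem_of_comm fun y hy => by
    have h1 : x * y * x⁻¹ ∈ C := K.C_normal.conj_mem y hy x
    have h2 := h _ h1
    rw [map_mul, map_mul, map_inv, h y hy] at h2
    calc x⁻¹ * ψ x * y = x⁻¹ * (ψ x * y * (ψ x)⁻¹) * ψ x := by group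
      _ = x⁻¹ * (x * y * x⁻¹) * ψ x := by rw [h2]
      _ = _ := by group
  have h3 := shift_one K.hyp.pgroup hψ (a := x) (c := x⁻¹ * ψ x) (by group) (h _ (K.Z_le hz))
  exact (inv_mul_eq_one.1 h3).symm

theorem br_sq {x y : P} (hx : x ∈ C) (hy : y ∈ C) : br x y * br x y = 1 := by
  have h1 : br (x * x) y = 1 := br_eq_one.2 (K.zc _ (K.sq x hx) y hy)
  have h2 : br (x * x) y = x * br x y * x⁻¹ * br x y := by simp only [br]; group
  rwa [h2, ← K.zc _ (K.comm x y hy) x hx, mul_inv_cancel_right] at h1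

theorem moves [Finite P] (hne : ∃ x ∈ C, x ∉ Z) : ∃ x ∈ C, x⁻¹ * φ x ∉ Z := by
  by_contra hn
  push Not at hn
  by_cases hfix : ∀ ζ ∈ Z, φ ζ = ζ
  · refine K.hyp.ne_one (K.faithful K.hyp.odd fun x hx => ?_)
    exact (inv_mul_eq_one.1 (shift_one K.hyp.pgroup K.hyp.odd (a := x) (c := x⁻¹ * φ x) (by group)
      (hfix _ (hn x hx)))).symm
  have hmv : ∃ v ∈ omega Z K.Zc, φ v ≠ v := by
    by_contra hm
    push Not at hm
    exact hfix (fixed_abelian K.hyp.pgroup K.hyp.odd K.Zc (fun a ha => K.Z_map φ ha) fun d hd hd2 => hm d ⟨hd, hd2⟩)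
  obtain ⟨v, hv, hvm⟩ := hmv
  obtain ⟨hrot, -⟩ := Cfsg.Agent.Invol.NoSCN.rot_of_moved K.hyp.odd (K.hyp.omega_le K.Z_normal K.Zc)
    (fun w hw => ⟨K.Z_map φ hw.1, by rw [← map_mul, hw.2, map_one]⟩) (fun w hw => hw.2) hv hvm
  obtain ⟨x, hx, hxZ⟩ := hne
  refine hxZ (K.mem_of_comm fun y hy => br_eq_one.1 (hrot.ne _ ⟨K.comm x y hy, K.br_sq hx hy⟩ ?_))
  have e : ∀ a, φ a = a * (a⁻¹ * φ a) := fun a => by group
  have hc := hn x hx
  have hd := hn y hy
  rw [map_br, e x, e y]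
  generalize x⁻¹ * φ x = c at hc ⊢
  generalize y⁻¹ * φ y = d at hd ⊢
  have h1 : br (x * c) (y * d) = x * br c (y * d) * x⁻¹ * br x (y * d) := by simp only [br]; group
  have h2 : br x (y * d) = br x y * (y * br x d * y⁻¹) := by simp only [br]; group
  rw [h1, br_eq_one.2 (K.zc c hc _ (mul_mem hy (K.Z_le hd))), mul_one, mul_inv_cancel, one_mul, h2,
    br_eq_one.2 (K.zc d hd x hx).symm, mul_one, mul_inv_cancel, mul_one]

theorem shell [Finite P] (hne : ∃ x ∈ C, x ∉ Z) : Shell φ Z C where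
  Z_le := K.Z_le
  Z_normal := K.Z_normal
  zc := K.zc
  selfc := fun x hx h => (K.mem_Z x).2 ⟨hx, h⟩
  sq := K.sq
  comm := K.comm
  Wφ := fun _ hx => K.C_map φ hx
  Zφ := fun _ hx => K.Z_map φ hx
  faithful := fun _ => K.faithful
  moves := K.moves hne

end Crit

end Cfsg.Agent.Transfer.NTwo
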