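import Cfsg.Prelude
import Cfsg.Agent.S0501
import Cfsg.Agent.Lib.Transfer.NormalTwo.Critical

/-!
# A critical subgroup with elementary centre (for S3311)
-/

set_option autoImplicit false

namespace Cfsg.Agent.Transfer.NTwo

open Subgroup
open Cfsg.Agent.Invol.FpfThree (mem_adj card_adj)

variable {P : Type*} [Group P] {φ : MulAut P}

theorem card_le_two_mul [Finite P] (H K : Subgroup P)
    (h : ∀ a ∈ H, ∀ b ∈ H, a ∉ K → b ∉ K → a⁻¹ * b ∈ K) : Nat.card ↥H ≤ 2 * Nat.card ↥(H ⊓ K) := by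
  classical
  by_cases hle : H ≤ K
  · rw [inf_eq_left.2 hle]; omega
  obtain ⟨a, ha, haK⟩ := SetLike.not_le_iff_exists.1 hle
  let f : ↥H → Fin 2 × ↥(H ⊓ K) := fun x =>
    if hx : (x : P) ∈ K then (0, ⟨x, mem_inf.2 ⟨x.2, hx⟩⟩)
    else (1, ⟨a⁻¹ * x, mem_inf.2 ⟨mul_mem (inv_mem ha) x.2, h a ha x x.2 haK hx⟩⟩)
  have hf : Function.Injective f := by
    intro x y e
    simp only [f] at e
    refine Subtype.ext ?_
    split_ifs at e <;> first
      | exact congrArg (fun p : Fin 2 × ↥(H ⊓ K) => (p.2 : P)) e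
      | exact mul_left_cancel (congrArg (fun p : Fin 2 × ↥(H ⊓ K) => (p.2 : P)) e)
      | (exfalso; simpa using congrArg Prod.fst e)
  have := Nat.card_le_card_of_injective f hf
  rwa [Nat.card_prod, Nat.card_fin] at this

/-- An involution outside an elementary normal four-group in a class two shell gives a normal eight-group. -/
theorem normal_eight [Finite P] (h : Hyp φ) {Z : Subgroup P} (hZ : Z.Normal) (hZ4 : 4 ≤ Nat.card ↥Z)
    (hsq : ∀ z ∈ Z, z * z = 1) {x : P} (hx : x ∉ Z) (hx2 : x * x = 1) (hcx : ∀ z ∈ Z, z * x = x * z)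
    (hbr : ∀ t, br t x ∈ Z) : False := by
  haveI := hZ
  have hmem : ∀ a ∈ Z ⊔ zpowers x, a * a = 1 := fun a ha => by
    rcases mem_adj (by rw [hx2]; exact one_mem Z) ha with e | e
    · exact hsq a e
    · obtain ⟨z, hz, rfl⟩ : ∃ z ∈ Z, a = z * x := ⟨_, e, by group⟩
      calc z * x * (z * x) = z * (x * z) * x := by group
        _ = (z * z) * (x * x) := by rw [← hcx z hz]; group
        _ = 1 := by rw [hsq z hz, hx2, one_mul]
  have hn : (Z ⊔ zpowers x).Normal := ⟨fun a ha t => by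
    rcases mem_adj (by rw [hx2]; exact one_mem Z) ha with e | e
    · exact mem_sup_left (hZ.conj_mem a e t)
    · rw [show t * a * t⁻¹ = t * (a * x⁻¹) * t⁻¹ * br t x * x by simp only [br]; group]
      exact mul_mem (mem_sup_left (mul_mem (hZ.conj_mem _ e t) (hbr t))) (mem_sup_right (mem_zpowers x))⟩
  have h1 := h.small _ hn hmem
  rw [card_adj (by rw [hx2]; exact one_mem Z) hx] at h1
  omega

namespace Crit

variable {Z C : Subgroup P} (K : Crit φ Z C)
include K

theorem sq_centralizer {x : P} (hx : ∀ z ∈ Z, x * z = z * x) (hb : ∀ c ∈ C, br x c * br x c = 1) : x * x ∈ Z := by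
  refine K.mem_of_comm fun c hc => br_eq_one.1 ?_
  calc br (x * x) c = x * br x c * x⁻¹ * br x c := by simp only [br]; group
    _ = 1 := by rw [hx _ (K.comm x c hc), mul_inv_cancel_right, hb c hc]

theorem four_centre [Finite P] (hZ2 : ∀ z ∈ Z, z * z = 1) (hne : ∃ x ∈ C, x ∉ Z) :
    Nat.card P = 64 ∨ Nat.card P = 128 ∨ Cfsg.PRankLE 2 2 P := by
  haveI := K.Z_normal
  have hP := K.hyp.pgroup
  set D0 := centralizer (Z : Set P) with hD0
  have hD0m : ∀ {x}, x ∈ D0 ↔ ∀ z ∈ Z, x * z = z * x := fun {x} => by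
    rw [hD0, mem_centralizer_iff]; exact ⟨fun e z hz => (e z hz).symm, fun e z hz => (e z hz).symm⟩
  have hsq0 : ∀ x ∈ D0, x * x ∈ Z := fun x hx =>
    K.sq_centralizer (hD0m.1 hx) fun c hc => hZ2 _ (K.comm x c hc)
  have hbr0 : ∀ x ∈ D0, ∀ y ∈ D0, br x y ∈ Z := fun x hx y hy => by
    rw [show br x y = x * y * (x * y) * (y⁻¹ * (x * x)⁻¹ * y) * (y * y)⁻¹ by simp only [br]; group]
    refine mul_mem (mul_mem (hsq0 _ (mul_mem hx hy)) ?_) (inv_mem (hsq0 y hy))
    simpa using K.Z_normal.conj_mem _ (inv_mem (hsq0 x hx)) y⁻¹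
  by_cases htop : D0 = ⊤
  · refine Or.inr (Or.inr fun A hA h2 => ?_)
    have hm : ∀ x, x ∈ D0 := fun x => htop ▸ mem_top x
    have hA' : ∀ a ∈ Z ⊔ A, a * a = 1 := fun a ha => by
      obtain ⟨z, hz, b, hb, rfl⟩ := mem_sup_of_normal_left.1 ha
      calc z * b * (z * b) = z * (b * z) * b := by group
        _ = (z * z) * (b * b) := by rw [hD0m.1 (hm b) z hz]; group
        _ = 1 := by rw [hZ2 z hz, one_mul, ← pow_two, h2 b hb]
    have hn : (Z ⊔ A).Normal := ⟨fun a ha t => by
      rw [conj_eq_br]; exact mul_mem (mem_sup_left (hbr0 t (hm t) a (hm a))) ha⟩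
    calc Nat.card ↥A ≤ Nat.card ↥(Z ⊔ A) :=
          Nat.le_of_dvd Nat.card_pos (card_dvd_of_le le_sup_right)
      _ ≤ 4 := K.hyp.small _ hn hA'
      _ = 2 ^ 2 := rfl
  -- the centre is a four-group, not central
  have hZle : Nat.card ↥Z ≤ 4 := K.hyp.small _ K.Z_normal hZ2
  obtain ⟨x₀, hx₀⟩ : ∃ x, x ∉ D0 := by
    by_contra hn
    push Not at hn
    exact htop (eq_top_iff.2 fun x _ => hn x)
  obtain ⟨e, he, hxe⟩ : ∃ e ∈ Z, x₀ * e ≠ e * x₀ := by
    by_contra hn; push Not at hn; exact hx₀ (hD0m.2 hn)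
  have he1 : e ≠ 1 := fun h => hxe (by rw [h, mul_one, one_mul])
  set e' := x₀ * e * x₀⁻¹ with he'
  have he'Z : e' ∈ Z := K.Z_normal.conj_mem e he x₀
  have hee' : e' ≠ e := fun h => hxe (mul_inv_eq_iff_eq_mul.1 h)
  have he'1 : e' ≠ 1 := fun h => he1 (conj_eq_one_iff.1 h)
  have hfour : ∀ z ∈ Z, z = 1 ∨ z = e ∨ z = e' ∨ z = e * e' := by
    classical
    letI : Fintype ↥Z := Fintype.ofFinite _
    intro z hz
    have h3 : e * e' ≠ 1 := fun h => hee' ((inv_eq_of_mul_eq_one_right h).symm.trans (inv_eq_of_mul_eq_one_right (hZ2 e he)))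
    have huniv : ({1, ⟨e, he⟩, ⟨e', he'Z⟩, ⟨e * e', mul_mem he he'Z⟩} : Finset ↥Z) = Finset.univ := by
      refine Finset.eq_univ_of_card _ (le_antisymm (Finset.card_le_univ _) ?_)
      rw [← Nat.card_eq_fintype_card]
      refine hZle.trans (le_of_eq ?_)
      simp [Subtype.ext_iff, he1.symm, he'1.symm, h3.symm, hee'.symm, he1, he'1]
    have := huniv ▸ Finset.mem_univ (⟨z, hz⟩ : ↥Z)
    simpa [Subtype.ext_iff] using this
  have hZ4 : Nat.card ↥Z = 4 := by
    obtain ⟨k, hk⟩ := IsPGroup.iff_card.1 (hP.to_subgroup Z)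
    have h3 : 3 ≤ Nat.card ↥Z := by
      classical
      letI : Fintype ↥Z := Fintype.ofFinite _
      rw [Nat.card_eq_fintype_card]
      refine le_trans (le_of_eq ?_) (Finset.card_le_univ ({1, ⟨e, he⟩, ⟨e', he'Z⟩} : Finset ↥Z))
      simp [Subtype.ext_iff, he1.symm, he'1.symm, hee'.symm]
    rw [hk] at hZle h3 ⊢
    have : k ≤ 2 := (Nat.pow_le_pow_iff_right (by norm_num : 1 < 2)).1 (hZle.trans (by norm_num : 4 ≤ 2 ^ 2))
    interval_cases k <;> simp_all
  -- a third element is central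
  obtain ⟨c, hcZ, hc1, hcc⟩ : ∃ c ∈ Z, c ≠ 1 ∧ ∀ t, t * c * t⁻¹ = c := by
    haveI : Nontrivial P := ⟨⟨e, 1, he1⟩⟩
    haveI : Fact (Nat.Prime 2) := ⟨Nat.prime_two⟩
    haveI := hP.isNilpotent
    obtain ⟨c, hc, hc1⟩ := (Subgroup.bot_or_exists_ne_one _).resolve_left
      (Cfsg.Agent.Grp.inf_center_ne_bot Z fun h => he1 (by rwa [h, mem_bot] at he))
    exact ⟨c, (mem_inf.1 hc).1, hc1, fun t => by
      rw [mem_center_iff.1 (mem_inf.1 hc).2 t, mul_inv_cancel_right]⟩
  have hee : ∀ t, t * e * t⁻¹ = e ∨ t * e * t⁻¹ = e' := fun t => by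
    have hc' : c = e * e' := by
      rcases hfour c hcZ with h | h | h | h
      · exact absurd h hc1
      · exact absurd (show e' = e by have h1 := hcc x₀; rwa [h] at h1) hee'
      · exfalso
        have h1 := hcc x₀
        rw [h, he'] at h1
        exact hee' (mul_left_cancel (mul_right_cancel h1))
      · exact h
    rcases hfour _ (K.Z_normal.conj_mem e he t) with h | h | h | h
    · exact absurd (conj_eq_one_iff.1 h) he1
    · exact Or.inl h
    · exact Or.inr h
    · exfalso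
      rw [← hc'] at h
      have h2 : e = c := mul_left_cancel (mul_right_cancel (h.trans (hcc t).symm))
      rw [hc', left_eq_mul] at h2
      exact he'1 h2
  have hfix_e : ∀ t, t * e * t⁻¹ = e → t ∈ D0 := fun t ht => hD0m.2 fun z hz => by
    have hte : t * e = e * t := mul_inv_eq_iff_eq_mul.1 ht
    have hte' : t * e' = e' * t := by
      rcases hfour c hcZ with h | h | h | h
      · exact absurd h hc1
      · exfalso
        have h1 := hcc x₀
        rw [h] at h1
        exact hee' h1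
      · exact h ▸ mul_inv_eq_iff_eq_mul.1 (hcc t)
      · have h4 : e' = e * c := by rw [h, ← mul_assoc, hZ2 e he, one_mul]
        rw [h4, ← mul_assoc, hte, mul_assoc, mul_inv_eq_iff_eq_mul.1 (hcc t), ← mul_assoc]
    rcases hfour z hz with rfl | rfl | rfl | rfl
    · rw [mul_one, one_mul]
    · exact hte
    · exact hte'
    · rw [← mul_assoc, hte, mul_assoc, hte', ← mul_assoc]
  have hidx : Nat.card P ≤ 2 * Nat.card ↥D0 := by
    have h1 := card_le_two_mul ⊤ D0 fun a _ b _ ha hb => by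
      have ha' := (hee a).resolve_left fun h => ha (hfix_e a h)
      have hb' := (hee b).resolve_left fun h => hb (hfix_e b h)
      refine hfix_e _ ?_
      calc a⁻¹ * b * e * (a⁻¹ * b)⁻¹ = a⁻¹ * (b * e * b⁻¹) * a := by group
        _ = e := by rw [hb', ← ha']; group
    rwa [top_inf_eq, card_top] at h1
  -- sectional rank
  have h16 : Nat.card ↥D0 ≤ 16 * Nat.card ↥Z := by
    have hsec := Cfsg.Agent.S0501.result hP fun A hA _ h2 => K.hyp.small A hA fun a ha => by
      rw [← pow_two]; exact h2 a ha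
    have h1 := hsec D0 (Z.subgroupOf D0) ⊤
      ⟨⟨fun a b => Subtype.ext (by
        suffices hcq : ∀ p q : ↥D0 ⧸ Z.subgroupOf D0, p * q = q * p from hcq a b
        intro p q
        induction p using QuotientGroup.induction_on with
        | H x =>
          induction q using QuotientGroup.induction_on with
          | H y =>
            rw [← QuotientGroup.mk_mul, ← QuotientGroup.mk_mul]
            refine QuotientGroup.eq.2 ?_
            rw [mem_subgroupOf, show (((x * y)⁻¹ * (y * x) : ↥D0) : P) = br (y : P)⁻¹ (x : P)⁻¹ by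
              simp only [br, coe_mul, coe_inv]; group]
            exact hbr0 _ (inv_mem y.2) _ (inv_mem x.2))⟩⟩
      (fun q _ => by
        induction q using QuotientGroup.induction_on with
        | H x =>
          rw [← QuotientGroup.mk_pow, QuotientGroup.eq_one_iff, mem_subgroupOf, pow_two]
          exact hsq0 _ x.2)
    rw [card_top, ← index_eq_card] at h1
    have h2 := card_mul_index (Z.subgroupOf D0)
    have hZD : Z ≤ D0 := fun z hz => hD0m.2 fun w hw => K.Zc z hz w hw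
    rw [Nat.card_congr (Subgroup.subgroupOfEquivOfLe hZD).toEquiv] at h2
    rw [← h2, mul_comm]
    exact Nat.mul_le_mul_right _ (h1.trans (by norm_num))
  have hCD : C ≤ D0 := fun x hx => hD0m.2 fun z hz => (K.zc z hz x hx).symm
  have hC16 : 16 ≤ Nat.card ↥C := by
    obtain ⟨x, hx, hxm⟩ := K.moves hne
    have hxZ : x ∉ Z := fun h => hxm (mul_mem (inv_mem h) (K.Z_map φ h))
    have hxx := K.sq x hx
    have hle : Z ⊔ zpowers x ≤ C := sup_le K.Z_le (zpowers_le.2 hx)
    haveI hAn : (Z ⊔ zpowers x).Normal := ⟨fun a ha t => by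
      rw [conj_eq_br]; exact mul_mem (mem_sup_left (K.comm t a (hle ha))) ha⟩
    have hy : φ x ∉ Z ⊔ zpowers x := fun h => by
      rcases mem_adj hxx h with e1 | e1
      · exact hxZ (by simpa using K.Z_map φ.symm e1)
      · exact hxm (by simpa [mul_assoc] using K.Z_normal.conj_mem _ e1 x⁻¹)
    have h2 := card_adj (mem_sup_left (K.sq _ (K.C_map φ hx))) hy
    rw [card_adj hxx hxZ, hZ4] at h2
    have h3 := Nat.le_of_dvd Nat.card_pos
      (card_dvd_of_le (sup_le hle (zpowers_le.2 (K.C_map φ hx))))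
    omega
  have hDlt : Nat.card ↥D0 < Nat.card P := by
    rw [← card_top (G := P)]
    exact lt_of_le_of_ne (Nat.le_of_dvd Nat.card_pos (card_dvd_of_le le_top)) fun h =>
      htop (eq_of_le_of_card_ge le_top h.ge)
  obtain ⟨k, hk⟩ := IsPGroup.iff_card.1 hP
  obtain ⟨j, hj⟩ := IsPGroup.iff_card.1 (hP.to_subgroup D0)
  have hCD' := Nat.le_of_dvd Nat.card_pos (card_dvd_of_le hCD)
  rw [hk] at hidx hDlt ⊢
  rw [hj] at hidx hDlt hCD' h16
  have hk7 : k ≤ 7 := (Nat.pow_le_pow_iff_right (by norm_num : 1 < 2)).1 (by omega)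
  have hk5 : 5 ≤ k := by
    by_contra hlt
    have h4 : 2 ^ k ≤ 2 ^ 4 := Nat.pow_le_pow_right (by norm_num) (by omega)
    omega
  have hjk : j + 1 = k := by
    have h4 : 2 ^ k ≤ 2 ^ (j + 1) := by rw [pow_succ]; omega
    have h5 := (Nat.pow_lt_pow_iff_right (by norm_num : 1 < 2)).1 hDlt
    have h6 := (Nat.pow_le_pow_iff_right (by norm_num : 1 < 2)).1 h4
    omega
  interval_cases k <;> norm_num at hidx hDlt ⊢
  obtain rfl : j = 4 := by omega
  norm_num at hj hCD'
  -- order 32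
  have hC : D0 = C := (eq_of_le_of_card_ge hCD (by rw [hj]; omega)).symm
  intro A hA h2
  have hAC : ∀ a ∈ A, a ∈ C → a ∈ Z := fun a ha haC => by
    by_contra haZ
    exact normal_eight K.hyp K.Z_normal hZ4.ge hZ2 haZ (by rw [← pow_two]; exact h2 a ha)
      (fun z hz => K.zc z hz a haC) (fun t => K.comm t a haC)
  by_contra hlt
  push Not at hlt
  have h1 := card_le_two_mul A C fun a _ b _ ha hb => by
    rw [← hC] at ha hb ⊢
    have ha' := (hee a).resolve_left fun h => ha (hfix_e a h)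
    have hb' := (hee b).resolve_left fun h => hb (hfix_e b h)
    refine hfix_e _ ?_
    calc a⁻¹ * b * e * (a⁻¹ * b)⁻¹ = a⁻¹ * (b * e * b⁻¹) * a := by group
      _ = e := by rw [hb', ← ha']; group
  have hle : A ⊓ C ≤ Z := fun a ha => hAC a ha.1 ha.2
  obtain ⟨i, hi⟩ := IsPGroup.iff_card.1 (hP.to_subgroup (A ⊓ C))
  have hi2 : 2 ≤ i := by
    by_contra hi'
    have h4 : 2 ^ i ≤ 2 ^ 1 := Nat.pow_le_pow_right (by norm_num) (by omega)
    omega
  have hi4 : 2 ^ 2 ≤ 2 ^ i := Nat.pow_le_pow_right (by norm_num) hi2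
  have heq : A ⊓ C = Z := eq_of_le_of_card_ge hle (by omega)
  have hAD : A ≤ D0 := fun a ha => hD0m.2 fun z hz =>
    setLike_mul_comm ha (mem_inf.1 (heq.symm ▸ hz : z ∈ A ⊓ C)).1
  have : A ≤ Z := fun a ha => hAC a ha (hC ▸ hAD ha)
  have := Nat.le_of_dvd Nat.card_pos (card_dvd_of_le this)
  omega

end Crit

end Cfsg.Agent.Transfer.NTwo
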