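import Cfsg.Agent.Lib.Transfer.NormalTwo.FourCentre

/-!
# An abelian self-centralising critical subgroup (for S3311)
-/

set_option autoImplicit false

namespace Cfsg.Agent.Transfer.NTwo

open Subgroup
open Cfsg.Agent.Invol (NoSCN.Rot)

variable {P : Type*} [Group P] {φ : MulAut P}

/-- A central four-group containing the involutions of a subgroup of index two, all of whose translates of an
outer involution are conjugate to it. -/
def Flip (P : Type*) [Group P] : Prop :=
  ∃ E Q : Subgroup P, Q.index = 2 ∧ E ≤ Q ∧ (∀ t, ∀ e ∈ E, t * e = e * t) ∧ Nat.card ↥E = 4 ∧ (∀ e ∈ E, e * e = 1) ∧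
    (∀ u ∈ Q, u * u = 1 → u ∈ E) ∧ (∀ v, v * v = 1 → v ∉ E → ∀ e ∈ E, ∃ x, x * v * x⁻¹ = v * e) ∧
    ∃ v, v ∉ Q ∧ v * v = 1

/-- A homocyclic self-centralising subgroup of exponent `2 ^ m` permuted by `φ`. -/
structure Hom (φ : MulAut P) (A E : Subgroup P) (m : ℕ) : Prop where
  hyp : Hyp φ
  normal : A.Normal
  Ac : ∀ a ∈ A, ∀ b ∈ A, a * b = b * a
  cc : ∀ x, (∀ a ∈ A, x * a = a * x) → x ∈ A
  Aφ : ∀ a ∈ A, φ a ∈ A
  mem_E : ∀ e, e ∈ E ↔ e ∈ A ∧ e * e = 1
  rot : NoSCN.Rot φ E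
  four : Nat.card ↥E = 4
  cen : ∀ t, ∀ e ∈ E, t * e = e * t
  three : ∀ y, φ (φ (φ y)) = y
  exp : ∀ a ∈ A, a ^ 2 ^ m = 1
  root : ∀ e ∈ E, ∀ k, k + 1 = m → ∃ a ∈ A, a ^ 2 ^ k = e
  pos : 0 < m

theorem Crit.hom [Finite P] {Z C : Subgroup P} (K : Crit φ Z C) (hab : ∀ x ∈ C, x ∈ Z) :
    ∃ E m, Hom φ C E m := by
  classical
  have hP := K.hyp.pgroup
  have Ac : ∀ a ∈ C, ∀ b ∈ C, a * b = b * a := fun a ha b hb => K.zc a (hab a ha) b hb
  have hmv : ∃ v ∈ omega C Ac, φ v ≠ v := by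
    by_contra hm
    push Not at hm
    exact K.hyp.ne_one (K.faithful K.hyp.odd
      (fixed_abelian hP K.hyp.odd Ac (fun a ha => K.C_map φ ha) fun d hd hd2 => hm d ⟨hd, hd2⟩))
  obtain ⟨v, hv, hvm⟩ := hmv
  obtain ⟨hrot, h4⟩ := Cfsg.Agent.Invol.NoSCN.rot_of_moved K.hyp.odd (K.hyp.omega_le K.C_normal Ac)
    (fun w hw => ⟨K.C_map φ hw.1, by rw [← map_mul, hw.2, map_one]⟩) (fun w hw => hw.2) hv hvm
  set E := omega C Ac with hE
  have hcen : ∀ t, ∀ e ∈ E, t * e = e * t := by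
    haveI : E.Normal := omega_normal K.C_normal Ac
    haveI : Fact (Nat.Prime 2) := ⟨Nat.prime_two⟩
    haveI := hP.isNilpotent
    obtain ⟨c, hc, hc1⟩ := (Subgroup.bot_or_exists_ne_one _).resolve_left
      (Cfsg.Agent.Grp.inf_center_ne_bot E fun e => hvm (by rw [e, mem_bot] at hv; rw [hv, map_one]))
    have hcE := (mem_inf.1 hc).1
    have hcZ := (mem_inf.1 hc).2
    have hmap : ∀ x ∈ center P, φ x ∈ center P := fun x hx => mem_center_iff.2 fun t => by
      have := congrArg φ (mem_center_iff.1 hx (φ.symm t))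
      rwa [map_mul, map_mul, MulEquiv.apply_symm_apply] at this
    intro t e he
    rcases hrot.all c hcE hc1 e he with rfl | rfl | rfl | rfl
    · rw [mul_one, one_mul]
    · exact mem_center_iff.1 hcZ t
    · exact mem_center_iff.1 (hmap c hcZ) t
    · exact mem_center_iff.1 (hmap _ (hmap c hcZ)) t
  have hψ : φ ^ 3 = 1 := K.faithful (K.hyp.odd.of_dvd_nat (orderOf_pow_dvd 3))
    (fixed_abelian hP (K.hyp.odd.of_dvd_nat (orderOf_pow_dvd 3)) Ac (fun a ha => K.C_map _ ha)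
      fun d hd hd2 => hrot.three (show d ∈ E from ⟨hd, hd2⟩))
  have hexp : ∃ m, ∀ a ∈ C, a ^ 2 ^ m = 1 := by
    obtain ⟨k, hk⟩ := IsPGroup.iff_card.1 hP
    exact ⟨k, fun a _ => by rw [← hk]; exact pow_card_eq_one'⟩
  have hspec := Nat.find_spec hexp
  have hpos : 0 < Nat.find hexp := Nat.pos_of_ne_zero fun e => by
    have h1 := hspec v hv.1
    rw [e, pow_zero, pow_one] at h1
    exact hvm (by rw [h1, map_one])
  refine ⟨E, Nat.find hexp, K.hyp, K.C_normal, Ac, fun x hx => K.cc x hx, fun a ha => K.C_map φ ha,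
    fun e => Iff.rfl, hrot, h4, hcen, fun y => congrArg (fun f : MulAut P => f y) hψ, hspec, ?_, hpos⟩
  intro e he k hk
  obtain ⟨a, ha, hak⟩ : ∃ a ∈ C, a ^ 2 ^ k ≠ 1 := by
    by_contra hn
    push Not at hn
    exact Nat.find_min hexp (show k < Nat.find hexp by omega) hn
  have hw : a ^ 2 ^ k ∈ E := ⟨pow_mem ha _, by
    rw [← pow_two, ← pow_mul, ← pow_succ, hk]; exact hspec a ha⟩
  rcases hrot.all _ hw hak e he with e' | e' | e' | e' <;> subst e'
  · exact ⟨1, one_mem _, one_pow _⟩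
  · exact ⟨a, ha, rfl⟩
  · exact ⟨φ a, K.C_map φ ha, (map_pow φ a _).symm⟩
  · exact ⟨φ (φ a), K.C_map φ (K.C_map φ ha), by rw [map_pow, map_pow]⟩

namespace Hom

variable {A E : Subgroup P} {m : ℕ} (H : Hom φ A E m)
include H

theorem E_le : E ≤ A := fun e he => ((H.mem_E e).1 he).1

theorem mul_pow {a b : P} (ha : a ∈ A) (hb : b ∈ A) (k : ℕ) : (a * b) ^ k = a ^ k * b ^ k :=
  (show Commute a b from H.Ac a ha b hb).mul_pow k

theorem br_mem {t a : P} (ha : a ∈ A) : br t a ∈ A := mul_mem (H.normal.conj_mem a ha t) (inv_mem ha)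

theorem conjA (t : P) {a : P} (ha : a ∈ A) : t * a * t⁻¹ = br t a * a := conj_eq_br t a

theorem br_mul {t a b : P} (ha : a ∈ A) (hb : b ∈ A) : br t (a * b) = br t a * br t b := by
  calc br t (a * b) = br t a * (a * br t b * a⁻¹) := by simp only [br]; group
    _ = _ := by rw [H.Ac a ha _ (H.br_mem hb), mul_inv_cancel_right]

theorem br_pow {t a : P} (ha : a ∈ A) (k : ℕ) : br t (a ^ k) = br t a ^ k := by
  induction k with
  | zero => simp [br]
  | succ k ih => rw [pow_succ, H.br_mul (pow_mem ha k) ha, ih, pow_succ]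

theorem br_comp (s t : P) {a : P} (ha : a ∈ A) : br (s * t) a = br s (br t a) * br t a * br s a := by
  rw [show br (s * t) a = s * br t a * s⁻¹ * br s a by simp only [br]; group, H.conjA s (H.br_mem ha)]

theorem br_E (t : P) {e : P} (he : e ∈ E) : br t e = 1 := br_eq_one.2 (H.cen t e he)

theorem fpf : ∀ a ∈ A, φ a = a → a = 1 := by
  intro a ha h
  obtain ⟨k, hk⟩ := H.hyp.pgroup a
  induction k generalizing a with
  | zero => simpa using hk
  | succ k ih =>
    have h2 : a * a = 1 := ih (a * a) (mul_mem ha ha) (by rw [map_mul, h]) (by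
      rw [← pow_two, ← pow_mul, ← pow_succ']; exact hk)
    exact H.rot.ne a ((H.mem_E a).2 ⟨ha, h2⟩) h

theorem exists_root : ∀ j k, j + k = m → ∀ a ∈ A, a ^ 2 ^ j = 1 → ∃ b ∈ A, b ^ 2 ^ k = a := by
  intro j
  induction j with
  | zero => intro k _ a _ h; exact ⟨1, one_mem A, by rw [one_pow]; simpa using h.symm⟩
  | succ j ih =>
    intro k hjk a ha h
    have he : a ^ 2 ^ j ∈ E := (H.mem_E _).2 ⟨pow_mem ha _, by
      rw [← pow_two, ← pow_mul, ← pow_succ]; exact h⟩
    obtain ⟨c, hc, hce⟩ := H.root _ he (j + k) (by omega)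
    have h1 : (a * (c ^ 2 ^ k)⁻¹) ^ 2 ^ j = 1 := by
      rw [H.mul_pow ha (inv_mem (pow_mem hc _)), inv_pow, ← pow_mul, ← pow_add, add_comm k j, hce, mul_inv_cancel]
    obtain ⟨b, hb, hbe⟩ := ih (k + 1) (by omega) _ (mul_mem ha (inv_mem (pow_mem hc _))) h1
    refine ⟨b * b * c, mul_mem (mul_mem hb hb) hc, ?_⟩
    rw [H.mul_pow (mul_mem hb hb) hc, ← pow_two, ← pow_mul, ← pow_succ', hbe, inv_mul_cancel_right]

theorem normal_eight' [Finite P] {u : P} (hu2 : u * u = 1) (huA : u ∉ A) (h : ∀ t, br t u ∈ E) : False := by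
  refine normal_eight H.hyp ⟨fun e he t => ?_⟩ H.four.ge (fun e he => H.rot.sq e he) (fun hu => huA (H.E_le hu)) hu2
    (fun e he => (H.cen u e he).symm) h
  rw [H.cen t e he, mul_inv_cancel_right]; exact he

theorem fixed_lift [Finite P] {N : Subgroup P} (hN : ∀ x ∈ N, φ x ∈ N) (hf : ∀ x ∈ N, φ x = x → x = 1) {t : P}
    (ht : t⁻¹ * φ t ∈ N) : ∃ a ∈ N, φ (t * a) = t * a := by
  have hinj : Function.Injective fun a : ↥N => (⟨(a : P) * (φ a)⁻¹, mul_mem a.2 (inv_mem (hN a a.2))⟩ : ↥N) := by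
    intro a b e
    have e1 : (a : P) * (φ a)⁻¹ = b * (φ b)⁻¹ := congrArg Subtype.val e
    refine Subtype.ext ?_
    have h1 : φ ((b : P)⁻¹ * a) = (b : P)⁻¹ * a := by
      rw [map_mul, map_inv]
      calc (φ b)⁻¹ * φ a = (b : P)⁻¹ * (b * (φ b)⁻¹) * φ a := by group
        _ = _ := by rw [← e1]; group
    exact (inv_mul_eq_one.1 (hf _ (mul_mem (inv_mem b.2) a.2) h1)).symm
  obtain ⟨a, ha⟩ := Finite.surjective_of_injective hinj ⟨_, ht⟩
  refine ⟨a, a.2, ?_⟩
  have h1 : (a : P) * (φ a)⁻¹ = t⁻¹ * φ t := congrArg Subtype.val ha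
  rw [map_mul, show φ t = t * (t⁻¹ * φ t) by group, ← h1]
  group

/-- Exponent two. -/
theorem one_case [Finite P] (hm : m = 1) : Nat.card P = 4 := by
  have hA : A = ⊤ := eq_top_iff.2 fun t _ => H.cc t fun a ha => H.cen t a ((H.mem_E a).2 ⟨ha, by
    rw [← pow_two]; simpa [hm] using H.exp a ha⟩)
  have hE : E = ⊤ := eq_top_iff.2 fun t _ => (H.mem_E t).2 ⟨hA ▸ mem_top t, by
    rw [← pow_two]; simpa [hm] using H.exp t (hA ▸ mem_top t)⟩
  rw [← card_top (G := P), ← hE, H.four]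

theorem rank_two_of_inv (h : ∀ u : P, u * u = 1 → u ∈ E) [Finite P] : Cfsg.PRankLE 2 2 P := fun B _ h2 =>
  (Nat.le_of_dvd Nat.card_pos (card_dvd_of_le fun b hb => h b (by rw [← pow_two]; exact h2 b hb))).trans H.four.le

/-- Exponent four. -/
theorem two_case [Finite P] (hm : m = 2) : Nat.card P = 64 ∨ Nat.card P = 128 ∨ Cfsg.PRankLE 2 2 P := by
  classical
  haveI := H.normal
  subst hm
  have hsqE : ∀ a ∈ A, a * a ∈ E := fun a ha => (H.mem_E _).2 ⟨mul_mem ha ha, by
    rw [← pow_two, ← pow_two, ← pow_mul]; exact H.exp a ha⟩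
  have hδE : ∀ t, ∀ a ∈ A, br t a ∈ E := fun t a ha => (H.mem_E _).2 ⟨H.br_mem ha, by
    rw [← H.br_mul ha ha, H.br_E t (hsqE a ha)]⟩
  have hδhom : ∀ s t, ∀ a ∈ A, br (s * t) a = br t a * br s a := fun s t a ha => by
    rw [H.br_comp s t ha, H.br_E s (hδE t a ha), one_mul]
  have hkill : ∀ s t, br s t ∈ A := fun s t => H.cc _ fun a ha => br_eq_one.1 (by
    have h1 : ∀ x, br x⁻¹ a = br x a := fun x => by
      have h := hδhom x⁻¹ x a ha
      rw [inv_mul_cancel, show br 1 a = 1 by simp [br]] at h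
      exact (eq_inv_of_mul_eq_one_right h.symm).trans
        (inv_eq_of_mul_eq_one_right (H.rot.sq _ (hδE x a ha)))
    have hs := H.rot.sq _ (hδE s a ha)
    have ht := H.rot.sq _ (hδE t a ha)
    rw [show br s t = s * t * s⁻¹ * t⁻¹ from rfl, hδhom _ _ a ha, hδhom _ _ a ha, hδhom _ _ a ha, h1, h1,
      H.rot.comm (hδE t a ha) (hδE s a ha), ← mul_assoc, H.rot.comm (hδE t a ha) (hδE s a ha)]
    exact H.rot.sq _ (mul_mem (hδE s a ha) (hδE t a ha)))
  obtain ⟨e0, he0, he01⟩ : ∃ e ∈ E, e ≠ 1 := by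
    by_contra hn
    push Not at hn
    have h := H.four
    rw [(eq_bot_iff_forall _).2 hn, card_bot] at h
    omega
  obtain ⟨a0, ha0, ha0e⟩ := H.root e0 he0 1 rfl
  rw [pow_one, pow_two] at ha0e
  have hprod : φ (φ a0) = (a0 * φ a0)⁻¹ := by
    refine eq_inv_of_mul_eq_one_right (H.fpf _ (mul_mem (mul_mem ha0 (H.Aφ _ ha0)) (H.Aφ _ (H.Aφ _ ha0))) ?_)
    rw [map_mul, map_mul, H.three]
    rw [H.Ac _ (mul_mem (H.Aφ _ ha0) (H.Aφ _ (H.Aφ _ ha0))) a0 ha0, mul_assoc]
  have hgen : ∀ t t', br t a0 = br t' a0 → br t (φ a0) = br t' (φ a0) → ∀ a ∈ A, br t a = br t' a := by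
    intro t t' h0 h1 a ha
    have h2 : br t (φ (φ a0)) = br t' (φ (φ a0)) := by
      have e1 : ∀ x, br x (φ (φ a0)) = (br x a0 * br x (φ a0))⁻¹ := fun x => by
        rw [hprod]
        refine eq_inv_of_mul_eq_one_right ?_
        rw [← H.br_mul ha0 (H.Aφ _ ha0), ← H.br_mul (mul_mem ha0 (H.Aφ _ ha0)) (inv_mem (mul_mem ha0 (H.Aφ _ ha0))),
          mul_inv_cancel]
        simp [br]
      rw [e1, e1, h0, h1]
    have key : ∀ y ∈ A, y * y = a * a → br t y = br t' y → br t a = br t' a := fun y hy he hyy => by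
      have hd : y⁻¹ * a ∈ E := (H.mem_E _).2 ⟨mul_mem (inv_mem hy) ha, by
        rw [← pow_two, H.mul_pow (inv_mem hy) ha, inv_pow, pow_two, pow_two, he, inv_mul_cancel]⟩
      have e2 := fun x => H.br_mul (t := x) hy (H.E_le hd)
      have e3 := e2 t
      have e4 := e2 t'
      rw [mul_inv_cancel_left, H.br_E _ hd, mul_one] at e3 e4
      rw [e3, e4, hyy]
    rcases H.rot.all e0 he0 he01 _ (hsqE a ha) with e | e | e | e
    · exact key 1 (one_mem A) (by rw [one_mul, e]) (by simp [br])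
    · exact key a0 ha0 (by rw [ha0e, e]) h0
    · exact key (φ a0) (H.Aφ _ ha0) (by rw [← map_mul, ha0e, e]) h1
    · exact key (φ (φ a0)) (H.Aφ _ (H.Aφ _ ha0)) (by rw [← map_mul, ← map_mul, ha0e, e]) h2
  have hsame : ∀ t x, x ∈ A → ∀ a ∈ A, br (t * x) a = br t a := fun t x hx a ha => by
    rw [hδhom t x a ha, br_eq_one.2 (H.Ac x hx a ha), one_mul]
  have hmodA : ∀ t t', (∀ a ∈ A, br t a = br t' a) → t⁻¹ * t' ∈ A := fun t t' h => H.cc _ fun a ha => br_eq_one.1 (by
    have h1 := hδhom t (t⁻¹ * t') a ha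
    rw [mul_inv_cancel_left, ← h a ha] at h1
    exact mul_eq_right.1 h1.symm)
  let Φ : P ⧸ A → ↥E × ↥E := fun q => Quotient.liftOn' q
    (fun t => (⟨br t a0, hδE t a0 ha0⟩, ⟨br t (φ a0), hδE t _ (H.Aφ _ ha0)⟩)) fun t t' e => by
      rw [QuotientGroup.leftRel_apply] at e
      have e' : t' = t * (t⁻¹ * t') := by group
      simp only [Prod.mk.injEq, Subtype.mk.injEq]
      rw [e', hsame t _ e _ ha0, hsame t _ e _ (H.Aφ _ ha0)]
      exact ⟨rfl, rfl⟩
  have hΦ : Function.Injective Φ := by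
    intro q q'
    induction q using Quotient.inductionOn' with
    | h t =>
      induction q' using Quotient.inductionOn' with
      | h t' =>
        intro e
        have e1 := congrArg (fun p : ↥E × ↥E => (p.1 : P)) e
        have e2 := congrArg (fun p : ↥E × ↥E => (p.2 : P)) e
        exact Quotient.sound' (QuotientGroup.leftRel_apply.2 (hmodA t t' (hgen t t' e1 e2)))
  have hidx : A.index ≤ 16 := by
    have := Nat.card_le_card_of_injective Φ hΦ
    rwa [Nat.card_prod, H.four] at this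
  have hcardA : Nat.card ↥A = 16 := by
    let sqh : ↥A →* ↥E :=
      { toFun := fun z => ⟨z * z, hsqE z z.2⟩
        map_one' := Subtype.ext (one_mul _)
        map_mul' := fun a b => Subtype.ext (by
          show (a : P) * b * (a * b) = a * a * (b * b)
          rw [← pow_two, H.mul_pow a.2 b.2, pow_two, pow_two]) }
    have hker : Nat.card ↥sqh.ker = Nat.card ↥E :=
      Nat.card_congr
        { toFun := fun z => ⟨z.1.1, (H.mem_E _).2 ⟨z.1.2, congrArg Subtype.val z.2⟩⟩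
          invFun := fun z => ⟨⟨z.1, H.E_le z.2⟩, Subtype.ext (H.rot.sq z.1 z.2)⟩
          left_inv := fun _ => rfl
          right_inv := fun _ => rfl }
    have hsur : sqh.range = ⊤ := eq_top_iff.2 fun e _ => by
      obtain ⟨a, ha, hae⟩ := H.root e e.2 1 rfl
      rw [pow_one, pow_two] at hae
      exact ⟨⟨a, ha⟩, Subtype.ext hae⟩
    rw [← card_mul_index sqh.ker, index_ker, hsur, card_top, hker, H.four]
  have lift : ∀ t, t⁻¹ * φ t ∈ A → ∃ u, φ u = u ∧ u * u = 1 ∧ (t ∉ A → u ∉ A) ∧ ∀ a ∈ A, br u a = br t a := by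
    intro t ht
    obtain ⟨a, ha, hu⟩ := H.fixed_lift H.Aφ H.fpf ht
    have hsq : t * a * (t * a) ∈ A := H.cc _ fun b hb => br_eq_one.1 (by
      rw [hδhom _ _ b hb, H.rot.sq _ (hδE _ b hb)])
    exact ⟨t * a, hu, H.fpf _ hsq (by rw [map_mul, hu]), fun h e => h ((mul_mem_cancel_right ha).1 e),
      hsame t a ha⟩
  obtain ⟨k, hk⟩ := IsPGroup.iff_card.1 H.hyp.pgroup
  have hcm := A.card_mul_index
  rw [hcardA, hk] at hcm
  have hi0 : A.index ≠ 0 := FiniteIndex.index_ne_zero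
  have hk4 : 4 ≤ k := (Nat.pow_le_pow_iff_right (by norm_num : 1 < 2)).1 (by
    rw [← hcm]; norm_num; omega)
  have hk8 : k ≤ 8 := (Nat.pow_le_pow_iff_right (by norm_num : 1 < 2)).1 (by
    rw [← hcm]; norm_num; omega)
  rw [hk]
  interval_cases k
  · refine Or.inr (Or.inr (H.rank_two_of_inv fun u hu => (H.mem_E u).2 ⟨?_, hu⟩))
    exact (index_eq_one.1 (show A.index = 1 by have h : 16 * A.index = 16 := hcm; omega)) ▸ mem_top u
  · exfalso
    have hi2 : A.index = 2 := by norm_num at hcm; omega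
    obtain ⟨t, ht⟩ : ∃ t, t ∉ A := by
      by_contra hn
      push Not at hn
      rw [index_eq_one.2 (eq_top_iff.2 fun x _ => hn x)] at hi2
      omega
    have hφt : φ t ∉ A := fun e => ht (by have := H.Aφ _ (H.Aφ _ e); rwa [H.three] at this)
    obtain ⟨u, hu, hu2, huA, -⟩ := lift t ((mul_mem_iff_of_index_two hi2).2 (by simp [ht, hφt]))
    refine H.normal_eight' hu2 (huA ht) fun s => ?_
    have hinv : ∀ b ∈ A, br b u ∈ E := fun b hb => by
      rw [← br_inv]; exact inv_mem (hδE u b hb)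
    by_cases hs : s ∈ A
    · exact hinv s hs
    · obtain ⟨b, hb, rfl⟩ : ∃ b ∈ A, s = b * u :=
        ⟨s * u⁻¹, (mul_mem_iff_of_index_two hi2).2 (by simp [hs, huA ht]), by group⟩
      rw [show br (b * u) u = br b u by simp only [br]; group]
      exact hinv b hb
  · exact Or.inl rfl
  · exact Or.inr (Or.inl rfl)
  · exfalso
    have hi16 : A.index = 16 := by norm_num at hcm; omega
    have hsurj : Function.Surjective Φ := by
      have hbij : Function.Bijective Φ := (Nat.bijective_iff_injective_and_card Φ).2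
        ⟨hΦ, by rw [← index_eq_card, hi16, Nat.card_prod, H.four]⟩
      exact hbij.2
    have mk : ∀ ψ : MulAut P, (∀ x ∈ E, ψ x ∈ E) → (∀ x, ψ (φ x) = φ (ψ x)) →
        ∃ u, φ u = u ∧ u * u = 1 ∧ ∀ a ∈ A, br u a = ψ (a * a) := by
      intro ψ hψ hc
      obtain ⟨q, hq⟩ := hsurj (⟨ψ e0, hψ _ he0⟩, ⟨ψ (φ e0), hψ _ (H.rot.mem _ he0)⟩)
      induction q using Quotient.inductionOn' with
      | h t =>
        have e1 : br t a0 = ψ e0 := congrArg (fun p : ↥E × ↥E => (p.1 : P)) hq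
        have e2 : br t (φ a0) = ψ (φ e0) := congrArg (fun p : ↥E × ↥E => (p.2 : P)) hq
        have hall : ∀ a ∈ A, br t a = ψ (a * a) := by
          intro a ha
          rcases H.rot.all e0 he0 he01 _ (hsqE a ha) with e | e | e | e
          all_goals
            have key : ∀ y ∈ A, y * y = a * a → br t y = ψ (a * a) → br t a = ψ (a * a) := fun y hy he hyy => by
              have hd : y⁻¹ * a ∈ E := (H.mem_E _).2 ⟨mul_mem (inv_mem hy) ha, by
                rw [← pow_two, H.mul_pow (inv_mem hy) ha, inv_pow, pow_two, pow_two, he, inv_mul_cancel]⟩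
              have e3 := H.br_mul (t := t) hy (H.E_le hd)
              rw [mul_inv_cancel_left, H.br_E _ hd, mul_one] at e3
              rw [e3, hyy]
          · exact key 1 (one_mem A) (by rw [one_mul, e]) (by rw [e, map_one]; simp [br])
          · exact key a0 ha0 (by rw [ha0e, e]) (by rw [e, e1])
          · exact key (φ a0) (H.Aφ _ ha0) (by rw [← map_mul, ha0e, e]) (by rw [e, e2])
          · refine key (φ (φ a0)) (H.Aφ _ (H.Aφ _ ha0)) (by rw [← map_mul, ← map_mul, ha0e, e]) ?_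
            have h5 := H.br_mul (t := t) ha0 (H.Aφ _ ha0)
            have h6 : br t (φ (φ a0)) = (br t a0 * br t (φ a0))⁻¹ := by
              rw [hprod, ← h5]
              refine eq_inv_of_mul_eq_one_right ?_
              rw [← H.br_mul (mul_mem ha0 (H.Aφ _ ha0)) (inv_mem (mul_mem ha0 (H.Aφ _ ha0))), mul_inv_cancel]
              simp [br]
            rw [h6, e1, e2, e, ← map_mul, ← H.rot.two e0 he0]
            exact inv_eq_of_mul_eq_one_right (H.rot.sq _ (hψ _ (H.rot.mem _ (H.rot.mem _ he0))))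
        have hφt : ∀ a ∈ A, br (φ t) a = br t a := fun a ha => by
          have ha2 := H.Aφ _ (H.Aφ _ ha)
          rw [← H.three a, ← map_br, hall _ ha2, hall _ (H.Aφ _ ha2), ← hc, map_mul φ]
        obtain ⟨u, hu, hu2, -, hua⟩ := lift t (hmodA t (φ t) fun a ha => (hφt a ha).symm)
        exact ⟨u, hu, hu2, fun a ha => (hua a ha).trans (hall a ha)⟩
    obtain ⟨u, hu, hu2, huδ⟩ := mk 1 (fun x hx => hx) (fun x => rfl)
    obtain ⟨v, hv, hv2, hvδ⟩ := mk φ H.rot.mem (fun x => rfl)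
    obtain ⟨w, hw, hw2, hwδ⟩ := mk (φ * φ) (fun x hx => H.rot.mem _ (H.rot.mem x hx)) (fun x => rfl)
    have hbE : ∀ v : P, v * v = 1 → ∀ (ψ : MulAut P), (∀ a ∈ A, br v a = ψ (a * a)) → (∀ x ∈ E, ψ x = x → x = 1) →
        ∀ s, br s v ∈ E := by
      intro v hv2 ψ hψ hne s
      have hb := hkill s v
      refine (H.mem_E _).2 ⟨hb, ?_⟩
      have h1 : br v (br s v) * br s v = (br s v)⁻¹ := by
        rw [← H.conjA v hb, br_inv]
        calc v * br s v * v⁻¹ = v * s * v * s⁻¹ * (v * v)⁻¹ := by simp only [br]; group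
          _ = v * s * v⁻¹ * s⁻¹ := by rw [hv2, inv_one, mul_one, inv_eq_of_mul_eq_one_right hv2]
      rw [hψ _ hb] at h1
      refine hne _ (hsqE _ hb) ?_
      rw [eq_mul_inv_of_mul_eq h1, ← mul_inv_rev]
      exact inv_eq_of_mul_eq_one_right (H.rot.sq _ (hsqE _ hb))
    have huA : u ∉ A := fun e => he01 (by
      have := huδ a0 ha0
      rw [br_eq_one.2 (H.Ac u e a0 ha0), ha0e, MulAut.one_apply] at this
      exact this.symm)
    refine H.normal_eight' hu2 huA fun s => ?_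
    have huvw : u = v * w := by
      have h1 : u⁻¹ * (v * w) ∈ A := hmodA _ _ fun a ha => by
        rw [hδhom v w a ha, huδ a ha, hvδ a ha, hwδ a ha, MulAut.one_apply, MulAut.mul_apply,
          H.rot.comm (H.rot.mem _ (H.rot.mem _ (hsqE a ha))) (H.rot.mem _ (hsqE a ha)), H.rot.sum (hsqE a ha)]
      exact inv_mul_eq_one.1 (H.fpf _ h1 (by rw [map_mul, map_inv, map_mul, hu, hv, hw]))
    rw [huvw, show br s (v * w) = br s v * (v * br s w * v⁻¹) by simp only [br]; group,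
      H.cen v _ (hbE w hw2 (φ * φ) hwδ (fun x hx e => H.rot.two_ne hx e) s), mul_inv_cancel_right]
    exact mul_mem (hbE v hv2 φ hvδ H.rot.ne s) (hbE w hw2 (φ * φ) hwδ (fun x hx e => H.rot.two_ne hx e) s)

/-- Exponent at least eight. -/
theorem big_case [Finite P] {n : ℕ} (hm : m = n + 3) : Cfsg.PRankLE 2 2 P ∨ Flip P := by
  classical
  haveI := H.normal
  subst hm
  set M := 2 ^ n with hM
  have hE4 : ∀ a ∈ A, a ^ (4 * M) ∈ E := fun a ha => (H.mem_E _).2 ⟨pow_mem ha _, by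
    rw [← pow_two, ← pow_mul, show 4 * M * 2 = 2 ^ (n + 3) by rw [hM]; ring]; exact H.exp a ha⟩
  have hr : ∀ e : P, ∃ a, e ∈ E → a ∈ A ∧ a ^ (4 * M) = e := fun e => by
    by_cases he : e ∈ E
    · obtain ⟨a, ha, h⟩ := H.root e he (n + 2) (by omega)
      exact ⟨a, fun _ => ⟨ha, by rw [show 4 * M = 2 ^ (n + 2) by rw [hM]; ring]; exact h⟩⟩
    · exact ⟨1, fun h => absurd h he⟩
  choose r hr using hr
  have hsq : ∀ t, ∀ a ∈ A, ∃ b ∈ A, b * b = br t a := fun t a ha => by
    obtain ⟨b, hb, h⟩ := H.exists_root (n + 2) 1 (by omega) _ (H.br_mem (t := t) ha) (by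
      rw [← H.br_pow ha, show 2 ^ (n + 2) = 4 * M by rw [hM]; ring, H.br_E t (hE4 a ha)])
    exact ⟨b, hb, by rw [← pow_two]; simpa using h⟩
  have hδE : ∀ t, ∀ a ∈ A, br t a ^ (2 * M) ∈ E := fun t a ha => by
    obtain ⟨b, hb, h⟩ := hsq t a ha
    rw [← h, ← pow_two, ← pow_mul, show 2 * (2 * M) = 4 * M by ring]
    exact hE4 b hb
  let δ : P → P → P := fun t e => br t (r e) ^ (2 * M)
  have hδ : ∀ t, ∀ a ∈ A, δ t (a ^ (4 * M)) = br t a ^ (2 * M) := by
    intro t a ha
    obtain ⟨hra, hre⟩ := hr _ (hE4 a ha)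
    obtain ⟨b, hb, hbe⟩ := H.exists_root (n + 2) 1 (by omega) (a⁻¹ * r (a ^ (4 * M)))
      (mul_mem (inv_mem ha) hra) (by
        rw [show 2 ^ (n + 2) = 4 * M by rw [hM]; ring, H.mul_pow (inv_mem ha) hra, inv_pow, hre, inv_mul_cancel])
    have e : r (a ^ (4 * M)) = a * (b * b) := by
      rw [← pow_two, show b ^ 2 = a⁻¹ * r (a ^ (4 * M)) by simpa using hbe, mul_inv_cancel_left]
    show br t (r (a ^ (4 * M))) ^ (2 * M) = _
    rw [e, H.br_mul ha (mul_mem hb hb), H.mul_pow (H.br_mem ha) (H.br_mem (mul_mem hb hb)), H.br_mul hb hb,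
      ← pow_two, ← pow_mul, show 2 * (2 * M) = 4 * M by ring, ← H.br_pow hb,
      H.br_E t (hE4 b hb), mul_one]
  have hδmem : ∀ t, ∀ e ∈ E, δ t e ∈ E := fun t e he => hδE t _ (hr e he).1
  have hcomp : ∀ s t, ∀ e ∈ E, δ (s * t) e = δ t e * δ s e := by
    intro s t e he
    obtain ⟨hra, -⟩ := hr e he
    show br (s * t) (r e) ^ (2 * M) = _
    obtain ⟨b, hb, hbe⟩ := hsq t _ hra
    rw [H.br_comp s t hra, H.mul_pow (mul_mem (H.br_mem (H.br_mem hra)) (H.br_mem hra)) (H.br_mem hra),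
      H.mul_pow (H.br_mem (H.br_mem hra)) (H.br_mem hra), ← hbe, H.br_mul hb hb]
    obtain ⟨c, hc, hce⟩ := hsq s b hb
    rw [← hce, show (c * c * (c * c)) ^ (2 * M) = c ^ 2 ^ (n + 3) by
      rw [show c * c * (c * c) = c ^ 4 by rw [← pow_two, ← pow_two, ← pow_mul], ← pow_mul, hM]; congr 1; ring, H.exp c hc, one_mul, hbe]
  have hδmul : ∀ t, ∀ e ∈ E, ∀ f ∈ E, δ t (e * f) = δ t e * δ t f := by
    intro t e he f hf
    obtain ⟨h1, h2⟩ := hr e he
    obtain ⟨h3, h4⟩ := hr f hf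
    have := hδ t _ (mul_mem h1 h3)
    rw [H.mul_pow h1 h3, h2, h4, H.br_mul h1 h3, H.mul_pow (H.br_mem h1) (H.br_mem h3)] at this
    exact this
  have hδ1 : ∀ e ∈ E, δ 1 e = 1 := fun e _ => by show br 1 _ ^ _ = _; simp [br]
  have hδA : ∀ x ∈ A, ∀ e ∈ E, δ x e = 1 := fun x hx e he => by
    show br x _ ^ _ = _; rw [br_eq_one.2 (H.Ac x hx _ (hr e he).1), one_pow]
  have hequiv : ∀ t, ∀ e ∈ E, δ (φ t) (φ e) = φ (δ t e) := by
    intro t e he
    obtain ⟨h1, h2⟩ := hr e he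
    have h3 := hδ (φ t) _ (H.Aφ _ h1)
    rw [← map_pow, h2] at h3
    rw [h3, ← map_br, ← map_pow]
  -- the kernel
  let T4 : Subgroup P :=
    { carrier := {t | ∀ e ∈ E, δ t e = 1}
      one_mem' := hδ1
      mul_mem' := fun {s t} hs ht e he => by rw [hcomp s t e he, hs e he, ht e he, one_mul]
      inv_mem' := fun {t} ht e he => by
        have h := hcomp t⁻¹ t e he
        rwa [inv_mul_cancel, hδ1 e he, ht e he, one_mul, eq_comm] at h }
  have hT4 : ∀ {t}, t ∈ T4 ↔ ∀ e ∈ E, δ t e = 1 := fun {t} => Iff.rfl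
  have hT4φ : ∀ t ∈ T4, φ t ∈ T4 := fun t ht e he => by
    rw [← H.rot.three he, hequiv t _ (H.rot.mem _ (H.rot.mem _ he)), ht _ (H.rot.mem _ (H.rot.mem _ he)), map_one]
  have hT4br : ∀ u ∈ T4, ∀ a ∈ A, br u a ^ (2 * M) = 1 := fun u hu a ha => by
    rw [← hδ u a ha]; exact hu _ (hE4 a ha)
  -- no involution in the kernel outside `A`
  have hno : ∀ u ∈ T4, u * u = 1 → u ∈ A := by
    intro u hu hu2
    by_contra huA
    have hinv : ∀ b ∈ A, u * b * u⁻¹ = b⁻¹ → b ^ (2 * (2 * M)) = 1 → b * b = 1 := by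
      intro b hb hbi
      have hbr : br u b = (b * b)⁻¹ := by
        rw [br, hbi, mul_inv_rev]
      suffices ∀ j, j ≤ n + 1 → b ^ 2 ^ (j + 1) = 1 → b * b = 1 by
        intro h
        exact this (n + 1) le_rfl (by rw [show 2 ^ (n + 1 + 1) = 2 * (2 * M) by rw [hM]; ring]; exact h)
      intro j
      induction j with
      | zero => intro _ h; simpa [pow_two] using h
      | succ j ih =>
        intro hj h
        refine ih (by omega) ?_
        obtain ⟨c, hc, hce⟩ := H.exists_root (j + 2) (n + 1 - j) (by omega) b hb h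
        have h5 : (br u b) ^ 2 ^ j = br u c ^ (2 * M) := by
          rw [← hce, H.br_pow hc, ← pow_mul, ← pow_add, show 2 * M = 2 ^ (n + 1) by rw [hM]; ring]
          congr 2; omega
        rw [hT4br u hu c hc, hbr, inv_pow, inv_eq_one, ← pow_two, ← pow_mul, ← pow_succ'] at h5
        exact h5
    have hlam : ∀ a ∈ A, br u a * br u a = 1 := fun a ha => by
      refine hinv _ (H.br_mem ha) ?_ ?_
      · rw [br_inv]
        calc u * br u a * u⁻¹ = (u * u) * a * (u * u)⁻¹ * (u * a * u⁻¹)⁻¹ := by simp only [br]; group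
          _ = br a u := by rw [hu2]; simp only [br]; group
      · rw [mul_comm, pow_mul, hT4br u hu a ha, one_pow]
    have hlE : ∀ a ∈ A, br u a ∈ E := fun a ha => (H.mem_E _).2 ⟨H.br_mem ha, hlam a ha⟩
    have hlconj : ∀ t, ∀ a ∈ A, br u (t * a * t⁻¹) = br u a := fun t a ha => by
      obtain ⟨b, hb, hbe⟩ := hsq t a ha
      rw [H.conjA t ha, H.br_mul (H.br_mem ha) ha, ← hbe, H.br_mul hb hb, hlam b hb, one_mul]
    refine H.normal_eight' hu2 huA fun t => ?_
    have hb : br t u ∈ A := H.cc _ fun a ha => by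
      have key : ∀ a ∈ A, t * u * t⁻¹ * a * (t * u * t⁻¹)⁻¹ = u * a * u⁻¹ := fun a ha => by
        have ha' : t⁻¹ * a * t ∈ A := by simpa using H.normal.conj_mem a ha t⁻¹
        rw [show t * u * t⁻¹ * a * (t * u * t⁻¹)⁻¹ = t * (u * (t⁻¹ * a * t) * u⁻¹) * t⁻¹ by group, H.conjA u ha',
          show t * (br u (t⁻¹ * a * t) * (t⁻¹ * a * t)) * t⁻¹ = t * br u (t⁻¹ * a * t) * t⁻¹ * a by group,
          H.cen t _ (hlE _ ha'), mul_inv_cancel_right, ← hlconj t _ ha',
          show t * (t⁻¹ * a * t) * t⁻¹ = a by group, H.conjA u ha]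
      have ha' : u⁻¹ * a * u ∈ A := by simpa using H.normal.conj_mem a ha u⁻¹
      calc br t u * a = t * u * t⁻¹ * (u⁻¹ * a * u) * (t * u * t⁻¹)⁻¹ * br t u := by simp only [br]; group
        _ = a * br t u := by rw [key _ ha']; group
    have hbi : u * br t u * u⁻¹ = (br t u)⁻¹ := by
      rw [br_inv]
      calc u * br t u * u⁻¹ = u * t * u * t⁻¹ * (u * u)⁻¹ := by simp only [br]; group
        _ = br u t := by rw [hu2, inv_one, mul_one, br, inv_eq_of_mul_eq_one_right hu2]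
    have h2 : br u (br t u) = (br t u * br t u)⁻¹ := by rw [br, hbi, mul_inv_rev]
    have h4 : (br t u) ^ 4 = 1 := by
      have h := hlam _ hb
      rw [h2, ← mul_inv_rev, inv_eq_one] at h
      rw [← h, ← pow_two, ← pow_two, ← pow_mul]
    obtain ⟨c, hc, hce⟩ := H.exists_root 2 (n + 1) (by omega) _ hb (by simpa using h4)
    refine (H.mem_E _).2 ⟨hb, ?_⟩
    rw [← inv_eq_one, ← h2, ← hce, H.br_pow hc, pow_succ', pow_mul, pow_two, hlam c hc, one_pow]
  -- no fixed point in the kernel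
  have hfp : ∀ t ∈ T4, φ t = t → t = 1 := by
    intro t ht hφt
    obtain ⟨k, hk⟩ := H.hyp.pgroup t
    induction k generalizing t with
    | zero => simpa using hk
    | succ k ih =>
      have h2 : t * t = 1 := ih (t * t) (mul_mem ht ht) (by rw [map_mul, hφt]) (by
        rw [← pow_two, ← pow_mul, ← pow_succ']; exact hk)
      exact H.fpf t (hno t ht h2) hφt
  -- the automorphism fixes the quotient
  have hsame : ∀ t, ∀ e ∈ E, δ (φ t) e = δ t e := by
    intro t
    have hxdef : ∀ e ∈ E, δ (φ t) e = δ (t⁻¹ * φ t) e * δ t e := fun e he => by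
      rw [← hcomp t (t⁻¹ * φ t) e he, mul_inv_cancel_left]
    set x := t⁻¹ * φ t
    have hanti : ∀ e ∈ E, δ x (φ e) = φ (φ (δ x e)) := by
      intro e he
      have hx' : ∀ g ∈ E, δ x g = φ (δ t (φ (φ g))) * δ t g := fun g hg => by
        rw [← hequiv t _ (H.rot.mem _ (H.rot.mem _ hg)), H.rot.three hg, hxdef g hg, mul_assoc,
          H.rot.sq _ (hδmem t g hg), mul_one]
      have hfe := hδmem t e he
      have hfp' := hδmem t (φ e) (H.rot.mem _ he)
      rw [hx' _ (H.rot.mem _ he), H.rot.three he, hx' e he, map_mul, map_mul,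
        H.rot.three (hδmem t _ (H.rot.mem _ (H.rot.mem _ he))), H.rot.two e he, hδmul t e he _ (H.rot.mem _ he),
        H.rot.two _ hfe, H.rot.comm hfe hfp', mul_assoc (δ t (φ e)), ← mul_assoc (δ t e) (δ t e),
        H.rot.sq _ hfe, one_mul, H.rot.comm (H.rot.mem _ hfe) hfp']
    intro e he
    rw [hxdef e he]
    suffices h : δ x e = 1 by rw [h, one_mul]
    by_contra hne
    have he1 : e ≠ 1 := fun h => hne (by
      have h1 := hδmul x 1 (one_mem E) 1 (one_mem E)
      rw [mul_one] at h1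
      rw [h]; exact mul_eq_left.1 h1.symm)
    have hN3 : ∀ g ∈ E, φ (φ (φ (φ g))) = φ g := fun g hg => by rw [H.rot.three hg]
    have hNN : ∀ g ∈ E, δ x (δ x g) = g := by
      have base : δ x (δ x e) = e := by
        have hv := hδmem x e he
        rcases H.rot.all e he he1 _ hv with h | h | h | h
        · exact absurd h hne
        · rw [h, h]
        · rw [h, hanti e he, h, H.rot.three he]
        · rw [h, hanti _ (H.rot.mem _ he), hanti e he, h, hN3 _ (H.rot.mem _ he), H.rot.three he]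
      have step : ∀ g ∈ E, δ x (δ x g) = g → δ x (δ x (φ g)) = φ g := fun g hg hh => by
        rw [hanti g hg, hanti _ (H.rot.mem _ (hδmem x g hg)), hanti _ (hδmem x g hg), hh, hN3 g hg]
      intro g hg
      rcases H.rot.all e he he1 g hg with h | h | h | h <;> subst h
      · have h1 : δ x 1 = 1 := by
          have h2 := hδmul x 1 (one_mem E) 1 (one_mem E)
          rw [mul_one] at h2
          exact mul_eq_left.1 h2.symm
        rw [h1, h1]
      · exact base
      · exact step e he base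
      · exact step _ (H.rot.mem _ he) (step e he base)
    set y := φ x
    have hy : ∀ g ∈ E, δ y g = φ (φ (δ x g)) := fun g hg => by
      have h3 := hequiv x _ (H.rot.mem _ (H.rot.mem _ hg))
      rw [H.rot.three hg, hanti _ (H.rot.mem _ hg), hanti g hg, H.rot.three (H.rot.mem _ (hδmem x g hg))] at h3
      · rw [show δ y g = _ from h3]
    set c := br x y
    have hcT : c ∈ T4 := fun g hg => by
      have hinv : ∀ s, δ s⁻¹ g = δ s g := fun s => by
        have h := hcomp s⁻¹ s g hg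
        rw [inv_mul_cancel, hδ1 g hg] at h
        exact (eq_inv_of_mul_eq_one_right h.symm).trans (inv_eq_of_mul_eq_one_right (H.rot.sq _ (hδmem s g hg)))
      have hxs := hδmem x g hg
      have hys := hδmem y g hg
      show δ (x * y * x⁻¹ * y⁻¹) g = 1
      rw [hcomp _ _ g hg, hcomp _ _ g hg, hcomp _ _ g hg, hinv, hinv, H.rot.comm hys hxs,
        ← mul_assoc, H.rot.comm hys hxs]
      exact H.rot.sq _ (mul_mem hxs hys)
    have hεc : ∀ a ∈ A, br c a ^ M = a ^ (4 * M) := by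
      intro a' ha'
      obtain ⟨a, ha, rfl⟩ : ∃ a ∈ A, a' = y * x * a * (y * x)⁻¹ :=
        ⟨(y * x)⁻¹ * a' * (y * x), by simpa using H.normal.conj_mem a' ha' (y * x)⁻¹, by group⟩
      set g := a ^ (4 * M) with hg
      have hgE : g ∈ E := hE4 a ha
      have hpow : (y * x * a * (y * x)⁻¹) ^ (4 * M) = g := by
        rw [conj_pow, H.cen _ g hgE, mul_inv_cancel_right]
      rw [hpow]
      have hf : ∀ s q : P, br s (br q a) ^ M = δ s (δ q g) := fun s q => by
        obtain ⟨b, hb, hbe⟩ := hsq q a ha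
        have h1 : δ q g = b ^ (4 * M) := by
          rw [hg, hδ q a ha, ← hbe, ← pow_two, ← pow_mul]; congr 1; ring
        rw [h1, hδ s b hb, ← hbe, H.br_mul hb hb, ← pow_two, ← pow_mul]
      have h1 : br c (y * x * a * (y * x)⁻¹) = br x (br y a) * (br y (br x a))⁻¹ := by
        have e : br c (y * x * a * (y * x)⁻¹) = (x * y * a * (x * y)⁻¹) * (y * x * a * (y * x)⁻¹)⁻¹ := by
          simp only [c, br]; group
        rw [e, H.conjA _ ha, H.conjA _ ha, H.br_comp x y ha, H.br_comp y x ha,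
          mul_inv_rev, ← mul_assoc, mul_inv_cancel_right, mul_inv_rev, mul_inv_rev, ← mul_assoc, ← mul_assoc,
          mul_assoc (br x (br y a)), H.Ac _ (H.br_mem (t := y) ha) _ (H.br_mem (t := x) ha), ← mul_assoc,
          mul_inv_cancel_right, mul_inv_cancel_right]
      rw [h1, H.mul_pow (H.br_mem (H.br_mem ha)) (inv_mem (H.br_mem (H.br_mem ha))), inv_pow, hf, hf,
        hy g hgE, hy _ (hδmem x g hgE), hanti _ (H.rot.mem _ (hδmem x g hgE)), hanti _ (hδmem x g hgE),
        hNN g hgE, hN3 g hgE, inv_eq_of_mul_eq_one_right (H.rot.sq _ (H.rot.mem _ (H.rot.mem _ hgE))),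
        H.rot.sum hgE]
    have hεφc : ∀ a ∈ A, br (φ c) a ^ M = a ^ (4 * M) := fun a ha => by
      have ha2 := H.Aφ _ (H.Aφ _ ha)
      rw [← H.three a, ← map_br, ← map_pow, hεc _ ha2, map_pow]
    have hεmul : ∀ s q : P, q ∈ T4 → ∀ a ∈ A, br (s * q) a ^ M = br q a ^ M * br s a ^ M := fun s q hq a ha => by
      obtain ⟨b, hb, hbe⟩ := H.exists_root (n + 1) 2 (by omega) _ (H.br_mem (t := q) ha) (by
        rw [show 2 ^ (n + 1) = 2 * M by rw [hM]; ring]; exact hT4br q hq a ha)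
      rw [H.br_comp s q ha, H.mul_pow (mul_mem (H.br_mem (H.br_mem ha)) (H.br_mem ha)) (H.br_mem ha),
        H.mul_pow (H.br_mem (H.br_mem ha)) (H.br_mem ha), ← hbe, H.br_pow hb]
      have h0 : (br s b ^ 2 ^ 2) ^ M = 1 := by
        obtain ⟨b', hb', hbe'⟩ := hsq s b hb
        rw [← hbe', ← pow_two, ← pow_mul, ← pow_mul, show 2 * (2 ^ 2 * M) = 2 ^ (n + 3) by rw [hM]; ring, H.exp b' hb']
      rw [h0, one_mul]
    let K8 : Subgroup P :=
      { carrier := {q | q ∈ T4 ∧ ∀ a ∈ A, br q a ^ M = 1}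
        one_mem' := ⟨one_mem _, fun a _ => by simp [br]⟩
        mul_mem' := fun {s q} hs hq => ⟨mul_mem hs.1 hq.1, fun a ha => by
          rw [hεmul s q hq.1 a ha, hq.2 a ha, hs.2 a ha, one_mul]⟩
        inv_mem' := fun {q} hq => ⟨inv_mem hq.1, fun a ha => by
          have h := hεmul q⁻¹ q hq.1 a ha
          rw [inv_mul_cancel, hq.2 a ha, one_mul, show br (1 : P) a = 1 by simp [br], one_pow] at h
          exact h.symm⟩ }
    have hK8φ : ∀ q ∈ K8, φ q ∈ K8 := fun q hq => ⟨hT4φ q hq.1, fun a ha => by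
      rw [← H.three a, ← map_br, ← map_pow, hq.2 _ (H.Aφ _ (H.Aφ _ ha)), map_one]⟩
    have hcK : c⁻¹ * φ c ∈ K8 := ⟨mul_mem (inv_mem hcT) (hT4φ c hcT), fun a ha => by
      have h := hεmul c (c⁻¹ * φ c) (mul_mem (inv_mem hcT) (hT4φ c hcT)) a ha
      rw [mul_inv_cancel_left, hεφc a ha, hεc a ha] at h
      exact mul_eq_right.1 h.symm⟩
    obtain ⟨q, hq, hcq⟩ := H.fixed_lift hK8φ (fun z hz => hfp z hz.1) hcK
    have hc1 : c * q = 1 := hfp _ (mul_mem hcT hq.1) hcq
    have hcK' : c ∈ K8 := by rw [eq_inv_of_mul_eq_one_left hc1]; exact inv_mem hq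
    refine he1 ?_
    obtain ⟨h1, h2⟩ := hr e he
    rw [← h2, ← hεc _ h1, hcK'.2 _ h1]
  -- every class has a fixed involution acting as a scalar
  have hscal : ∀ t, t ∈ T4 ∨ ((∀ e ∈ E, δ t e = e) ∧ ∃ u, u ∉ T4 ∧ u * u = 1) := by
    intro t
    by_cases ht : t ∈ T4
    · exact Or.inl ht
    right
    have hx : t⁻¹ * φ t ∈ T4 := fun e he => by
      have h := hcomp t (t⁻¹ * φ t) e he
      rw [mul_inv_cancel_left, hsame t e he] at h
      exact mul_eq_right.1 h.symm
    obtain ⟨a, ha, hu⟩ := H.fixed_lift hT4φ hfp hx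
    set u := t * a
    have huδ : ∀ e ∈ E, δ u e = δ t e := fun e he => by rw [hcomp t a e he, ha e he, one_mul]
    have huT : u ∉ T4 := fun e => ht ((mul_mem_cancel_right ha).1 e)
    have hu2 : u * u = 1 := hfp _ (fun e he => by rw [hcomp u u e he, H.rot.sq _ (hδmem u e he)])
      (by rw [map_mul, hu])
    have hidem : ∀ e ∈ E, δ u (δ u e) = δ u e := by
      intro e he
      obtain ⟨h1, h2⟩ := hr e he
      obtain ⟨b, hb, hbe⟩ := hsq u _ h1
      have hb' : δ u e = b ^ (4 * M) := by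
        show br u (r e) ^ (2 * M) = _
        rw [← hbe, ← pow_two, ← pow_mul]; congr 1; ring
      have h3 : δ u (δ u e) * δ u e = 1 := by
        have h4 : br (u * u) (r e) ^ M = 1 := by rw [hu2]; simp [br]
        rw [H.br_comp u u h1, mul_assoc, H.mul_pow (H.br_mem (H.br_mem h1)) (mul_mem (H.br_mem h1) (H.br_mem h1)),
          ← pow_two, ← pow_mul] at h4
        rw [← h4]
        refine congrArg₂ (· * ·) ?_ rfl
        rw [hb', hδ u b hb, ← hbe, H.br_mul hb hb, ← pow_two, ← pow_mul]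
      exact (eq_inv_of_mul_eq_one_left h3).trans (inv_eq_of_mul_eq_one_right (H.rot.sq _ (hδmem u e he)))
    have hcomm : ∀ e ∈ E, δ u (φ e) = φ (δ u e) := fun e he => by
      have := hequiv u e he; rwa [hu] at this
    obtain ⟨e, he, hne⟩ : ∃ e ∈ E, δ u e ≠ 1 := by
      by_contra hn; push Not at hn; exact huT hn
    have he1 : e ≠ 1 := fun h => hne (by
      have h1 := hδmul u 1 (one_mem E) 1 (one_mem E)
      rw [mul_one] at h1
      rw [h]; exact mul_eq_left.1 h1.symm)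
    have hf := hδmem u e he
    have hfe : δ u e = e := by
      rcases H.rot.all e he he1 _ hf with h | h | h | h
      · exact absurd h hne
      · exact h
      · exfalso
        have h5 := hidem e he
        rw [h, hcomm e he, h] at h5
        exact he1 (H.rot.ne e he (φ.injective h5))
      · exfalso
        have h5 := hidem e he
        rw [h, hcomm _ (H.rot.mem _ he), hcomm e he, h] at h5
        exact he1 (H.rot.two_ne he (φ.injective (φ.injective h5)))
    refine ⟨fun g hg => ?_, u, huT, hu2⟩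
    rw [← huδ g hg]
    rcases H.rot.all e he he1 g hg with h | h | h | h <;> subst h
    · have h1 := hδmul u 1 (one_mem E) 1 (one_mem E)
      rw [mul_one] at h1
      exact mul_eq_left.1 h1.symm
    · exact hfe
    · rw [hcomm e he, hfe]
    · rw [hcomm _ (H.rot.mem _ he), hcomm e he, hfe]
  have hinvE : ∀ v, v ∈ T4 → v * v = 1 → v ∈ E := fun v hv hv2 => (H.mem_E v).2 ⟨hno v hv hv2, hv2⟩
  by_cases hall : ∀ t, t ∈ T4
  · exact Or.inl (H.rank_two_of_inv fun v => hinvE v (hall v))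
  push Not at hall
  obtain ⟨t, ht⟩ := hall
  obtain ⟨ht1, u, huT, hu2⟩ := (hscal t).resolve_left ht
  refine Or.inr ⟨E, T4, ?_, fun e he => hδA e (H.E_le he), H.cen, H.four, fun e he => H.rot.sq e he, hinvE, ?_, u, huT, hu2⟩
  · refine index_eq_two_iff.2 ⟨t, fun b => ?_⟩
    by_cases hb : b ∈ T4
    · exact Or.inr ⟨hb, fun h => ht ((mul_mem_cancel_left hb).1 h)⟩
    · refine Or.inl ⟨fun e he => ?_, hb⟩
      rw [hcomp b t e he, ((hscal b).resolve_left hb).1 e he, ht1 e he, H.rot.sq e he]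
  · intro v hv2 hvE e he
    have hvT : v ∉ T4 := fun h => hvE (hinvE v h hv2)
    obtain ⟨h1, h2⟩ := hr e he
    refine ⟨r e ^ (2 * M), ?_⟩
    have hb : br v (r e ^ (2 * M)) = e := by
      rw [H.br_pow h1, ← hδ v _ h1, h2]
      exact ((hscal v).resolve_left hvT).1 e he
    rw [conj_eq_br, ← br_inv, hb, inv_eq_of_mul_eq_one_right (H.rot.sq e he), H.cen v e he]

end Hom

end Cfsg.Agent.Transfer.NTwo
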