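import Cfsg.Agent.Lib.Transfer.NormalTwo.FourCentre

/-!
# A critical subgroup with centre of exponent at least four (for S3311)
-/

set_option autoImplicit false

namespace Cfsg.Agent.Transfer.NTwo

open Subgroup
open Cfsg.Agent.Invol.FpfThree (mem_adj card_adj)

variable {P : Type*} [Group P] {φ : MulAut P}

/-- An element of order four among the powers. -/
theorem exists_four (hP : IsPGroup 2 P) {b : P} (hb : b * b ≠ 1) :
    ∃ k : ℕ, (b ^ k) * (b ^ k) ≠ 1 ∧ (b ^ k * b ^ k) * (b ^ k * b ^ k) = 1 := by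
  classical
  have hex : ∃ j, (b * b) ^ 2 ^ j = 1 := hP (b * b)
  have hj := Nat.find_spec hex
  have hj0 : Nat.find hex ≠ 0 := fun e => hb (by rw [e] at hj; simpa using hj)
  obtain ⟨i, hi⟩ : ∃ i, Nat.find hex = i + 1 := ⟨Nat.find hex - 1, by omega⟩
  have e : b ^ 2 ^ i * b ^ 2 ^ i = (b * b) ^ 2 ^ i := ((Commute.refl b).mul_pow _).symm
  refine ⟨2 ^ i, fun h => Nat.find_min hex (show i < Nat.find hex by omega) (e ▸ h), ?_⟩
  rw [e, ← pow_two, ← pow_mul, ← pow_succ, ← hi]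
  exact hj

/-- No centraliser of another involution maps into the group sending it to `w`. -/
def Isolate (P : Type*) [Group P] : Prop :=
  ∃ w : P, w ≠ 1 ∧ w * w = 1 ∧ (∀ t, t * w = w * t) ∧ ∀ u : P, u * u = 1 → u ≠ w →
    ∀ f : ↥(centralizer ({u} : Set P)) →* P, Function.Injective f →
      f ⟨u, mem_centralizer_singleton_iff.2 rfl⟩ ≠ w

/-- The frame of the case of a centre of exponent at least four. -/
structure Quat (φ : MulAut P) (Z C : Subgroup P) (g h w c : P) : Prop where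
  crit : Crit φ Z C
  hg : g ∈ C
  hh : h ∈ C
  g_not : g ∉ Z
  g2 : g * g = w
  h2 : h * h = w
  w1 : w ≠ 1
  wZ : w ∈ Z
  gh : br g h = w
  cover : ∀ x ∈ C, ∃ y, (y = 1 ∨ y = g ∨ y = h ∨ y = g * h) ∧ y⁻¹ * x ∈ Z
  cent : ∀ x, (∀ z ∈ Z, x * z = z * x) → x ∈ C
  dec : ∀ t, ∃ y, (y = 1 ∨ y = g ∨ y = h ∨ y = g * h) ∧ (y⁻¹ * t) * g = g * (y⁻¹ * t) ∧ (y⁻¹ * t) * h = h * (y⁻¹ * t)
  cZ : c ∈ Z
  c2 : c * c ≠ 1
  c4 : c * c * (c * c) = 1
  four : ∀ d ∈ Z, d * d = 1 → d = 1 ∨ d = w ∨ d = c * c ∨ d = w * (c * c)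
  wsq : c * c ≠ w → ∀ ζ ∈ Z, ζ * ζ ≠ w
  fixD : ∀ ψ : MulAut P, ∀ d ∈ Z, d * d = 1 → ψ d = d

namespace Quat

variable {Z C : Subgroup P} {g h w c : P} (Q : Quat φ Z C g h w c)
include Q

theorem w2 : w * w = 1 := by
  rw [← Q.gh]; exact Q.crit.br_sq Q.hg Q.hh

theorem w_cen (t : P) : t * w = w * t := by
  have := Q.fixD (MulAut.conj t) w Q.wZ Q.w2
  rwa [MulAut.conj_apply, mul_inv_eq_iff_eq_mul] at this

theorem d_cen {d : P} (hd : d ∈ Z) (hd2 : d * d = 1) (t : P) : t * d = d * t := by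
  have := Q.fixD (MulAut.conj t) d hd hd2
  rwa [MulAut.conj_apply, mul_inv_eq_iff_eq_mul] at this

theorem s_cen (t : P) : t * (c * c) = c * c * t := Q.d_cen (mul_mem Q.cZ Q.cZ) Q.c4 t

/-- The representatives of `C` modulo `Z`. -/
theorem rep {y : P} (hy : y = 1 ∨ y = g ∨ y = h ∨ y = g * h) : y ∈ C ∧ (y = 1 ∨ y * y = w) ∧
    (y = 1 ∨ y * g = w * (g * y) ∨ y * h = w * (h * y)) := by
  have hgh : g * h = w * (h * g) := by rw [← Q.gh]; simp only [br]; group
  have hhg : h * g = w * (g * h) := by rw [hgh, ← mul_assoc, Q.w2, one_mul]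
  rcases hy with rfl | rfl | rfl | rfl
  · exact ⟨one_mem _, Or.inl rfl, Or.inl rfl⟩
  · exact ⟨Q.hg, Or.inr Q.g2, Or.inr (Or.inr hgh)⟩
  · exact ⟨Q.hh, Or.inr Q.h2, Or.inr (Or.inl hhg)⟩
  · refine ⟨mul_mem Q.hg Q.hh, Or.inr ?_, Or.inr (Or.inl ?_)⟩
    · calc g * h * (g * h) = g * (h * g) * h := by group
        _ = g * (w * (g * h)) * h := by rw [hhg]
        _ = w * (g * (g * h)) * h := by rw [← mul_assoc g w, Q.w_cen g]; group
        _ = w * (g * g) * (h * h) := by group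
        _ = w := by rw [Q.g2, Q.h2, Q.w2, one_mul]
    · calc g * h * g = g * (h * g) := by group
        _ = g * (w * (g * h)) := by rw [hhg]
        _ = w * (g * (g * h)) := by rw [← mul_assoc g w, Q.w_cen g]; group

theorem R_inf {r : P} (h1 : r * g = g * r) (h2 : r * h = h * r) (h3 : ∀ z ∈ Z, r * z = z * r) : r ∈ Z := by
  refine Q.crit.mem_of_comm fun x hx => ?_
  obtain ⟨y, hy, hz⟩ := Q.cover x hx
  have hry : r * y = y * r := by
    rcases hy with rfl | rfl | rfl | rfl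
    · rw [mul_one, one_mul]
    · exact h1
    · exact h2
    · rw [← mul_assoc, h1, mul_assoc, h2, ← mul_assoc]
  calc r * x = r * y * (y⁻¹ * x) := by group
    _ = y * (r * (y⁻¹ * x)) := by rw [hry, mul_assoc]
    _ = y * (y⁻¹ * x * r) := by rw [h3 _ hz]
    _ = x * r := by group

theorem R_comm_rep {r y : P} (h1 : r * g = g * r) (h2 : r * h = h * r) (hy : y = 1 ∨ y = g ∨ y = h ∨ y = g * h) :
    r * y = y * r := by
  rcases hy with rfl | rfl | rfl | rfl
  · rw [mul_one, one_mul]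
  · exact h1
  · exact h2
  · rw [← mul_assoc, h1, mul_assoc, h2, ← mul_assoc]

theorem conj_c (t : P) : t * c * t⁻¹ * c⁻¹ ∈ Z ∧ (t * c * t⁻¹ * c⁻¹) * (t * c * t⁻¹ * c⁻¹) = 1 := by
  have hm : t * c * t⁻¹ ∈ Z := Q.crit.Z_normal.conj_mem c Q.cZ t
  refine ⟨mul_mem hm (inv_mem Q.cZ), ?_⟩
  have hs : t * c * t⁻¹ * (t * c * t⁻¹) = c * c := by
    rw [show t * c * t⁻¹ * (t * c * t⁻¹) = t * (c * c) * t⁻¹ by group, Q.s_cen t, mul_inv_cancel_right]
  calc t * c * t⁻¹ * c⁻¹ * (t * c * t⁻¹ * c⁻¹) = t * c * t⁻¹ * (c⁻¹ * (t * c * t⁻¹)) * c⁻¹ := by group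
    _ = t * c * t⁻¹ * (t * c * t⁻¹ * c⁻¹) * c⁻¹ := by rw [Q.crit.Zc _ (inv_mem Q.cZ) _ hm]
    _ = t * c * t⁻¹ * (t * c * t⁻¹) * (c * c)⁻¹ := by group
    _ = 1 := by rw [hs, mul_inv_cancel]

theorem sq_fix_c (t : P) : t * t * c = c * (t * t) := by
  obtain ⟨hδ, hδ2⟩ := Q.conj_c t
  have e := Q.d_cen hδ hδ2 t
  have h1 : t * t * c * (t * t)⁻¹ = c := by
    calc t * t * c * (t * t)⁻¹ = t * (t * c * t⁻¹ * c⁻¹) * (c * t⁻¹) := by group
      _ = t * c * t⁻¹ * c⁻¹ * t * (c * t⁻¹) := by rw [e]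
      _ = (t * c * t⁻¹ * c⁻¹) * (t * c * t⁻¹ * c⁻¹) * c := by group
      _ = c := by rw [hδ2, one_mul]
  exact mul_inv_eq_iff_eq_mul.1 h1

theorem eq_cD {ζ : P} (hζ : ζ ∈ Z) (h2 : ζ * ζ ≠ 1) (h4 : ζ * ζ * (ζ * ζ) = 1) :
    ∃ d ∈ Z, d * d = 1 ∧ ζ = c * d := by
  refine ⟨c⁻¹ * ζ, mul_mem (inv_mem Q.cZ) hζ, ?_, by group⟩
  have hcc := Q.crit.Zc
  have hs : ζ * ζ = c * c := by
    rcases Q.four _ (mul_mem hζ hζ) h4 with e | e | e | e
    · exact absurd e h2
    · by_cases hsw : c * c = w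
      · rw [e, hsw]
      · exact absurd e (Q.wsq hsw ζ hζ)
    · exact e
    · by_cases hsw : c * c = w
      · exfalso; rw [hsw, Q.w2] at e; exact h2 e
      · exfalso
        refine Q.wsq hsw (ζ * c⁻¹) (mul_mem hζ (inv_mem Q.cZ)) ?_
        calc ζ * c⁻¹ * (ζ * c⁻¹) = ζ * (c⁻¹ * ζ) * c⁻¹ := by group
          _ = ζ * ζ * (c * c)⁻¹ := by rw [hcc _ (inv_mem Q.cZ) _ hζ]; group
          _ = w := by rw [e, mul_inv_cancel_right]
  calc c⁻¹ * ζ * (c⁻¹ * ζ) = c⁻¹ * (ζ * c⁻¹) * ζ := by group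
    _ = c⁻¹ * (c⁻¹ * ζ) * ζ := by rw [hcc _ hζ _ (inv_mem Q.cZ)]
    _ = (c * c)⁻¹ * (ζ * ζ) := by group
    _ = 1 := by rw [hs, inv_mul_cancel]

theorem inverted_sq {q b : P} (hqc : q * c = c * q) (hb : b ∈ Z) (hinv : q * b * q⁻¹ = b⁻¹) : b * b = 1 := by
  by_contra hne
  obtain ⟨k, hk2, hk4⟩ := exists_four Q.crit.hyp.pgroup hne
  obtain ⟨d, hd, hd2, hbd⟩ := Q.eq_cD (pow_mem hb k) hk2 hk4
  refine hk2 ?_
  have h1 : q * b ^ k * q⁻¹ = (b ^ k)⁻¹ := by rw [← conj_pow, hinv, inv_pow]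
  have h2 : q * b ^ k * q⁻¹ = b ^ k := by
    rw [hbd, show q * (c * d) * q⁻¹ = q * c * d * q⁻¹ by group, hqc, mul_assoc c q d, Q.d_cen hd hd2 q]
    group
  rw [h2] at h1
  exact mul_eq_one_iff_eq_inv.2 h1

theorem T_pair [Finite P] {a b : P} (ha : a ∈ Z) (hb : b ∈ Z) (S : Shell φ Z C)
    (hna : a ∉ S.Zsq ⊔ omega Z S.Zc) (hnb : b ∉ S.Zsq ⊔ omega Z S.Zc) : a⁻¹ * b ∈ S.Zsq ⊔ omega Z S.Zc := by
  set T := S.Zsq ⊔ omega Z S.Zc with hT
  haveI : S.Zsq.Normal := ⟨fun _ ⟨x, hx, e⟩ t => ⟨t * x * t⁻¹, S.Z_normal.conj_mem x hx t, by rw [← e]; group⟩⟩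
  have hTZ : T ≤ Z := sup_le S.Zsq_le fun d hd => hd.1
  let sqh : ↥Z →* ↥Z :=
    { toFun := fun z => ⟨z * z, mul_mem z.2 z.2⟩
      map_one' := Subtype.ext (one_mul _)
      map_mul' := fun a b => Subtype.ext (by
        show (a : P) * b * (a * b) = a * a * (b * b)
        calc (a : P) * b * (a * b) = a * (b * a) * b := by group
          _ = a * (a * b) * b := by rw [S.Zc b b.2 a a.2]
          _ = _ := by group) }
  have hker : Nat.card ↥sqh.ker = Nat.card ↥(omega Z S.Zc) :=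
    Nat.card_congr
      { toFun := fun z => ⟨z.1.1, z.1.2, congrArg Subtype.val z.2⟩
        invFun := fun z => ⟨⟨z.1, z.2.1⟩, Subtype.ext z.2.2⟩
        left_inv := fun _ => rfl
        right_inv := fun _ => rfl }
  have hrange : sqh.range.map Z.subtype = S.Zsq := by
    ext x
    constructor
    · rintro ⟨_, ⟨z, rfl⟩, rfl⟩; exact ⟨z, z.2, rfl⟩
    · rintro ⟨z, hz, rfl⟩; exact ⟨sqh ⟨z, hz⟩, ⟨_, rfl⟩, rfl⟩
  have hcardZ : Nat.card ↥Z = Nat.card ↥S.Zsq * Nat.card ↥(omega Z S.Zc) := by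
    rw [← hrange, card_map_of_injective Z.subtype_injective, ← hker, ← index_ker, mul_comm, card_mul_index]
  have hD4 : Nat.card ↥(omega Z S.Zc) ≤ 4 := Q.crit.hyp.omega_le S.Z_normal S.Zc
  have hle : Nat.card ↥Z ≤ 2 * Nat.card ↥T := by
    have h1 : Nat.card ↥S.Zsq ∣ Nat.card ↥T := card_dvd_of_le le_sup_left
    obtain ⟨m, hm⟩ := h1
    obtain ⟨e, he⟩ := IsPGroup.iff_card.1 (Q.crit.hyp.pgroup.to_subgroup (omega Z S.Zc))
    have hpos : 0 < Nat.card ↥T := Nat.card_pos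
    rcases Nat.lt_or_ge 1 m with hm1 | hm1
    · calc _ ≤ Nat.card ↥S.Zsq * 4 := by rw [hcardZ]; exact Nat.mul_le_mul_left _ hD4
        _ = 2 * (Nat.card ↥S.Zsq * 2) := by ring
        _ ≤ _ := by rw [hm]; exact Nat.mul_le_mul_left _ (Nat.mul_le_mul_left _ hm1)
    · have hm' : m = 1 := by
        rcases Nat.eq_zero_or_pos m with rfl | h0
        · rw [mul_zero] at hm; omega
        · omega
      have hTS : S.Zsq = T := eq_of_le_of_card_ge le_sup_left (by rw [hm, hm', mul_one])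
      by_cases hsw : c * c = w
      · have hD2 : Nat.card ↥(omega Z S.Zc) ≤ 2 := by
          classical
          let f : ↥(omega Z S.Zc) → Fin 2 := fun d => if (d : P) = 1 then 0 else 1
          have hf : Function.Injective f := by
            rintro ⟨x, hx, hx2⟩ ⟨y, hy, hy2⟩ e
            have hall : ∀ z ∈ Z, z * z = 1 → z = 1 ∨ z = w := fun z hz hz2 => by
              rcases Q.four z hz hz2 with e | e | e | e
              · exact Or.inl e
              · exact Or.inr e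
              · exact Or.inr (e.trans hsw)
              · exact Or.inl (by rw [e, hsw, Q.w2])
            refine Subtype.ext ?_
            have hwne := Q.w1
            rcases hall x hx hx2 with e1 | e1 <;> rcases hall y hy hy2 with e2 | e2 <;>
              simp only [f, e1, e2] at e ⊢ <;> simp [hwne] at e
          simpa using Nat.card_le_card_of_injective f hf
        rw [hcardZ, ← hTS, mul_comm]; exact Nat.mul_le_mul_right _ hD2
      · exfalso
        have hw' : w ∈ S.Zsq := hTS.symm ▸ mem_sup_right (show w ∈ omega Z S.Zc from ⟨Q.wZ, Q.w2⟩)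
        obtain ⟨ζ, hζ, e⟩ := hw'
        exact Q.wsq hsw ζ hζ e
  have h1 := card_mul_index (T.subgroupOf Z)
  rw [Nat.card_congr (Subgroup.subgroupOfEquivOfLe hTZ).toEquiv] at h1
  by_cases hi : (T.subgroupOf Z).index = 2
  · have := Subgroup.mul_mem_iff_of_index_two hi (a := (⟨a, ha⟩ : ↥Z)⁻¹) (b := ⟨b, hb⟩)
    simpa [mem_subgroupOf, hna, hnb] using this
  · exfalso
    have h2 : (T.subgroupOf Z).index ≠ 1 := fun e => hna (by
      rw [index_eq_one] at e
      exact (mem_subgroupOf (h := (⟨a, ha⟩ : ↥Z))).1 (e ▸ mem_top _))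
    have h3 : (T.subgroupOf Z).index ≠ 0 := FiniteIndex.index_ne_zero
    have h4 : 3 ≤ (T.subgroupOf Z).index := by omega
    have := Nat.mul_le_mul_left (Nat.card ↥T) h4
    have hp : 0 < Nat.card ↥T := Nat.card_pos
    omega

/-- No element outside `Z` centralising `g`, `h` and `c` has its square among the involutions of `Z`. -/
theorem no_extra [Finite P] {q : P} (hq1 : q * g = g * q) (hq2 : q * h = h * q) (hqZ : q ∉ Z)
    (hqq : q * q ∈ Z) (hqq2 : q * q * (q * q) = 1) (hqc : q * c = c * q) : False := by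
  have K := Q.crit
  have hne : ∃ x ∈ C, x ∉ Z := ⟨g, Q.hg, Q.g_not⟩
  have S := K.shell hne
  have hqci : q * c⁻¹ = c⁻¹ * q := (Commute.inv_right (show Commute q c from hqc)).eq
  -- adjust the square into `⟨w⟩`
  obtain ⟨p, hp1, hp2, hpZ, hpp, hpc⟩ : ∃ p, p * g = g * p ∧ p * h = h * p ∧ p ∉ Z ∧ (p * p = 1 ∨ p * p = w) ∧ p * c = c * p := by
    have hcase : (q * c⁻¹) * (q * c⁻¹) = q * q * (c * c)⁻¹ := by
      calc q * c⁻¹ * (q * c⁻¹) = q * (c⁻¹ * q) * c⁻¹ := by group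
        _ = q * (q * c⁻¹) * c⁻¹ := by rw [hqci]
        _ = _ := by group
    have hcg : ∀ x ∈ C, c⁻¹ * x = x * c⁻¹ := fun x hx => K.zc _ (inv_mem Q.cZ) x hx
    have hmk : ∀ x ∈ C, q * x = x * q → q * c⁻¹ * x = x * (q * c⁻¹) := fun x hx e => by
      rw [mul_assoc, hcg x hx, ← mul_assoc, e, mul_assoc]
    have hnz : q * c⁻¹ ∉ Z := fun e => hqZ ((mul_mem_cancel_right (inv_mem Q.cZ)).1 e)
    have hfc : q * c⁻¹ * c = c * (q * c⁻¹) := by rw [inv_mul_cancel_right, hqci, mul_inv_cancel_left]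
    rcases Q.four _ hqq hqq2 with e | e | e | e
    · exact ⟨q, hq1, hq2, hqZ, Or.inl e, hqc⟩
    · exact ⟨q, hq1, hq2, hqZ, Or.inr e, hqc⟩
    · exact ⟨_, hmk g Q.hg hq1, hmk h Q.hh hq2, hnz, Or.inl (by rw [hcase, e, mul_inv_cancel]), hfc⟩
    · exact ⟨_, hmk g Q.hg hq1, hmk h Q.hh hq2, hnz, Or.inr (by rw [hcase, e, mul_inv_cancel_right]), hfc⟩
  have hpp' : ∀ t, t * (p * p) = p * p * t := fun t => by
    rcases hpp with e | e <;> rw [e]
    · rw [mul_one, one_mul]
    · exact Q.w_cen t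
  obtain ⟨y0, hy0, hy0p, hu2⟩ : ∃ y0, (y0 = 1 ∨ y0 = g) ∧ y0 * p = p * y0 ∧ y0 * p * (y0 * p) = 1 := by
    rcases hpp with e | e
    · exact ⟨1, Or.inl rfl, by rw [one_mul, mul_one], by rw [one_mul, e]⟩
    · refine ⟨g, Or.inr rfl, hp1.symm, ?_⟩
      rw [show g * p * (g * p) = g * (p * g) * p by group, hp1, show g * (g * p) * p = g * g * (p * p) by group,
        Q.g2, e, Q.w2]
  set u := y0 * p with hu
  have hy0C : y0 ∈ C := by rcases hy0 with rfl | rfl; exacts [one_mem _, Q.hg]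
  -- the action of `p` on `Z`
  have hlam : ∀ z ∈ Z, br p z ∈ omega Z S.Zc := fun z hz => by
    have hm : br p z ∈ Z := mul_mem (K.Z_normal.conj_mem z hz p) (inv_mem hz)
    refine ⟨hm, Q.inverted_sq hpc hm ?_⟩
    calc p * br p z * p⁻¹ = (p * p * z) * (p * p)⁻¹ * (p * z * p⁻¹)⁻¹ := by simp only [br]; group
      _ = z * (p * z * p⁻¹)⁻¹ := by rw [← hpp' z, mul_inv_cancel_right]
      _ = _ := by simp only [br]; group
  have hlmul : ∀ a ∈ Z, ∀ b ∈ Z, br p (a * b) = br p a * br p b := fun a ha b hb => by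
    calc br p (a * b) = br p a * (a * br p b * a⁻¹) := by simp only [br]; group
      _ = _ := by rw [← Q.d_cen (hlam b hb).1 (hlam b hb).2 a |>.symm, mul_inv_cancel_right]
  haveI : S.Zsq.Normal := ⟨fun _ ⟨x, hx, e⟩ t => ⟨t * x * t⁻¹, S.Z_normal.conj_mem x hx t, by rw [← e]; group⟩⟩
  have hTker : ∀ a ∈ S.Zsq ⊔ omega Z S.Zc, br p a = 1 := fun a ha => by
    obtain ⟨_, ⟨x, hx, rfl⟩, d, hd, rfl⟩ := mem_sup_of_normal_left.1 ha
    rw [hlmul _ (mul_mem hx hx) _ hd.1, hlmul _ hx _ hx, (hlam x hx).2, one_mul]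
    exact br_eq_one.2 (Q.d_cen hd.1 hd.2 p)
  have hTt : ∀ t, ∀ a ∈ S.Zsq ⊔ omega Z S.Zc, t * a * t⁻¹ ∈ S.Zsq ⊔ omega Z S.Zc := fun t a ha => by
    obtain ⟨a', ha', d, hd, rfl⟩ := mem_sup_of_normal_left.1 ha
    rw [show t * (a' * d) * t⁻¹ = t * a' * t⁻¹ * (t * d * t⁻¹) by group, Q.d_cen hd.1 hd.2 t, mul_inv_cancel_right]
    exact mul_mem (mem_sup_left (Subgroup.Normal.conj_mem inferInstance a' ha' t)) (mem_sup_right hd)
  have hlt : ∀ t, ∀ z ∈ Z, br p (t * z * t⁻¹) = br p z := fun t z hz => by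
    have htz : t * z * t⁻¹ ∈ Z := K.Z_normal.conj_mem z hz t
    by_cases hzT : z ∈ S.Zsq ⊔ omega Z S.Zc
    · rw [hTker _ hzT, hTker _ (hTt t z hzT)]
    · have hnT : t * z * t⁻¹ ∉ S.Zsq ⊔ omega Z S.Zc := fun e => hzT (by
        simpa [mul_assoc] using hTt t⁻¹ _ e)
      have h1 := hTker _ (Q.T_pair hz htz S hzT hnT)
      have h2 := hlmul z hz (z⁻¹ * (t * z * t⁻¹)) (mul_mem (inv_mem hz) htz)
      rw [h1, mul_one, mul_inv_cancel_left] at h2
      exact h2
  -- commutators with `u`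
  have hbu : ∀ t, br t u ∈ omega Z S.Zc := fun t => by
    obtain ⟨y, hy, hr1, hr2⟩ := Q.dec t
    obtain ⟨r, rfl⟩ : ∃ r, t = y * r := ⟨y⁻¹ * t, by group⟩
    rw [inv_mul_cancel_left] at hr1 hr2
    have hyC := (Q.rep hy).1
    have hβ : br r p ∈ Z := by
      have hcm : ∀ x, r * x = x * r → p * x = x * p → br r p * x = x * br r p := fun x e1 e2 => by
        have h1 : Commute r x := e1
        have h2 : Commute p x := e2
        exact ((h1.mul_left h2).mul_left h1.inv_left).mul_left h2.inv_left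
      refine Q.R_inf (hcm g hr1 hp1) (hcm h hr2 hp2) fun z hz => ?_
      have hz1 : r⁻¹ * z * r ∈ Z := by simpa using K.Z_normal.conj_mem z hz r⁻¹
      have e1 : p * z * p⁻¹ = br p z * z := conj_eq_br p z
      have e2 : r * p * r⁻¹ * z * (r * p * r⁻¹)⁻¹ = br p z * z := by
        rw [show r * p * r⁻¹ * z * (r * p * r⁻¹)⁻¹ = r * (p * (r⁻¹ * z * r) * p⁻¹) * r⁻¹ by group, conj_eq_br p,
          show r * (br p (r⁻¹ * z * r) * (r⁻¹ * z * r)) * r⁻¹ = r * br p (r⁻¹ * z * r) * r⁻¹ * z by group,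
          Q.d_cen (hlam _ hz1).1 (hlam _ hz1).2 r, mul_inv_cancel_right]
        congr 1
        rw [← hlt r _ hz1]; congr 1; group
      have e3 : r * p * r⁻¹ * z * (r * p * r⁻¹)⁻¹ = p * z * p⁻¹ := e2.trans e1.symm
      calc br r p * z = r * p * r⁻¹ * (p⁻¹ * z * p) * (r * p * r⁻¹)⁻¹ * br r p := by simp only [br]; group
        _ = z * br r p := by
          have hz2 : p⁻¹ * z * p ∈ Z := by simpa using K.Z_normal.conj_mem z hz p⁻¹
          have e4 : r * p * r⁻¹ * (p⁻¹ * z * p) * (r * p * r⁻¹)⁻¹ = z := by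
            rw [show r * p * r⁻¹ * (p⁻¹ * z * p) * (r * p * r⁻¹)⁻¹ =
              r * (p * (r⁻¹ * (p⁻¹ * z * p) * r) * p⁻¹) * r⁻¹ by group]
            have hz3 : r⁻¹ * (p⁻¹ * z * p) * r ∈ Z := by simpa using K.Z_normal.conj_mem _ hz2 r⁻¹
            rw [conj_eq_br p, show r * (br p (r⁻¹ * (p⁻¹ * z * p) * r) * (r⁻¹ * (p⁻¹ * z * p) * r)) * r⁻¹ =
              r * br p (r⁻¹ * (p⁻¹ * z * p) * r) * r⁻¹ * (p⁻¹ * z * p) by group,
              Q.d_cen (hlam _ hz3).1 (hlam _ hz3).2 r, mul_inv_cancel_right]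
            have e5 := hlt r⁻¹ _ hz2
            rw [inv_inv] at e5
            rw [e5, ← conj_eq_br]
            group
          rw [e4]
    have hru : r * u * r⁻¹ = br r p * u := by
      have hry : r * y0 = y0 * r := Q.R_comm_rep hr1 hr2 (by rcases hy0 with e | e <;> simp [e])
      have hby : br r p * y0 = y0 * br r p := (K.zc _ hβ y0 hy0C)
      rw [hu, ← mul_assoc r, hry, show y0 * r * p * r⁻¹ = y0 * br r p * p by simp only [br]; group, ← hby, mul_assoc]
    have hβ2 : br r p * br r p = 1 := by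
      refine Q.inverted_sq hpc hβ ?_
      have h1 : br r p * u * (br r p * u) = 1 := by
        rw [← hru, show r * u * r⁻¹ * (r * u * r⁻¹) = r * (u * u) * r⁻¹ by group, hu2, mul_one, mul_inv_cancel]
      have h2 : u * br r p * u⁻¹ = p * br r p * p⁻¹ := by
        rw [hu, show y0 * p * br r p * (y0 * p)⁻¹ = y0 * (p * br r p * p⁻¹) * y0⁻¹ by group,
          ← K.zc _ (K.Z_normal.conj_mem _ hβ p) y0 hy0C, mul_inv_cancel_right]
      rw [← h2, inv_eq_of_mul_eq_one_right hu2, eq_inv_iff_mul_eq_one]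
      have h3 : br r p * (u * br r p * u) = 1 := by rw [← h1]; group
      exact mul_eq_one_comm.1 h3
    have hD : br r p ∈ omega Z S.Zc := ⟨hβ, hβ2⟩
    have hyu : br y u = br y y0 := by
      have hpy : p * y = y * p := Q.R_comm_rep hp1 hp2 hy
      calc br y u = y * y0 * (p * y⁻¹) * p⁻¹ * y0⁻¹ := by rw [hu]; simp only [br]; group
        _ = y * y0 * (y⁻¹ * p) * p⁻¹ * y0⁻¹ := by rw [(Commute.inv_right (show Commute p y from hpy)).eq]
        _ = _ := by simp only [br]; group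
    have e : br (y * r) u = y * br r u * y⁻¹ * br y u := by simp only [br]; group
    rw [e, hyu, show br r u = br r p by rw [br, hru, mul_inv_cancel_right], Q.d_cen hD.1 hD.2 y,
      mul_inv_cancel_right]
    exact mul_mem hD ⟨K.comm y y0 hy0C, K.br_sq hyC hy0C⟩
  have huZ : ∀ x ∈ C, x⁻¹ * u ∉ Z := fun x hx e => by
    have h1 : p ∈ C := by
      have := mul_mem hx (K.Z_le e)
      rw [mul_inv_cancel_left, hu] at this
      exact (mul_mem_cancel_left hy0C).1 this
    exact hpZ (Q.R_inf hp1 hp2 fun z hz => (K.zc z hz p h1).symm)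
  have huc : ∀ t ∈ omega Z S.Zc, t * u = u * t := fun t ht => (Q.d_cen ht.1 ht.2 u).symm
  by_cases hsw : c * c = w
  · -- adjoin `g * c`
    set D := omega Z S.Zc
    haveI : D.Normal := omega_normal K.Z_normal S.Zc
    have hv2 : g * c * (g * c) = 1 := by
      rw [show g * c * (g * c) = g * (c * g) * c by group, K.zc c Q.cZ g Q.hg,
        show g * (g * c) * c = g * g * (c * c) by group, Q.g2, hsw, Q.w2]
    have hvbr : ∀ t, br t (g * c) ∈ D := fun t => by
      refine ⟨K.comm t _ (mul_mem Q.hg (K.Z_le Q.cZ)), ?_⟩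
      have hb := K.comm t _ (mul_mem Q.hg (K.Z_le Q.cZ))
      have h1 : br t (g * c) * (g * c) * (br t (g * c) * (g * c)) = 1 := by
        rw [← conj_eq_br, show t * (g * c) * t⁻¹ * (t * (g * c) * t⁻¹) = t * (g * c * (g * c)) * t⁻¹ by group,
          hv2, mul_one, mul_inv_cancel]
      rwa [show br t (g * c) * (g * c) * (br t (g * c) * (g * c)) =
        br t (g * c) * ((g * c) * br t (g * c)) * (g * c) by group, ← K.zc _ hb _ (mul_mem Q.hg (K.Z_le Q.cZ)),
        show br t (g * c) * (br t (g * c) * (g * c)) * (g * c) =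
          br t (g * c) * br t (g * c) * (g * c * (g * c)) by group, hv2, mul_one] at h1
    have hvZ : g * c ∉ D := fun e => Q.g_not ((mul_mem_cancel_right Q.cZ).1 e.1)
    have hx2 : g * c * (g * c) ∈ D := by rw [hv2]; exact one_mem D
    set V := D ⊔ zpowers (g * c)
    have hV : ∀ a ∈ V, a ∈ C ∧ a * a = 1 ∧ a * u = u * a := fun a ha => by
      have hgu : g * c * u = u * (g * c) := by
        have h1 : Commute (g * c) y0 := by
          rcases hy0 with e | e <;> rw [e]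
          · exact Commute.one_right _
          · exact (Commute.refl _).mul_left (K.zc c Q.cZ _ Q.hg)
        have h2 : Commute (g * c) p := (show Commute g p from hp1.symm).mul_left hpc.symm
        exact h1.mul_right h2
      rcases mem_adj hx2 ha with e | e
      · exact ⟨K.Z_le e.1, e.2, huc a e⟩
      · obtain ⟨d, hd, rfl⟩ : ∃ d ∈ D, a = d * (g * c) := ⟨_, e, by group⟩
        refine ⟨mul_mem (K.Z_le hd.1) (mul_mem Q.hg (K.Z_le Q.cZ)), ?_, ?_⟩
        · rw [show d * (g * c) * (d * (g * c)) = d * ((g * c) * d) * (g * c) by group, Q.d_cen hd.1 hd.2 (g * c),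
            show d * (d * (g * c)) * (g * c) = d * d * (g * c * (g * c)) by group, hd.2, hv2, mul_one]
        · rw [mul_assoc, hgu, ← mul_assoc, huc d hd, mul_assoc]
    have hVn : V.Normal := ⟨fun a ha t => by
      rcases mem_adj hx2 ha with e | e
      · exact mem_sup_left (Subgroup.Normal.conj_mem inferInstance a e t)
      · rw [show t * a * t⁻¹ = t * (a * (g * c)⁻¹) * t⁻¹ * br t (g * c) * (g * c) by simp only [br]; group]
        exact mul_mem (mem_sup_left (mul_mem (Subgroup.Normal.conj_mem inferInstance _ e t) (hvbr t)))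
          (mem_sup_right (mem_zpowers _))⟩
    refine normal_eight K.hyp hVn ?_ (fun a ha => (hV a ha).2.1) ?_ hu2 (fun a ha => (hV a ha).2.2)
      (fun t => mem_sup_left (hbu t))
    · rw [card_adj hx2 hvZ]
      have : 1 < Nat.card ↥D := Finite.one_lt_card_iff_nontrivial.2
        ⟨⟨w, Q.wZ, Q.w2⟩, 1, fun e => Q.w1 (congrArg Subtype.val e)⟩
      omega
    · intro e
      exact huZ u (hV u e).1 (by rw [inv_mul_cancel]; exact one_mem Z)
  · refine normal_eight K.hyp (omega_normal K.Z_normal S.Zc) ?_ (fun a ha => ha.2) ?_ hu2 huc hbu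
    · classical
      letI : Fintype ↥(omega Z S.Zc) := Fintype.ofFinite _
      rw [Nat.card_eq_fintype_card]
      have hs : c * c ∈ omega Z S.Zc := ⟨mul_mem Q.cZ Q.cZ, Q.c4⟩
      have hw : w ∈ omega Z S.Zc := ⟨Q.wZ, Q.w2⟩
      have h3 : w * (c * c) ≠ 1 := fun e => hsw (by
        rw [← one_mul (c * c), ← Q.w2, mul_assoc, e, mul_one])
      refine le_trans (le_of_eq ?_) (Finset.card_le_univ
        ({1, ⟨w, hw⟩, ⟨c * c, hs⟩, ⟨w * (c * c), mul_mem hw hs⟩} : Finset ↥(omega Z S.Zc)))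
      simp [Subtype.ext_iff, Q.w1.symm, Q.c2.symm, h3.symm, Ne.symm hsw, Q.c2, Q.w1]
    · exact fun e => huZ 1 (one_mem _) (by rw [inv_one, one_mul]; exact e.1)

/-- A square of order two lies in the centre. -/
theorem sq_mem [Finite P] (t : P) (h4 : t * t * (t * t) = 1) : t * t ∈ Z := by
  obtain ⟨y, hy, hr1, hr2⟩ := Q.dec t
  obtain ⟨r, rfl⟩ : ∃ r, t = y * r := ⟨y⁻¹ * t, by group⟩
  rw [inv_mul_cancel_left] at hr1 hr2
  have hry := Q.R_comm_rep hr1 hr2 hy
  have e : y * r * (y * r) = y * y * (r * r) := by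
    rw [show y * r * (y * r) = y * (r * y) * r by group, hry]; group
  have hyy : y * y = 1 ∨ y * y = w := (Q.rep hy).2.1.imp (fun e => by rw [e, one_mul]) id
  have hyyZ : y * y ∈ Z := by rcases hyy with h | h <;> rw [h]; exacts [one_mem _, Q.wZ]
  rw [e] at h4 ⊢
  refine mul_mem hyyZ ?_
  by_contra hrr
  have hcen : r * r * (y * y) = y * y * (r * r) := by
    rcases hyy with h | h <;> rw [h]
    · rw [one_mul, mul_one]
    · exact Q.w_cen _
  have hr4 : r * r * (r * r) = 1 := by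
    rw [show y * y * (r * r) * (y * y * (r * r)) = y * y * (r * r * (y * y)) * (r * r) by group, hcen,
      show y * y * (y * y * (r * r)) * (r * r) = y * y * (y * y) * (r * r * (r * r)) by group] at h4
    rcases hyy with h | h <;> rw [h] at h4
    · simpa using h4
    · rwa [Q.w2, one_mul] at h4
  exact Q.no_extra ((show Commute r g from hr1).mul_left hr1) ((show Commute r h from hr2).mul_left hr2) hrr
    (by rw [hr4]; exact one_mem Z) (by rw [hr4, one_mul]) (Q.sq_fix_c r)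

/-- The squares of order two in the centraliser of an involution outside the centre are `w`. -/
theorem sq_eq_w [Finite P] (hc8 : c * c = w ∨ ∃ c₁ ∈ Z, c₁ * c₁ = c) {v t : P} (hv : v * v = 1) (hvZ : v ∉ Z)
    (hvt : t * v = v * t) (h4 : t * t * (t * t) = 1) (ht : t * t ≠ 1) : t * t = w := by
  have htZ := Q.sq_mem t h4
  by_cases hsw : c * c = w
  · rcases Q.four _ htZ h4 with e | e | e | e
    · exact absurd e ht
    · exact e
    · exact e.trans hsw
    · exact absurd (by rw [e, hsw, Q.w2]) ht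
  obtain ⟨c₁, hc₁, hc₁c⟩ := hc8.resolve_left hsw
  have K := Q.crit
  obtain ⟨y, hy, hy1, hy2⟩ := Q.dec v
  obtain ⟨r, rfl⟩ : ∃ r, v = y * r := ⟨y⁻¹ * v, by group⟩
  rw [inv_mul_cancel_left] at hy1 hy2
  obtain ⟨y', hy', hy'1, hy'2⟩ := Q.dec t
  obtain ⟨r', rfl⟩ : ∃ r', t = y' * r' := ⟨y'⁻¹ * t, by group⟩
  rw [inv_mul_cancel_left] at hy'1 hy'2
  have hry := Q.R_comm_rep hy1 hy2 hy
  have hry' := Q.R_comm_rep hy1 hy2 hy'
  have hr'y := Q.R_comm_rep hy'1 hy'2 hy
  have hr'y' := Q.R_comm_rep hy'1 hy'2 hy'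
  have sqe : ∀ a b : P, b * a = a * b → a * b * (a * b) = a * a * (b * b) := fun a b e => by
    rw [show a * b * (a * b) = a * (b * a) * b by group, e]; group
  have hyy : y * y = 1 ∨ y * y = w := (Q.rep hy).2.1.imp (fun e => by rw [e, one_mul]) id
  have hyy' : y' * y' = 1 ∨ y' * y' = w := (Q.rep hy').2.1.imp (fun e => by rw [e, one_mul]) id
  rw [sqe y r hry] at hv
  have hrr : r * r = 1 ∨ r * r = w := by
    rcases hyy with e | e <;> rw [e] at hv
    · exact Or.inl (by simpa using hv)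
    · exact Or.inr (by rw [← one_mul (r * r), ← Q.w2, mul_assoc, hv, mul_one])
  have hrrZ : r * r ∈ Z ∧ r * r * (r * r) = 1 := by
    rcases hrr with e | e <;> rw [e]
    exacts [⟨one_mem _, one_mul _⟩, ⟨Q.wZ, Q.w2⟩]
  have hδ : ∀ a, a * c * a⁻¹ = c ∨ a * c * a⁻¹ = c * (c * c) := fun a => by
    obtain ⟨hδZ, hδ2⟩ := Q.conj_c a
    have e1 : a * c * a⁻¹ = c * (a * c * a⁻¹ * c⁻¹) := by
      rw [← K.Zc _ hδZ _ Q.cZ, inv_mul_cancel_right]
    have hsqr : ∀ d, a * c * a⁻¹ = c * d → ∃ ζ ∈ Z, ζ * ζ = d := fun d e => by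
      refine ⟨c₁⁻¹ * (a * c₁ * a⁻¹), mul_mem (inv_mem hc₁) (K.Z_normal.conj_mem _ hc₁ a), ?_⟩
      have hcm : a * c₁ * a⁻¹ * c₁⁻¹ = c₁⁻¹ * (a * c₁ * a⁻¹) := (K.Zc _ (inv_mem hc₁) _ (K.Z_normal.conj_mem _ hc₁ a)).symm
      rw [show c₁⁻¹ * (a * c₁ * a⁻¹) * (c₁⁻¹ * (a * c₁ * a⁻¹)) = c₁⁻¹ * (a * c₁ * a⁻¹ * c₁⁻¹) * (a * c₁ * a⁻¹) by group,
        hcm, show c₁⁻¹ * (c₁⁻¹ * (a * c₁ * a⁻¹)) * (a * c₁ * a⁻¹) = (c₁ * c₁)⁻¹ * (a * (c₁ * c₁) * a⁻¹) by group,
        hc₁c, e, inv_mul_cancel_left]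
    rcases Q.four _ hδZ hδ2 with e | e | e | e <;> rw [e] at e1
    · exact Or.inl (by rwa [mul_one] at e1)
    · obtain ⟨ζ, hζ, e2⟩ := hsqr _ e1
      exact absurd e2 (Q.wsq hsw ζ hζ)
    · exact Or.inr e1
    · obtain ⟨ζ, hζ, e2⟩ := hsqr _ e1
      refine absurd ?_ (Q.wsq hsw (ζ * c⁻¹) (mul_mem hζ (inv_mem Q.cZ)))
      calc ζ * c⁻¹ * (ζ * c⁻¹) = ζ * (c⁻¹ * ζ) * c⁻¹ := by group
        _ = ζ * ζ * (c * c)⁻¹ := by rw [K.Zc _ (inv_mem Q.cZ) _ hζ]; group
        _ = w := by rw [e2, mul_inv_cancel_right]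
  -- elements of the centre with small square
  have hzD : ∀ z ∈ Z, z * z * (z * z) = 1 → z * z = 1 ∨ ∃ d ∈ Z, d * d = 1 ∧ z = c * d := fun z hz hz4 => by
    by_cases e : z * z = 1
    · exact Or.inl e
    · exact Or.inr (Q.eq_cD hz e hz4)
  have hrinv : r * c * r⁻¹ = c * (c * c) := by
    refine (hδ r).resolve_left fun e => ?_
    by_cases hrZ : r ∈ Z
    · rcases hzD r hrZ hrrZ.2 with e' | ⟨d, hd, hd2, e'⟩
      · rw [e', mul_one] at hv
        rcases (Q.rep hy).2.1 with e2 | e2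
        · exact hvZ (by rw [e2, one_mul]; exact hrZ)
        · exact Q.w1 (e2.symm.trans hv)
      · have e3 : r * r = c * c := by
          rw [e', show c * d * (c * d) = c * (d * c) * d by group, K.Zc d hd c Q.cZ,
            show c * (c * d) * d = c * c * (d * d) by group, hd2, mul_one]
        rcases hrr with e4 | e4
        · exact Q.c2 (e3.symm.trans e4)
        · exact hsw (e3.symm.trans e4)
    · exact Q.no_extra hy1 hy2 hrZ hrrZ.1 hrrZ.2 (mul_inv_eq_iff_eq_mul.1 e)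
  have hrne : ¬ r * c * r⁻¹ = c := fun e => Q.c2 (by
    have := e.symm.trans hrinv
    exact (left_eq_mul).1 this)
  -- the commutator of the two parts
  have hbr : br r r' = 1 ∨ br r r' = w := by
    have hyy'br : br y y' = 1 ∨ br y y' = w := by
      have hgg : br g g = 1 := br_self g
      have hhh : br h h = 1 := br_self h
      have hhg : br h g = w := by rw [← br_inv, Q.gh]; exact inv_eq_of_mul_eq_one_right Q.w2
      have S := K.shell ⟨g, Q.hg, Q.g_not⟩
      have h1 : ∀ a, (a = 1 ∨ a = g ∨ a = h ∨ a = g * h) → (br a g = 1 ∨ br a g = w) ∧ (br a h = 1 ∨ br a h = w) := by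
        rintro a (rfl | rfl | rfl | rfl)
        · exact ⟨Or.inl (by simp [br]), Or.inl (by simp [br])⟩
        · exact ⟨Or.inl hgg, Or.inr Q.gh⟩
        · exact ⟨Or.inr hhg, Or.inl hhh⟩
        · exact ⟨Or.inr (by rw [S.br_mul_left Q.hg Q.hg, hgg, hhg, one_mul]),
            Or.inr (by rw [S.br_mul_left Q.hg Q.hh, hhh, Q.gh, mul_one])⟩
      rcases hy' with rfl | rfl | rfl | rfl
      · exact Or.inl (by simp [br])
      · exact (h1 y hy).1
      · exact (h1 y hy).2
      · rw [S.br_mul_right Q.hg Q.hh]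
        rcases (h1 y hy).1 with a | a <;> rcases (h1 y hy).2 with b | b <;> rw [a, b] <;>
          simp [Q.w2]
    have e1 : br (y * r) (y' * r') = 1 := br_eq_one.2 hvt.symm
    have c1 : Commute r y' := hry'
    have c2 : Commute r' y := hr'y
    have c3 : Commute r' y' := hr'y'
    have c4 : Commute r y := hry
    have e2 : br (y * r) (y' * r') = br y y' * br r r' := by
      calc br (y * r) (y' * r') = y * (r * y') * r' * r⁻¹ * y⁻¹ * (r'⁻¹ * y'⁻¹) := by simp only [br]; group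
        _ = y * (y' * r) * r' * r⁻¹ * y⁻¹ * (y'⁻¹ * r'⁻¹) := by rw [c1.eq, (c3.inv_inv).eq]
        _ = y * y' * (r * r' * r⁻¹ * y⁻¹) * y'⁻¹ * r'⁻¹ := by group
        _ = y * y' * (y⁻¹ * (r * r' * r⁻¹)) * y'⁻¹ * r'⁻¹ := by
          rw [((c4.mul_left c2).mul_left c4.inv_left).inv_right.eq]
        _ = y * y' * y⁻¹ * (r * r' * r⁻¹ * y'⁻¹) * r'⁻¹ := by group
        _ = y * y' * y⁻¹ * (y'⁻¹ * (r * r' * r⁻¹)) * r'⁻¹ := by
          rw [((c1.mul_left c3).mul_left c1.inv_left).inv_right.eq]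
        _ = _ := by simp only [br]; group
    rw [e2] at e1
    rcases hyy'br with e | e <;> rw [e] at e1
    · exact Or.inl (by simpa using e1)
    · exact Or.inr (by rw [← one_mul (br r r'), ← Q.w2, mul_assoc, e1, mul_one])
  -- a central part commuting with `r` modulo `w` is an involution
  have hzr : ∀ z ∈ Z, z * z * (z * z) = 1 → (br r z = 1 ∨ br r z = w) → z * z = 1 := fun z hz hz4 hb => by
    refine (hzD z hz hz4).resolve_right ?_
    rintro ⟨d, hd, hd2, rfl⟩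
    have e5 : br r (c * d) = c * c := by
      have hdz : r * d * r⁻¹ = d := by rw [Q.d_cen hd hd2 r, mul_inv_cancel_right]
      calc br r (c * d) = r * c * r⁻¹ * (r * d * r⁻¹) * d⁻¹ * c⁻¹ := by simp only [br]; group
        _ = c * (c * c) * c⁻¹ := by rw [hdz, mul_inv_cancel_right, hrinv]
        _ = _ := by group
    rcases hb with e6 | e6
    · exact Q.c2 (e5.symm.trans e6)
    · exact hsw (e5.symm.trans e6)
  rw [sqe y' r' hr'y'] at h4 ht htZ ⊢
  have hyy'Z : y' * y' ∈ Z ∧ y' * y' * (y' * y') = 1 := by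
    rcases hyy' with e | e <;> rw [e]
    exacts [⟨one_mem _, one_mul _⟩, ⟨Q.wZ, Q.w2⟩]
  have hr'Z : r' * r' ∈ Z := (mul_mem_cancel_left hyy'Z.1).1 htZ
  have hr'4 : r' * r' * (r' * r') = 1 := by
    rw [show y' * y' * (r' * r') * (y' * y' * (r' * r')) = y' * y' * (r' * r' * (y' * y')) * (r' * r') by group,
      K.Zc _ hr'Z _ hyy'Z.1, show y' * y' * (y' * y' * (r' * r')) * (r' * r') =
        y' * y' * (y' * y') * (r' * r' * (r' * r')) by group, hyy'Z.2, one_mul] at h4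
    exact h4
  have hgoal : r' * r' = 1 ∨ r' * r' = w := by
    by_cases hr'Z1 : r' ∈ Z
    · exact Or.inl (hzr r' hr'Z1 hr'4 hbr)
    rcases hδ r' with e | e
    · exact (Q.no_extra hy'1 hy'2 hr'Z1 hr'Z hr'4 (mul_inv_eq_iff_eq_mul.1 e)).elim
    -- both invert `c`
    have hqc : r * r' * c * (r * r')⁻¹ = c := by
      rw [show r * r' * c * (r * r')⁻¹ = r * (r' * c * r'⁻¹) * r⁻¹ by group, e,
        show r * (c * (c * c)) * r⁻¹ = r * c * r⁻¹ * (r * (c * c) * r⁻¹) by group, hrinv, Q.s_cen r,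
        mul_inv_cancel_right, mul_assoc, Q.c4, mul_one]
    have hqq : r * r' * (r * r') = r * r * (r' * r') * br r r' := by
      rcases hbr with eb | eb
      · rw [eb, mul_one]; exact sqe r r' (br_eq_one.1 eb).symm
      · have e7 : r' * r = w * (r * r') := by
          rw [show r' * r = (br r r')⁻¹ * (r * r') by simp only [br]; group, eb,
            inv_eq_of_mul_eq_one_right Q.w2]
        rw [eb, show r * r' * (r * r') = r * (r' * r) * r' by group, e7,
          show r * (w * (r * r')) * r' = r * w * (r * r' * r') by group, Q.w_cen r,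
          show w * r * (r * r' * r') = w * (r * r * (r' * r')) by group, Q.w_cen]
    have hbrZ : br r r' ∈ Z ∧ br r r' * br r r' = 1 := by
      rcases hbr with e | e <;> rw [e]
      exacts [⟨one_mem _, one_mul _⟩, ⟨Q.wZ, Q.w2⟩]
    have hqqZ : r * r' * (r * r') ∈ Z := by rw [hqq]; exact mul_mem (mul_mem hrrZ.1 hr'Z) hbrZ.1
    have hqq2 : r * r' * (r * r') * (r * r' * (r * r')) = 1 := by
      rw [hqq]
      exact ((omega Z K.Zc).mul_mem ((omega Z K.Zc).mul_mem (x := r * r) ⟨hrrZ.1, hrrZ.2⟩ (y := r' * r')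
        ⟨hr'Z, hr'4⟩) (y := br r r') hbrZ).2
    by_cases hqZ : r * r' ∈ Z
    · have hq1 : br r (r * r') = br r r' ∨ br r (r * r') = br r r' := Or.inl (by
        have : br r (r * r') = r * br r r' * r⁻¹ := by simp only [br]; group
        rw [this, Q.d_cen hbrZ.1 hbrZ.2 r, mul_inv_cancel_right])
      have hq2 := hzr _ hqZ hqq2 (by rw [hq1.elim id id]; exact hbr)
      have e8 : r' = r⁻¹ * (r * r') := by group
      have e9 : r' * r' = (r * r)⁻¹ := by
        have hcq := Q.d_cen hqZ hq2 r⁻¹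
        rw [e8, show r⁻¹ * (r * r') * (r⁻¹ * (r * r')) = r⁻¹ * ((r * r') * r⁻¹) * (r * r') by group, ← hcq,
          show r⁻¹ * (r⁻¹ * (r * r')) * (r * r') = (r * r)⁻¹ * (r * r' * (r * r')) by group, hq2, mul_one]
      rcases hrr with e | e <;> rw [e] at e9
      · exact Or.inl (by rw [e9, inv_one])
      · exact Or.inr (by rw [e9, inv_eq_of_mul_eq_one_right Q.w2])
    · exact (Q.no_extra ((show Commute r g from hy1).mul_left hy'1) ((show Commute r h from hy2).mul_left hy'2)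
        hqZ hqqZ hqq2 (mul_inv_eq_iff_eq_mul.1 hqc)).elim
  rcases hyy' with e | e <;> rcases hgoal with e' | e' <;> rw [e, e'] at ht ⊢
  · exact absurd (one_mul _) ht
  · exact one_mul _
  · exact mul_one _
  · exact absurd Q.w2 ht

theorem isolate [Finite P] (hc8 : c * c = w ∨ ∃ c₁ ∈ Z, c₁ * c₁ = c) : Isolate P := by
  have K := Q.crit
  refine ⟨w, Q.w1, Q.w2, Q.w_cen, fun u hu huw f hf hfu => ?_⟩
  by_cases huZ : u ∈ Z
  · have htop : centralizer ({u} : Set P) = ⊤ := eq_top_iff.2 fun t _ =>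
      mem_centralizer_singleton_iff.2 (Q.d_cen huZ hu t)
    let F : P →* P := f.comp ((MonoidHom.id P).codRestrict _ fun t => htop.symm ▸ mem_top t)
    have hF : Function.Injective F := fun a b e => congrArg Subtype.val (hf e)
    let Ψ : MulAut P := MulEquiv.ofBijective F ⟨hF, Finite.surjective_of_injective hF⟩
    exact huw ((Q.fixD Ψ u huZ hu).symm.trans hfu)
  have hcu : ∀ x, x * u = u * x → x ∈ centralizer ({u} : Set P) := fun x hx => mem_centralizer_singleton_iff.2 hx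
  -- a square root of `w` in the centraliser
  obtain ⟨a, ha, haa⟩ : ∃ a, a * u = u * a ∧ a * a = w := by
    obtain ⟨y, hy, hr1, hr2⟩ := Q.dec u
    obtain ⟨r, rfl⟩ : ∃ r, u = y * r := ⟨y⁻¹ * u, by group⟩
    rw [inv_mul_cancel_left] at hr1 hr2
    rcases (Q.rep hy).2.1 with rfl | e
    · exact ⟨g, by rw [one_mul]; exact hr1.symm, Q.g2⟩
    · exact ⟨y, by rw [mul_assoc y r y, Q.R_comm_rep hr1 hr2 hy], e⟩
  let A : ↥(centralizer ({u} : Set P)) := ⟨a, hcu a ha⟩
  let U : ↥(centralizer ({u} : Set P)) := ⟨u, hcu u rfl⟩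
  let W : ↥(centralizer ({u} : Set P)) := ⟨w, hcu w (Q.w_cen u).symm⟩
  let Sc : ↥(centralizer ({u} : Set P)) := ⟨c * c, hcu _ (Q.s_cen u).symm⟩
  have hW : A * A = W := Subtype.ext haa
  have hW2 : W * W = 1 := Subtype.ext Q.w2
  have hne : ∀ X : ↥(centralizer ({u} : Set P)), (X : P) ≠ 1 → f X ≠ 1 := fun X hX e =>
    hX (congrArg Subtype.val (hf (e.trans (map_one f).symm)))
  have h4 : f A * f A * (f A * f A) = 1 := by rw [← map_mul, hW, ← map_mul, hW2, map_one]
  have hA1 : f A * f A ≠ 1 := by rw [← map_mul, hW]; exact hne W Q.w1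
  -- an image involution outside the centre
  by_cases hZ4 : f A * f A = w
  · rw [← map_mul, hW] at hZ4
    exact huw (congrArg Subtype.val (hf (hfu.trans hZ4.symm)))
  obtain ⟨v, hv, hvZ, hva⟩ : ∃ v, v * v = 1 ∧ v ∉ Z ∧ f A * v = v * f A := by
    by_contra hn
    push Not at hn
    -- the images of `u`, `w` and `c²` lie in the centre
    have hin : ∀ X : ↥(centralizer ({u} : Set P)), X * X = 1 → A * X = X * A → f X ∈ Z := fun X h1 h2 => by
      by_contra hX
      exact hn (f X) (by rw [← map_mul, h1, map_one]) hX (by rw [← map_mul, h2, map_mul])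
    have hS2 : Sc * Sc = 1 := Subtype.ext Q.c4
    have hfW : f W ∈ Z := by rw [← hW, map_mul]; exact Q.sq_mem _ h4
    rcases Q.four _ hfW (by rw [← map_mul, hW2, map_one]) with e | e | e | e
    · exact hne W Q.w1 e
    · exact hZ4 (by rw [← map_mul, hW, e])
    · have hsw : c * c ≠ w := fun h => hZ4 (by rw [← map_mul, hW, e, h])
      have hfS := hin Sc hS2 (Subtype.ext (Q.s_cen a))
      rcases Q.four _ hfS (by rw [← map_mul, hS2, map_one]) with e' | e' | e' | e'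
      · exact hne Sc Q.c2 e'
      · have e4 : u = c * c := congrArg Subtype.val (hf (hfu.trans e'.symm))
        exact huZ (by rw [e4]; exact mul_mem Q.cZ Q.cZ)
      · exact hsw (congrArg Subtype.val (hf (e'.trans e.symm)))
      · have e2 : f (U * W) = f Sc := by rw [map_mul, hfu, e, e']
        have e3 : u * w = c * c := congrArg Subtype.val (hf e2)
        exact huZ ((mul_mem_cancel_right Q.wZ).1 (e3.symm ▸ mul_mem Q.cZ Q.cZ))
    · by_cases hsw : c * c = w
      · exact hne W Q.w1 (by rw [e, hsw, Q.w2])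
      have hfS := hin Sc hS2 (Subtype.ext (Q.s_cen a))
      rcases Q.four _ hfS (by rw [← map_mul, hS2, map_one]) with e' | e' | e' | e'
      · exact hne Sc Q.c2 e'
      · have e4 : u = c * c := congrArg Subtype.val (hf (hfu.trans e'.symm))
        exact huZ (by rw [e4]; exact mul_mem Q.cZ Q.cZ)
      · have e2 : f (U * W) = f Sc := by
          rw [map_mul, hfu, e, e', ← mul_assoc, Q.w2, one_mul]
        have e3 : u * w = c * c := congrArg Subtype.val (hf e2)
        exact huZ ((mul_mem_cancel_right Q.wZ).1 (e3.symm ▸ mul_mem Q.cZ Q.cZ))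
      · exact hsw (congrArg Subtype.val (hf (e'.trans e.symm)))
  exact hZ4 (Q.sq_eq_w hc8 hv hvZ hva h4 hA1)

/-- A centre of exponent four. -/
theorem small [Finite P] (hsw : c * c ≠ w) (hexp : ∀ z ∈ Z, z * z * (z * z) = 1) :
    Nat.card P = 64 ∨ Nat.card P = 128 ∨ Cfsg.PRankLE 2 2 P := by
  classical
  have K := Q.crit
  haveI := K.C_normal
  set D := omega Z K.Zc with hDdef
  have hD4 : Nat.card ↥D ≤ 4 := K.hyp.omega_le K.Z_normal K.Zc
  have hD4' : 4 ≤ Nat.card ↥D := by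
    letI : Fintype ↥D := Fintype.ofFinite _
    rw [Nat.card_eq_fintype_card]
    have hs : c * c ∈ D := ⟨mul_mem Q.cZ Q.cZ, Q.c4⟩
    have hw : w ∈ D := ⟨Q.wZ, Q.w2⟩
    have h3 : w * (c * c) ≠ 1 := fun e => hsw (by
      rw [← one_mul (c * c), ← Q.w2, mul_assoc, e, mul_one])
    refine le_trans (le_of_eq ?_) (Finset.card_le_univ
      ({1, ⟨w, hw⟩, ⟨c * c, hs⟩, ⟨w * (c * c), mul_mem hw hs⟩} : Finset ↥D))
    simp [Subtype.ext_iff, Q.w1.symm, Q.c2.symm, h3.symm, Ne.symm hsw, Q.c2, Q.w1]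
  have hcnD : c ∉ D := fun e => Q.c2 e.2
  have hDn : D.Normal := omega_normal K.Z_normal K.Zc
  have hZeq : Z = D ⊔ zpowers c := le_antisymm (fun z hz => by
    by_cases e : z * z = 1
    · exact mem_sup_left ⟨hz, e⟩
    · obtain ⟨d, hd, hd2, rfl⟩ := Q.eq_cD hz e (hexp z hz)
      exact mul_mem (mem_sup_right (mem_zpowers c)) (mem_sup_left ⟨hd, hd2⟩))
    (sup_le (fun d hd => hd.1) (zpowers_le.2 Q.cZ))
  have hZ8 : Nat.card ↥Z = 8 := by
    haveI := hDn
    rw [hZeq, card_adj (show c * c ∈ D from ⟨mul_mem Q.cZ Q.cZ, Q.c4⟩) hcnD]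
    omega
  have hcfix : ∀ t, t * c = c * t → t ∈ C := fun t e => Q.cent t fun z hz => by
    by_cases e2 : z * z = 1
    · exact Q.d_cen hz e2 t
    · obtain ⟨d, hd, hd2, rfl⟩ := Q.eq_cD hz e2 (hexp z hz)
      rw [← mul_assoc, e, mul_assoc, Q.d_cen hd hd2 t, mul_assoc]
  by_cases hall : ∀ t, t * c = c * t
  · refine Or.inr (Or.inr fun A hA h2 => ?_)
    have hle : A ≤ D := fun x hx => by
      have hxC := hcfix x (hall x)
      have hx2 : x * x = 1 := by rw [← pow_two]; exact h2 x hx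
      obtain ⟨y, hy, hz⟩ := Q.cover x hxC
      obtain ⟨z, hzZ, rfl⟩ : ∃ z ∈ Z, x = y * z := ⟨_, hz, by group⟩
      rcases (Q.rep hy).2.1 with e | e
      · rw [e, one_mul] at hx2 ⊢; exact ⟨hzZ, hx2⟩
      · exfalso
        rw [show y * z * (y * z) = y * (z * y) * z by group, K.zc z hzZ y (Q.rep hy).1,
          show y * (y * z) * z = y * y * (z * z) by group, e] at hx2
        refine Q.wsq hsw z hzZ ?_
        rw [← one_mul (z * z), ← Q.w2, mul_assoc, hx2, mul_one]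
    exact (Nat.le_of_dvd Nat.card_pos (card_dvd_of_le hle)).trans hD4
  push Not at hall
  obtain ⟨t₀, ht₀⟩ := hall
  have hCle : Nat.card ↥C ≤ 4 * Nat.card ↥Z := card_cover g h fun x hx => by
    obtain ⟨y, hy, hz⟩ := Q.cover x hx
    rcases hy with rfl | rfl | rfl | rfl
    · exact Or.inl (by simpa using hz)
    · exact Or.inr (Or.inl hz)
    · exact Or.inr (Or.inr (Or.inl hz))
    · exact Or.inr (Or.inr (Or.inr hz))
  have hC32 : 32 ≤ Nat.card ↥C := by
    haveI := K.Z_normal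
    have hgg : g * g ∈ Z := K.sq g Q.hg
    have hle : Z ⊔ zpowers g ≤ C := sup_le K.Z_le (zpowers_le.2 Q.hg)
    haveI : (Z ⊔ zpowers g).Normal := ⟨fun a ha t => by
      rw [conj_eq_br]; exact mul_mem (mem_sup_left (K.comm t a (hle ha))) ha⟩
    have hhn : h ∉ Z ⊔ zpowers g := fun e => Q.w1 (by
      rw [← Q.gh, br_eq_one]
      rcases mem_adj hgg e with e1 | e1
      · exact (K.zc h e1 g Q.hg).symm
      · calc g * h = g * (h * g⁻¹ * g) := by group
          _ = g * (h * g⁻¹) * g := by group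
          _ = h * g⁻¹ * g * g := by rw [← K.zc _ e1 g Q.hg]
          _ = h * g := by group)
    have h1 := card_adj (mem_sup_left (K.sq h Q.hh)) hhn
    rw [card_adj hgg Q.g_not, hZ8] at h1
    have h2 := Nat.le_of_dvd Nat.card_pos (card_dvd_of_le (sup_le hle (zpowers_le.2 Q.hh)))
    omega
  have hidx : C.index ≤ 4 := by
    refine le_trans (Nat.card_le_card_of_injective (α := P ⧸ C)
      (fun q => Quotient.liftOn' q (fun t => (⟨t * c * t⁻¹ * c⁻¹, Q.conj_c t⟩ : ↥D)) fun a b e => ?_) ?_) hD4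
    · rw [QuotientGroup.leftRel_apply] at e
      obtain ⟨x, hx, rfl⟩ : ∃ x ∈ C, b = a * x := ⟨_, e, by group⟩
      refine Subtype.ext ?_
      show a * c * a⁻¹ * c⁻¹ = a * x * c * (a * x)⁻¹ * c⁻¹
      rw [show a * x * c * (a * x)⁻¹ = a * (x * c) * x⁻¹ * a⁻¹ by group, ← K.zc c Q.cZ x hx]
      group
    · intro q q'
      induction q using Quotient.inductionOn' with
      | h a =>
        induction q' using Quotient.inductionOn' with
        | h b =>
          intro e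
          have e1 : a * c * a⁻¹ = b * c * b⁻¹ := mul_right_cancel (congrArg Subtype.val e)
          refine Quotient.sound' (QuotientGroup.leftRel_apply.2 (hcfix _ ?_))
          calc a⁻¹ * b * c = a⁻¹ * (b * c * b⁻¹) * b := by group
            _ = c * (a⁻¹ * b) := by rw [← e1]; group
  have hidx1 : C.index ≠ 1 := fun e => ht₀ (by
    rw [index_eq_one] at e
    exact (K.zc c Q.cZ t₀ (e ▸ mem_top t₀)).symm)
  have hidx0 : C.index ≠ 0 := FiniteIndex.index_ne_zero
  have hcard := C.card_mul_index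
  obtain ⟨k, hk⟩ := IsPGroup.iff_card.1 K.hyp.pgroup
  rw [hk] at hcard ⊢
  have hlo : 2 ^ 6 ≤ 2 ^ k := by
    rw [← hcard]
    calc 2 ^ 6 = 32 * 2 := by norm_num
      _ ≤ _ := Nat.mul_le_mul hC32 (by omega)
  have hhi : 2 ^ k ≤ 2 ^ 7 := by
    rw [← hcard]
    calc _ ≤ 32 * 4 := Nat.mul_le_mul (by omega) hidx
      _ = 2 ^ 7 := by norm_num
  have h6 := (Nat.pow_le_pow_iff_right (by norm_num : 1 < 2)).1 hlo
  have h7 := (Nat.pow_le_pow_iff_right (by norm_num : 1 < 2)).1 hhi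
  interval_cases k
  · exact Or.inl (by norm_num)
  · exact Or.inr (Or.inl (by norm_num))

end Quat

namespace Crit

variable {Z C : Subgroup P} (K : Crit φ Z C)
include K

/-- The frame exists, with `c` a square in exponent at least eight. -/
theorem exists_quat [Finite P] (hne : ∃ x ∈ C, x ∉ Z) (hexp : ∃ ζ ∈ Z, ζ * ζ ≠ 1) :
    ∃ g h w c, Quat φ Z C g h w c ∧ ((∃ c₁ ∈ Z, c₁ * c₁ = c) ∨ ∀ z ∈ Z, z * z * (z * z) = 1) := by
  have hP := K.hyp.pgroup
  have S := K.shell hne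
  obtain ⟨hfix, hord, hC4⟩ := S.index_four K.hyp hexp
  haveI := K.Z_normal
  have hφ3 : ∀ y, φ (φ (φ y)) = y := fun y => by
    have h1 : φ ^ 3 = 1 := hord ▸ pow_orderOf_eq_one φ
    exact congrArg (fun f : MulAut P => f y) h1
  obtain ⟨x, hx, hxm⟩ := K.moves hne
  obtain ⟨g, hgdef⟩ : ∃ g, g = x⁻¹ * φ x := ⟨_, rfl⟩
  rw [← hgdef] at hxm
  have hgC : g ∈ C := hgdef ▸ mul_mem (inv_mem hx) (K.C_map φ hx)
  obtain ⟨h, hhdef⟩ : ∃ h, h = φ g := ⟨_, rfl⟩
  have hhC : h ∈ C := hhdef ▸ K.C_map φ hgC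
  have hhZ : h ∉ Z := fun e => hxm (by have := K.Z_map φ.symm e; rwa [hhdef, MulEquiv.symm_apply_apply] at this)
  have hprod : g * h * φ h = 1 := by
    simp only [hhdef, hgdef, map_mul, map_inv, hφ3]; group
  have hghZ : g⁻¹ * h ∉ Z := fun e => hxm (by
    have h1 := shift_one hP K.hyp.odd (a := g) (c := g⁻¹ * h) (by rw [hhdef]; group) (hfix _ e)
    rw [inv_mul_eq_one] at h1
    have h2 : φ h = h := by
      conv_lhs => rw [← h1, ← hhdef]
    rw [h2, ← h1] at hprod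
    have h3 : g ^ 3 = 1 := by rw [← hprod, pow_succ, pow_two]
    obtain ⟨k, hk⟩ := hP g
    rw [orderOf_eq_one_iff.1 (Nat.eq_one_of_dvd_coprimes (a := 3) (b := 2 ^ k)
      ((by decide : Nat.Coprime 3 2).pow_right k) (orderOf_dvd_of_pow_eq_one h3) (orderOf_dvd_of_pow_eq_one hk))]
    exact one_mem Z)
  have hcov := fun y (hy : y ∈ C) => S.cover le_rfl K.Z_le hC4 hgC hhC hxm hhZ hghZ hy
  have cover : ∀ y ∈ C, ∃ a, (a = 1 ∨ a = g ∨ a = h ∨ a = g * h) ∧ a⁻¹ * y ∈ Z := fun y hy => by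
    rcases hcov y hy with e | e | e | e
    exacts [⟨1, Or.inl rfl, by simpa using e⟩, ⟨g, Or.inr (Or.inl rfl), e⟩,
      ⟨h, Or.inr (Or.inr (Or.inl rfl)), e⟩, ⟨g * h, Or.inr (Or.inr (Or.inr rfl)), e⟩]
  obtain ⟨w, hwdef⟩ : ∃ w, w = br g h := ⟨_, rfl⟩
  have hwZ : w ∈ Z := hwdef ▸ K.comm g h hhC
  have hw2 : w * w = 1 := hwdef ▸ K.br_sq hgC hhC
  have hww : br h g = w := by rw [hwdef]; exact S.br_symm hgC hhC
  have hone : ∀ a ∈ C, (br a g = 1 ∨ br a g = w) ∧ (br a h = 1 ∨ br a h = w) := fun a ha => by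
    obtain ⟨y, hy, hz⟩ := cover a ha
    have hyC : y ∈ C := by rcases hy with rfl | rfl | rfl | rfl; exacts [one_mem _, hgC, hhC, mul_mem hgC hhC]
    have e : ∀ b ∈ C, br a b = br y b := fun b hb => by
      have := S.br_mul_left (x' := y⁻¹ * a) hyC hb
      rwa [mul_inv_cancel_left, S.br_z hz hb, mul_one] at this
    rw [e g hgC, e h hhC]
    rcases hy with rfl | rfl | rfl | rfl
    · exact ⟨Or.inl (by simp [br]), Or.inl (by simp [br])⟩
    · exact ⟨Or.inl (br_self _), Or.inr hwdef.symm⟩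
    · exact ⟨Or.inr hww, Or.inl (br_self _)⟩
    · exact ⟨Or.inr (by rw [S.br_mul_left hgC hgC, br_self, hww, one_mul]),
        Or.inr (by rw [S.br_mul_left hgC hhC, br_self, hwdef, mul_one])⟩
  have hw1 : w ≠ 1 := fun e => hxm (K.mem_of_comm fun y hy => br_eq_one.1 (by
    rw [S.br_symm hy hgC]
    rcases (hone y hy).1 with e' | e'
    · exact e'
    · exact e'.trans e))
  obtain ⟨e0, he0⟩ : ∃ e0, e0 = g * g := ⟨_, rfl⟩
  have he0Z : e0 ∈ Z := he0 ▸ K.sq g hgC
  have hhh : h * h = e0 := by rw [hhdef, ← map_mul, ← he0, hfix _ he0Z]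
  have hφh : φ h * φ h = e0 := by rw [← map_mul, hhh, hfix _ he0Z]
  have hgg : g * g = w := by
    have h1 : φ h = (g * h)⁻¹ := eq_inv_of_mul_eq_one_right hprod
    have h2 : g * h * (g * h) = e0 * e0 * w := by
      rw [S.sq_mul hgC hhC, ← he0, hhh, ← hwdef]
    rw [h1, ← mul_inv_rev, h2, inv_eq_iff_mul_eq_one] at hφh
    have hwc : Commute w e0 := K.Zc w hwZ e0 he0Z
    have h3 : e0 ^ 3 = w := by
      have : e0 ^ 3 * w = 1 := by
        rw [← hφh, show e0 * e0 * w * e0 = e0 * e0 * (w * e0) by group, hwc.eq, pow_succ, pow_two]; group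
      rw [eq_inv_of_mul_eq_one_left this, inv_eq_of_mul_eq_one_right hw2]
    have h6 : (e0 * e0) ^ 3 = 1 := by
      rw [← pow_two, ← pow_mul, mul_comm, pow_mul, h3, pow_two, hw2]
    obtain ⟨k, hk⟩ := hP (e0 * e0)
    have h4 : e0 * e0 = 1 := orderOf_eq_one_iff.1 (Nat.eq_one_of_dvd_coprimes (a := 3) (b := 2 ^ k)
      ((by decide : Nat.Coprime 3 2).pow_right k) (orderOf_dvd_of_pow_eq_one h6) (orderOf_dvd_of_pow_eq_one hk))
    rw [← he0, ← h3, pow_succ, pow_two, h4, one_mul]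
  rw [he0, hgg] at hhh
  -- the element of order four
  obtain ⟨c, hcZ, hc2, hc4, hc8⟩ : ∃ c ∈ Z, c * c ≠ 1 ∧ c * c * (c * c) = 1 ∧
      ((∃ c₁ ∈ Z, c₁ * c₁ = c) ∨ ∀ z ∈ Z, z * z * (z * z) = 1) := by
    by_cases h8 : ∀ z ∈ Z, z * z * (z * z) = 1
    · obtain ⟨ζ, hζ, hζ2⟩ := hexp
      exact ⟨ζ, hζ, hζ2, h8 ζ hζ, Or.inr h8⟩
    · push Not at h8
      obtain ⟨z, hz, hz4⟩ := h8
      obtain ⟨k, hk2, hk4⟩ := exists_four hP hz4
      exact ⟨(z * z) ^ k, pow_mem (mul_mem hz hz) k, hk2, hk4,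
        Or.inl ⟨z ^ k, pow_mem hz k, ((Commute.refl z).mul_pow k).symm⟩⟩
  -- the involutions of the centre
  have hwsq : c * c ≠ w → ∀ ζ ∈ Z, ζ * ζ ≠ w := fun hsw ζ hζ e => by
    have h4 : Nat.card ↥(omega Z S.Zc) = 4 := by
      have hle := K.hyp.omega_le K.Z_normal K.Zc
      classical
      letI : Fintype ↥(omega Z S.Zc) := Fintype.ofFinite _
      refine le_antisymm hle ?_
      rw [Nat.card_eq_fintype_card]
      have hs : c * c ∈ omega Z S.Zc := ⟨mul_mem hcZ hcZ, hc4⟩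
      have hw : w ∈ omega Z S.Zc := ⟨hwZ, hw2⟩
      have h3 : w * (c * c) ≠ 1 := fun e => hsw (by rw [← one_mul (c * c), ← hw2, mul_assoc, e, mul_one])
      refine le_trans (le_of_eq ?_) (Finset.card_le_univ
        ({1, ⟨w, hw⟩, ⟨c * c, hs⟩, ⟨w * (c * c), mul_mem hw hs⟩} : Finset ↥(omega Z S.Zc)))
      simp [Subtype.ext_iff, hw1.symm, hc2.symm, h3.symm, Ne.symm hsw, hc2, hw1]
    exact S.sq_not_sq_four K.hyp h4 hgC hxm (hgg ▸ ⟨ζ, hζ, e⟩)
  have four : ∀ d ∈ Z, d * d = 1 → d = 1 ∨ d = w ∨ d = c * c ∨ d = w * (c * c) := by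
    intro d hd hd2
    by_contra hn
    push Not at hn
    obtain ⟨n1, n2, n3, n4⟩ := hn
    classical
    letI : Fintype ↥(omega Z S.Zc) := Fintype.ofFinite _
    have hle := K.hyp.omega_le K.Z_normal K.Zc
    have hs : c * c ∈ omega Z S.Zc := ⟨mul_mem hcZ hcZ, hc4⟩
    have hw : w ∈ omega Z S.Zc := ⟨hwZ, hw2⟩
    by_cases hsw : c * c = w
    · -- four involutions with `w` a square
      have hdw : d * w ≠ 1 := fun e => n2 (by rw [← mul_one d, ← hw2, ← mul_assoc, e, one_mul])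
      have h4 : Nat.card ↥(omega Z S.Zc) = 4 := le_antisymm hle (by
        rw [Nat.card_eq_fintype_card]
        refine le_trans (le_of_eq ?_) (Finset.card_le_univ
          ({1, ⟨d, hd, hd2⟩, ⟨w, hw⟩, ⟨d * w, mul_mem (show d ∈ omega Z S.Zc from ⟨hd, hd2⟩) hw⟩} :
            Finset ↥(omega Z S.Zc)))
        simp [Subtype.ext_iff, hw1.symm, Ne.symm n1, hdw.symm, n2, hw1, n1])
      exact S.sq_not_sq_four K.hyp h4 hgC hxm (hgg ▸ ⟨c, hcZ, hsw⟩)
    · have h3 : w * (c * c) ≠ 1 := fun e => hsw (by rw [← one_mul (c * c), ← hw2, mul_assoc, e, mul_one])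
      have h5 : 5 ≤ Nat.card ↥(omega Z S.Zc) := by
        rw [Nat.card_eq_fintype_card]
        refine le_trans (le_of_eq ?_) (Finset.card_le_univ
          ({⟨d, hd, hd2⟩, 1, ⟨w, hw⟩, ⟨c * c, hs⟩, ⟨w * (c * c), mul_mem hw hs⟩} : Finset ↥(omega Z S.Zc)))
        simp [Subtype.ext_iff, hw1.symm, hc2.symm, h3.symm, Ne.symm hsw, hc2, hw1, n1, n2, n3, n4]
      omega
  have fixw : ∀ ψ : MulAut P, ψ w = w := fun ψ => by
    have hne1 : ψ w ≠ 1 := fun e => hw1 (by rw [← MulEquiv.symm_apply_apply ψ w, e, map_one])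
    rw [hwdef, map_br] at hne1 ⊢
    rw [← hwdef]
    obtain ⟨y, hy, hz⟩ := cover _ (K.C_map ψ hhC)
    have hgC' := K.C_map ψ hgC
    have e : br (ψ g) (ψ h) = br (ψ g) y := by
      have hyC : y ∈ C := by rcases hy with rfl | rfl | rfl | rfl; exacts [one_mem _, hgC, hhC, mul_mem hgC hhC]
      have := S.br_mul_right (x := ψ g) hyC (K.Z_le hz)
      rwa [mul_inv_cancel_left, S.br_z_right hz hgC', mul_one] at this
    rw [e] at hne1 ⊢
    obtain ⟨hg', hh'⟩ := hone _ hgC'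
    rcases hy with rfl | rfl | rfl | rfl
    · exact absurd (by simp [br]) hne1
    · exact hg'.resolve_left hne1
    · exact hh'.resolve_left hne1
    · rw [S.br_mul_right hgC hhC] at hne1 ⊢
      rcases hg' with a | a <;> rcases hh' with b | b <;> rw [a, b] at hne1 ⊢
      · exact absurd (one_mul _) hne1
      · exact one_mul _
      · exact mul_one _
      · exact absurd hw2 hne1
  have fixD : ∀ ψ : MulAut P, ∀ d ∈ Z, d * d = 1 → ψ d = d := by
    intro ψ
    have hs : ψ (c * c) = c * c := by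
      have h1 : ψ (c * c) ∈ Z := K.Z_map ψ (mul_mem hcZ hcZ)
      have h2 : ψ (c * c) * ψ (c * c) = 1 := by rw [← map_mul, hc4, map_one]
      by_cases hsw : c * c = w
      · rw [hsw]; exact fixw ψ
      rcases four _ h1 h2 with e | e | e | e
      · exact absurd (ψ.injective (e.trans (map_one ψ).symm)) hc2
      · exact absurd (ψ.injective (e.trans (fixw ψ).symm)) hsw
      · exact e
      · refine absurd ?_ (hwsq hsw (ψ c * c⁻¹) (mul_mem (K.Z_map ψ hcZ) (inv_mem hcZ)))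
        calc ψ c * c⁻¹ * (ψ c * c⁻¹) = ψ c * (c⁻¹ * ψ c) * c⁻¹ := by group
          _ = ψ c * ψ c * (c * c)⁻¹ := by rw [K.Zc _ (inv_mem hcZ) _ (K.Z_map ψ hcZ)]; group
          _ = w := by rw [← map_mul, e, mul_inv_cancel_right]
    intro d hd hd2
    rcases four d hd hd2 with rfl | rfl | rfl | rfl
    · exact map_one ψ
    · exact fixw ψ
    · exact hs
    · rw [map_mul, fixw ψ, hs]
  have dcen : ∀ d ∈ Z, d * d = 1 → ∀ t, t * d = d * t := fun d hd hd2 t =>
    mul_inv_eq_iff_eq_mul.1 (by simpa [MulAut.conj_apply] using fixD (MulAut.conj t) d hd hd2)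
  -- the centraliser of the centre is `C`
  set D0 := centralizer (Z : Set P) with hD0
  have hD0m : ∀ {t}, t ∈ D0 ↔ ∀ z ∈ Z, t * z = z * t := fun {t} => by
    rw [hD0, mem_centralizer_iff]; exact ⟨fun e z hz => (e z hz).symm, fun e z hz => (e z hz).symm⟩
  have hCD : C ≤ D0 := fun y hy => hD0m.2 fun z hz => (K.zc z hz y hy).symm
  have hbD : ∀ t ∈ D0, ∀ y ∈ C, br t y * br t y = 1 := fun t ht y hy => by
    have h1 : br t (y * y) = 1 := br_eq_one.2 (hD0m.1 ht _ (K.sq y hy))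
    have h2 : br t (y * y) = br t y * (y * br t y * y⁻¹) := by simp only [br]; group
    rwa [h2, ← K.zc _ (K.comm t y hy) y hy, mul_inv_cancel_right] at h1
  have S0 : Shell φ Z D0 :=
    { Z_le := le_trans K.Z_le hCD
      Z_normal := K.Z_normal
      zc := fun ζ hζ t ht => (hD0m.1 ht ζ hζ).symm
      selfc := fun t _ hc => K.mem_of_comm fun y hy => hc y (hCD hy)
      sq := fun t ht => K.sq_centralizer (hD0m.1 ht) (hbD t ht)
      comm := fun s t ht => K.mem_of_comm fun y hy => by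
        have hy' : s⁻¹ * y * s ∈ C := by simpa using K.C_normal.conj_mem y hy s⁻¹
        have hcs : ∀ b ∈ C, ∀ a, a * br t b = br t b * a := fun b hb a =>
          dcen _ (K.comm t b hb) (hbD t ht b hb) a
        have he : br t (s⁻¹ * y * s) = br t y := by
          have h1 : s⁻¹ * y * s = y * br y⁻¹ s⁻¹ := by simp only [br]; group
          have h2 : br y⁻¹ s⁻¹ ∈ Z := by
            rw [← br_inv]; exact inv_mem (K.comm _ _ (inv_mem hy))
          rw [h1, show br t (y * br y⁻¹ s⁻¹) = br t y * (y * br t (br y⁻¹ s⁻¹) * y⁻¹) by simp only [br]; group,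
            br_eq_one.2 (hD0m.1 ht _ h2), mul_one, mul_inv_cancel, mul_one]
        have h5 : s * t * s⁻¹ * y = br t y * y * (s * t * s⁻¹) := by
          calc s * t * s⁻¹ * y = s * (t * (s⁻¹ * y * s)) * s⁻¹ := by group
            _ = s * (br t (s⁻¹ * y * s) * (s⁻¹ * y * s) * t) * s⁻¹ := by
              rw [show br t (s⁻¹ * y * s) * (s⁻¹ * y * s) * t = t * (s⁻¹ * y * s) by simp only [br]; group]
            _ = s * br t y * (s⁻¹ * y * (s * t * s⁻¹)) := by rw [he]; group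
            _ = _ := by rw [hcs y hy s]; group
        have h7 : t * (br t y * y) = y * t := by
          rw [← mul_assoc, hcs y hy t, show br t y * t * y = br t y * (t * y) by group,
            show t * y = br t y * y * t by simp only [br]; group, ← mul_assoc, ← mul_assoc, hbD t ht y hy, one_mul]
        calc br s t * y = s * t * s⁻¹ * (t⁻¹ * (y * t)) * t⁻¹ := by simp only [br]; group
          _ = s * t * s⁻¹ * br t y * y * t⁻¹ := by rw [← h7]; group
          _ = br t y * (s * t * s⁻¹ * y) * t⁻¹ := by rw [hcs y hy]; group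
          _ = br t y * br t y * (y * (s * t * s⁻¹ * t⁻¹)) := by rw [h5]; group
          _ = y * br s t := by rw [hbD t ht y hy, one_mul]; rfl
      Wφ := fun t ht => hD0m.2 fun z hz => by
        have := congrArg φ (hD0m.1 ht z hz)
        rwa [map_mul, map_mul, hfix z hz] at this
      Zφ := fun _ hz => K.Z_map φ hz
      faithful := fun ψ hψ h => K.faithful hψ fun y hy => h y (hCD hy)
      moves := ⟨x, hCD hx, hgdef ▸ hxm⟩ }
  obtain ⟨-, -, hD4⟩ := S0.index_four K.hyp hexp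
  have cent : ∀ t, (∀ z ∈ Z, t * z = z * t) → t ∈ C := fun t ht => by
    have hcov0 := S0.cover le_rfl (le_trans K.Z_le hCD) hD4 (hCD hgC) (hCD hhC) hxm hhZ hghZ (hD0m.2 ht)
    rcases hcov0 with e | e | e | e
    · exact K.Z_le e
    · simpa using mul_mem hgC (K.Z_le e)
    · simpa using mul_mem hhC (K.Z_le e)
    · simpa [mul_assoc] using mul_mem (mul_mem hgC hhC) (K.Z_le e)
  have dec : ∀ t, ∃ y, (y = 1 ∨ y = g ∨ y = h ∨ y = g * h) ∧ (y⁻¹ * t) * g = g * (y⁻¹ * t) ∧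
      (y⁻¹ * t) * h = h * (y⁻¹ * t) := by
    intro t
    have hδ : ∀ a ∈ C, a * a = w → br t a * br t a = 1 := fun a ha haa => by
      have hwc : t * w = w * t := dcen w hwZ hw2 t
      have h1 : br t (a * a) = 1 := by rw [haa]; exact br_eq_one.2 hwc
      have h2 : br t (a * a) = br t a * (a * br t a * a⁻¹) := by simp only [br]; group
      rwa [h2, ← K.zc _ (K.comm t a ha) a ha, mul_inv_cancel_right] at h1
    have hδg := hδ g hgC hgg
    have hδh := hδ h hhC hhh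
    have hcφ : t⁻¹ * φ t ∈ C := cent _ fun z hz => by
      have h1 : φ t * z = φ (t * z) := by rw [map_mul, hfix z hz]
      have h2 : φ t * z * (φ t)⁻¹ = t * z * t⁻¹ := by
        rw [h1, ← map_inv, ← map_mul, hfix _ (K.Z_normal.conj_mem z hz t)]
      calc t⁻¹ * φ t * z = t⁻¹ * (φ t * z * (φ t)⁻¹) * φ t := by group
        _ = _ := by rw [h2]; group
    obtain ⟨u, hu, htu⟩ : ∃ u ∈ C, φ t = t * u := ⟨_, hcφ, by group⟩
    have htr : ∀ b ∈ C, br (φ t) b = t * br u b * t⁻¹ * br t b := fun b hb => by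
      rw [htu]; simp only [br]; group
    have hfixb : ∀ a ∈ C, br (φ t) (φ a) = br t a := fun a ha => by
      rw [← map_br, hfix _ (K.comm t a ha)]
    have hw' : ∀ v, v = 1 ∨ v = w → t * v * t⁻¹ = v := by
      rintro v (rfl | rfl)
      · group
      · rw [dcen _ hwZ hw2 t, mul_inv_cancel_right]
    obtain ⟨hug, huh⟩ := hone u hu
    -- `δ g = ε δ h` and `δ g δ h = ε' δ h`
    have e1 : br t g = br u h * br t h := by
      rw [← hfixb g hgC, ← hhdef, htr h hhC, hw' _ huh]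
    have e2 : br t h = (br u g * br u h) * (br t g * br t h) := by
      have h1 : φ h = (g * h)⁻¹ := eq_inv_of_mul_eq_one_right hprod
      conv_lhs => rw [← hfixb h hhC, h1, htr _ (inv_mem (mul_mem hgC hhC))]
      have hbu : br u (g * h)⁻¹ = br u g * br u h := by
        have h3 := S.br_mul_right (x := u) (inv_mem (mul_mem hgC hhC)) (mul_mem hgC hhC)
        rw [inv_mul_cancel, show br u 1 = 1 by simp [br], S.br_mul_right hgC hhC] at h3
        rw [eq_inv_of_mul_eq_one_left h3.symm, inv_eq_of_mul_eq_one_right]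
        rcases hug with a | a <;> rcases huh with b | b <;> rw [a, b] <;> simp [hw2]
      have hbt : br t (g * h)⁻¹ = br t g * br t h := by
        have h3 := S.br_mul_right (x := t) (inv_mem (mul_mem hgC hhC)) (mul_mem hgC hhC)
        rw [inv_mul_cancel, show br t 1 = 1 by simp [br], S.br_mul_right hgC hhC] at h3
        rw [eq_inv_of_mul_eq_one_left h3.symm, inv_eq_of_mul_eq_one_right]
        rw [show br t g * br t h * (br t g * br t h) = br t g * (br t h * br t g) * br t h by group,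
          K.Zc _ (K.comm t h hhC) _ (K.comm t g hgC),
          show br t g * (br t g * br t h) * br t h = br t g * br t g * (br t h * br t h) by group, hδg, hδh, one_mul]
      have h8 : br u g * br u h = 1 ∨ br u g * br u h = w := by
        rcases hug with a | a <;> rcases huh with b | b <;> rw [a, b] <;> simp [hw2]
      rw [hbu, hbt, hw' _ h8]
    have hg01 : br t g = 1 ∨ br t g = w := by
      rw [← mul_assoc, right_eq_mul] at e2
      have h4 : br t g = (br u g * br u h)⁻¹ := eq_inv_of_mul_eq_one_right e2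
      rw [h4]
      rcases hug with a | a <;> rcases huh with b | b <;> rw [a, b] <;>
        simp [inv_eq_of_mul_eq_one_right hw2, hw2]
    have hh01 : br t h = 1 ∨ br t h = w := by
      have h5 : br t h = (br u h)⁻¹ * br t g := by rw [e1]; group
      rcases huh with b | b <;> rcases hg01 with a | a <;> rw [h5, b, a] <;>
        simp [inv_eq_of_mul_eq_one_right hw2, hw2]
    have fin : ∀ y ∈ C, br y g = br t g → br y h = br t h →
        (y⁻¹ * t) * g = g * (y⁻¹ * t) ∧ (y⁻¹ * t) * h = h * (y⁻¹ * t) := fun y hy a b => by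
      have key : ∀ q ∈ C, br y q = br t q → y⁻¹ * t * q = q * (y⁻¹ * t) := fun q _ e => by
        have h1 : y * q * y⁻¹ = t * q * t⁻¹ := by rw [conj_eq_br, conj_eq_br, e]
        calc y⁻¹ * t * q = y⁻¹ * (t * q * t⁻¹) * t := by group
          _ = _ := by rw [← h1]; group
      exact ⟨key g hgC a, key h hhC b⟩
    rcases hg01 with a | a <;> rcases hh01 with b | b
    · exact ⟨1, Or.inl rfl, fin 1 (one_mem _) (Eq.trans (by simp [br]) a.symm) (Eq.trans (by simp [br]) b.symm)⟩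
    · exact ⟨g, Or.inr (Or.inl rfl), fin g hgC ((br_self g).trans a.symm) (hwdef.symm.trans b.symm)⟩
    · exact ⟨h, Or.inr (Or.inr (Or.inl rfl)), fin h hhC (hww.trans a.symm) ((br_self h).trans b.symm)⟩
    · exact ⟨g * h, Or.inr (Or.inr (Or.inr rfl)), fin _ (mul_mem hgC hhC)
        (by rw [S.br_mul_left hgC hgC, br_self, hww, one_mul, a])
        (by rw [S.br_mul_left hgC hhC, br_self, ← hwdef, mul_one, b])⟩
  exact ⟨g, h, w, c, ⟨K, hgC, hhC, hxm, hgg, hhh, hw1, hwZ, hwdef.symm, cover, cent, dec, hcZ, hc2, hc4, four, hwsq,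
    fixD⟩, hc8⟩

/-- The case of a centre of exponent at least four. -/
theorem quat [Finite P] (hne : ∃ x ∈ C, x ∉ Z) (hexp : ∃ ζ ∈ Z, ζ * ζ ≠ 1) :
    Nat.card P = 64 ∨ Nat.card P = 128 ∨ Cfsg.PRankLE 2 2 P ∨ Isolate P := by
  obtain ⟨g, h, w, c, Q, hc8⟩ := K.exists_quat hne hexp
  by_cases hsw : c * c = w
  · exact Or.inr (Or.inr (Or.inr (Q.isolate (Or.inl hsw))))
  rcases hc8 with h1 | h1
  · exact Or.inr (Or.inr (Or.inr (Q.isolate (Or.inr h1))))
  · rcases Q.small hsw h1 with e | e | e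
    exacts [Or.inl e, Or.inr (Or.inl e), Or.inr (Or.inr (Or.inl e))]

end Crit

end Cfsg.Agent.Transfer.NTwo
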