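import Cfsg.Prelude
import Cfsg.Agent.S0111
import Cfsg.Agent.Lib.Fus.ZStarCenter
import Cfsg.Agent.Lib.Invol.Sylow
import Cfsg.Agent.Lib.Transfer.NormalTwo.QuatR
import Cfsg.Agent.Lib.Transfer.NormalTwo.HomA

/-!
# Fusion: the two remaining configurations do not occur in simple groups (for S3311)
-/

set_option autoImplicit false

namespace Cfsg.Agent.Transfer.NTwo

open Subgroup
open Cfsg.Agent.Invol.FpfThree (mem_adj card_adj)

variable {G : Type*} [Group G] [Finite G]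

/-- A fusion onto a central involution can be chosen to carry the centraliser into the Sylow subgroup. -/
theorem extremal (T : Sylow 2 G) {u : G} (z : ↥T) (hzc : ∀ t : ↥T, t * z = z * t) (hu : u ∈ (T : Subgroup G))
    (hg : ∃ g : G, g * u * g⁻¹ = (z : G)) :
    ∃ f : ↥(centralizer ({(⟨u, hu⟩ : ↥T)} : Set ↥T)) →* ↥T, ∃ g : G,
      (∀ k, ((f k : ↥T) : G) = g * ((k : ↥T) : G) * g⁻¹) ∧ Function.Injective f ∧
      f ⟨⟨u, hu⟩, mem_centralizer_singleton_iff.2 rfl⟩ = z := by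
  haveI : Fact (Nat.Prime 2) := ⟨Nat.prime_two⟩
  obtain ⟨g₀, hg₀⟩ := hg
  set K := centralizer ({(z : G)} : Set G)
  have hTK : (T : Subgroup G) ≤ K := fun t ht =>
    mem_centralizer_singleton_iff.2 (congrArg Subtype.val (hzc ⟨t, ht⟩))
  set Cu := centralizer ({(⟨u, hu⟩ : ↥T)} : Set ↥T)
  let c : ↥Cu →* ↥K :=
    { toFun := fun k => ⟨g₀ * ((k : ↥T) : G) * g₀⁻¹, mem_centralizer_singleton_iff.2 (by
        have h1 : ((k : ↥T) : G) * u = u * ((k : ↥T) : G) :=
          congrArg Subtype.val (mem_centralizer_singleton_iff.1 k.2)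
        rw [← hg₀, show g₀ * ((k : ↥T) : G) * g₀⁻¹ * (g₀ * u * g₀⁻¹) = g₀ * (((k : ↥T) : G) * u) * g₀⁻¹ by group, h1]
        group)⟩
      map_one' := Subtype.ext (by simp)
      map_mul' := fun a b => Subtype.ext (by
        show g₀ * (((a : ↥T) : G) * ((b : ↥T) : G)) * g₀⁻¹ = g₀ * ((a : ↥T) : G) * g₀⁻¹ * (g₀ * ((b : ↥T) : G) * g₀⁻¹)
        group) }
  have hp : IsPGroup 2 ↥c.range :=
    ((IsPGroup.to_subgroup T.isPGroup' Cu).of_surjective c.rangeRestrict c.rangeRestrict_surjective)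
  obtain ⟨k, hk⟩ := Cfsg.Agent.Invol.exists_conj_subset_sylow hp (T.subtype hTK)
  let f : ↥Cu →* ↥T :=
    { toFun := fun x => ⟨((k : G) * g₀) * ((x : ↥T) : G) * ((k : G) * g₀)⁻¹, by
        have h1 : (k : G) * (g₀ * ((x : ↥T) : G) * g₀⁻¹) * (k : G)⁻¹ ∈ (T : Subgroup G) := hk (c x) ⟨x, rfl⟩
        rwa [show (k : G) * g₀ * ((x : ↥T) : G) * ((k : G) * g₀)⁻¹ = (k : G) * (g₀ * ((x : ↥T) : G) * g₀⁻¹) * (k : G)⁻¹ by group]⟩
      map_one' := Subtype.ext (by simp)
      map_mul' := fun a b => Subtype.ext (by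
        show (k : G) * g₀ * (((a : ↥T) : G) * ((b : ↥T) : G)) * ((k : G) * g₀)⁻¹ =
          (k : G) * g₀ * ((a : ↥T) : G) * ((k : G) * g₀)⁻¹ * ((k : G) * g₀ * ((b : ↥T) : G) * ((k : G) * g₀)⁻¹)
        group) }
  refine ⟨f, (k : G) * g₀, fun x => rfl, fun a b e => ?_, Subtype.ext ?_⟩
  · exact Subtype.ext (Subtype.ext (mul_left_cancel (mul_right_cancel (congrArg Subtype.val e))))
  · show (k : G) * g₀ * u * ((k : G) * g₀)⁻¹ = (z : G)
    rw [show (k : G) * g₀ * u * ((k : G) * g₀)⁻¹ = (k : G) * (g₀ * u * g₀⁻¹) * (k : G)⁻¹ by group, hg₀,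
      mem_centralizer_singleton_iff.1 k.2, mul_inv_cancel_right]

variable [IsSimpleGroup G]

theorem isolate_false (hna : ¬ IsMulCommutative G) (T : Sylow 2 G) (h : Isolate ↥T) : False := by
  haveI : Fact (Nat.Prime 2) := ⟨Nat.prime_two⟩
  obtain ⟨w, hw1, hw2, hwc, hiso⟩ := h
  have hI : Fus.IsoElt T (w : G) := ⟨w.2, fun g hg => by
    by_contra hne
    obtain ⟨f, g', -, hf, hfu⟩ := extremal T w hwc hg ⟨g⁻¹, by group⟩
    refine hiso ⟨_, hg⟩ (Subtype.ext ?_) (fun e => hne (congrArg Subtype.val e)) f hf hfu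
    show g * (w : G) * g⁻¹ * (g * (w : G) * g⁻¹) = 1
    rw [show g * (w : G) * g⁻¹ * (g * (w : G) * g⁻¹) = g * ((w : G) * (w : G)) * g⁻¹ by group,
      show (w : G) * (w : G) = 1 from congrArg Subtype.val hw2]
    group⟩
  have hwG : (w : G) ≠ 1 := fun e => hw1 (Subtype.ext e)
  have hO : Cfsg.pPrimeCore 2 G = ⊥ := by
    haveI : (Cfsg.pPrimeCore 2 G).Normal := Grp.pPrimeCore_isNormal
    refine (IsSimpleGroup.eq_bot_or_eq_top_of_normal _ inferInstance).resolve_right fun e => ?_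
    have h1 := Grp.pPrimeCore_coprime (p := 2) (G := G)
    rw [e, card_top] at h1
    have h2 : orderOf (w : G) = 2 := orderOf_eq_prime (by rw [pow_two]; exact congrArg Subtype.val hw2) hwG
    exact Nat.Prime.not_coprime_iff_dvd.2 ⟨2, Nat.prime_two, h2 ▸ orderOf_dvd_natCard _, dvd_rfl⟩ h1
  have hc : (w : G) ∈ center G := mem_center_iff.2 fun g => by
    have h1 := Fus.IsoElt.commutator_mem _ G rfl T _ hI g
    rw [hO, mem_bot, mul_inv_eq_one, mul_inv_eq_iff_eq_mul] at h1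
    exact h1.symm
  rcases IsSimpleGroup.eq_bot_or_eq_top_of_normal (center G) inferInstance with e | e
  · rw [e, mem_bot] at hc; exact hwG hc
  · exact hna ⟨⟨fun a b => ((mem_center_iff.1 (e ▸ mem_top b)) a)⟩⟩

theorem flip_false (hna : ¬ IsMulCommutative G) (T : Sylow 2 G) (h : Flip ↥T) : False := by
  haveI : Fact (Nat.Prime 2) := ⟨Nat.prime_two⟩
  obtain ⟨E, Q, hQ, hEQ, hcen, hE4, hE2, hQinv, hmove, u, huQ, hu2⟩ := h
  -- `u` fuses into `E`
  have hu1 : u ≠ 1 := fun e => huQ (e ▸ one_mem Q)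
  obtain ⟨z, hz, g₀, hg₀⟩ : ∃ z ∈ E, ∃ g : G, g * (u : G) * g⁻¹ = (z : G) := by
    have hrel : (Q.map (T : Subgroup G).subtype).relIndex (T : Subgroup G) = 2 := by
      rw [Subgroup.relIndex, subgroupOf, comap_map_eq_self_of_injective (subtype_injective _), hQ]
    have hu0 : orderOf (u : G) = 2 := orderOf_eq_prime (by rw [pow_two]; exact congrArg Subtype.val hu2)
      fun e => hu1 (Subtype.ext e)
    rcases Cfsg.Agent.S0111.result T (Q.map (T : Subgroup G).subtype) (map_subtype_le Q) hrel (u : G) hu0 u.2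
      (fun e => huQ ((mem_map_iff_mem (subtype_injective _)).1 e)) with ⟨M, hMn, hM2, hMu⟩ | ⟨g, q, hq, e⟩
    · exfalso
      rcases IsSimpleGroup.eq_bot_or_eq_top_of_normal M hMn with e | e
      · rw [e, index_bot] at hM2
        haveI : Fact (Nat.card G = 2) := ⟨hM2⟩
        have : IsCyclic G := isCyclic_of_prime_card (p := 2) hM2
        exact hna ⟨⟨fun a b => IsCyclic.commGroup.mul_comm a b⟩⟩
      · exact hMu (e ▸ mem_top _)
    · refine ⟨q, hQinv q hq (Subtype.ext ?_), g, e.symm⟩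
      show (q : G) * (q : G) = 1
      rw [show (q : G) = g * (u : G) * g⁻¹ from e, show g * (u : G) * g⁻¹ * (g * (u : G) * g⁻¹) = g * ((u : G) * (u : G)) * g⁻¹ by group,
        show (u : G) * (u : G) = 1 from congrArg Subtype.val hu2]
      group
  obtain ⟨f, g, hfg, hf, hfu⟩ := extremal T z (fun t => hcen t z hz) u.2 ⟨g₀, hg₀⟩
  have huE : u ∉ E := fun he => huQ (hEQ he)
  haveI : E.Normal := ⟨fun e he t => by rw [hcen t e he, mul_inv_cancel_right]; exact he⟩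
  have huu : u * u ∈ E := by rw [hu2]; exact one_mem E
  set K := E ⊔ zpowers u
  have hK : ∀ k ∈ K, k * k = 1 ∧ k * u = u * k := fun k hk => by
    rcases mem_adj huu hk with e | e
    · exact ⟨hE2 k e, (hcen u k e).symm⟩
    · obtain ⟨d, hd, rfl⟩ : ∃ d ∈ E, k = d * u := ⟨_, e, by group⟩
      refine ⟨?_, by rw [mul_assoc, ← mul_assoc u d u, hcen u d hd, mul_assoc]⟩
      rw [show d * u * (d * u) = d * (u * d) * u by group, hcen u d hd,
        show d * (d * u) * u = d * d * (u * u) by group, hE2 d hd, hu2, one_mul]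
  have hKC : K ≤ centralizer ({u} : Set ↥T) := fun k hk => mem_centralizer_singleton_iff.2 (hK k hk).2
  have hK8 : Nat.card ↥K = 8 := by rw [card_adj huu huE, hE4]
  set I := ((K.subgroupOf (centralizer ({u} : Set ↥T))).map f) with hI
  have hI8 : Nat.card ↥I = 8 := by
    rw [hI, card_map_of_injective hf, Nat.card_congr (Subgroup.subgroupOfEquivOfLe hKC).toEquiv, hK8]
  have hIinv : ∀ x ∈ I, x * x = 1 := by
    rintro _ ⟨k, hk, rfl⟩
    rw [← map_mul, show k * k = 1 from Subtype.ext (hK _ hk).1, map_one]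
  have hEI : E ≤ I := by
    have h1 : I ⊓ Q ≤ E := fun x hx => hQinv x hx.2 (hIinv x hx.1)
    have h2 := card_le_two_mul I Q fun a _ b _ ha hb => by
      rw [mul_mem_iff_of_index_two hQ]
      simp [ha, hb]
    have h3 : I ⊓ Q = E := eq_of_le_of_card_ge h1 (by rw [hE4]; omega)
    exact h3 ▸ inf_le_left
  have hpre : ∀ e ∈ E, ∃ k : ↥(centralizer ({u} : Set ↥T)), (k : ↥T) ∈ K ∧ f k = e := fun e he => by
    obtain ⟨k, hk, e'⟩ := hEI he
    exact ⟨k, hk, e'⟩
  have hKmul : ∀ a ∈ K, ∀ b ∈ K, a ∉ E → b ∉ E → a * b ∈ E := fun a ha b hb hna hnb => by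
    obtain ⟨d, hd, rfl⟩ : ∃ d ∈ E, a = d * u := ⟨_, (mem_adj huu ha).resolve_left hna, by group⟩
    obtain ⟨d', hd', rfl⟩ : ∃ d' ∈ E, b = d' * u := ⟨_, (mem_adj huu hb).resolve_left hnb, by group⟩
    rw [show d * u * (d' * u) = d * (u * d') * u by group, hcen u d' hd',
      show d * (d' * u) * u = d * d' * (u * u) by group, hu2, mul_one]
    exact mul_mem hd hd'
  -- a common element `c` and an element `e₁` coming from outside `E`
  obtain ⟨c, hc, hc1, c₀, hc₀, hfc⟩ : ∃ c ∈ E, c ≠ 1 ∧ ∃ c₀ : ↥(centralizer ({u} : Set ↥T)), (c₀ : ↥T) ∈ E ∧ f c₀ = c := by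
    classical
    by_contra hn
    push Not at hn
    letI : Fintype ↥E := Fintype.ofFinite _
    have h3 : ∃ a b : ↥E, a ≠ 1 ∧ b ≠ 1 ∧ a ≠ b := by
      obtain ⟨a, ha⟩ := Fintype.exists_ne_of_one_lt_card (by rw [← Nat.card_eq_fintype_card, hE4]; norm_num) (1 : ↥E)
      by_contra hh
      push Not at hh
      have : Fintype.card ↥E ≤ ({1, a} : Finset ↥E).card := Finset.card_le_card fun x _ => by
        by_cases hx : x = 1
        · simp [hx]
        · simp [hh a x ha hx]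
      rw [← Nat.card_eq_fintype_card, hE4] at this
      have := this.trans Finset.card_le_two
      omega
    obtain ⟨a, b, ha, hb, hab⟩ := h3
    have ha1 : (a : ↥T) ≠ 1 := fun e => ha (Subtype.ext e)
    have hb1 : (b : ↥T) ≠ 1 := fun e => hb (Subtype.ext e)
    obtain ⟨ka, hka, hfa⟩ := hpre a a.2
    obtain ⟨kb, hkb, hfb⟩ := hpre b b.2
    refine hn (a * b) (mul_mem a.2 b.2) (fun e => hab (Subtype.ext ?_)) (ka * kb)
      (hKmul _ hka _ hkb (fun e => hn a a.2 ha1 ka e hfa) fun e => hn b b.2 hb1 kb e hfb)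
      (by rw [map_mul, hfa, hfb])
    rw [eq_inv_of_mul_eq_one_left e, inv_eq_of_mul_eq_one_right (hE2 b b.2)]
  obtain ⟨e₁, he₁, k₁, hk₁K, hk₁E, hfk⟩ : ∃ e₁ ∈ E, ∃ k : ↥(centralizer ({u} : Set ↥T)), (k : ↥T) ∈ K ∧ (k : ↥T) ∉ E ∧ f k = e₁ := by
    by_contra hn
    push Not at hn
    classical
    have h1 : ∀ e : ↥E, ∃ k : ↥E, ∃ hk : (k : ↥T) ∈ centralizer ({u} : Set ↥T), f ⟨k, hk⟩ = e := fun e => by
      obtain ⟨k, hk, e'⟩ := hpre e e.2
      by_cases hkE : (k : ↥T) ∈ E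
      · exact ⟨⟨k, hkE⟩, k.2, e'⟩
      · exact absurd e' (hn e e.2 k hk hkE)
    choose p hp hpf using h1
    have hinj : Function.Injective p := fun a b e => Subtype.ext (by
      rw [← hpf a, ← hpf b]; congr 2; rw [e])
    -- the preimage of `z` is `u`
    refine huE ?_
    have h2 := congrArg (fun x : ↥(centralizer ({u} : Set ↥T)) => (x : ↥T)) (hf ((hpf ⟨z, hz⟩).trans hfu.symm))
    simp only at h2
    exact (show ((p ⟨z, hz⟩ : ↥E) : ↥T) = u from h2) ▸ (p ⟨z, hz⟩).2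
  have hk₁2 := (hK _ hk₁K).1
  obtain ⟨x, hx⟩ := hmove k₁ hk₁2 hk₁E c₀ hc₀
  set y : G := g * (x : G) * g⁻¹ with hy
  have hye : y * (e₁ : G) * y⁻¹ = (e₁ : G) * (c : G) := by
    rw [(congrArg Subtype.val hfk).symm.trans (hfg k₁), (congrArg Subtype.val hfc).symm.trans (hfg c₀), hy]
    have h1 : (x : G) * ((k₁ : ↥T) : G) * (x : G)⁻¹ = ((k₁ : ↥T) : G) * ((c₀ : ↥T) : G) := congrArg Subtype.val hx
    rw [show g * (x : G) * g⁻¹ * (g * ((k₁ : ↥T) : G) * g⁻¹) * (g * (x : G) * g⁻¹)⁻¹ =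
      g * ((x : G) * ((k₁ : ↥T) : G) * (x : G)⁻¹) * g⁻¹ by group, h1]
    group
  have hyc : y * (c : G) * y⁻¹ = (c : G) := by
    rw [(congrArg Subtype.val hfc).symm.trans (hfg c₀), hy]
    have h1 : (x : G) * ((c₀ : ↥T) : G) = ((c₀ : ↥T) : G) * (x : G) := congrArg Subtype.val (hcen x _ hc₀)
    rw [show g * (x : G) * g⁻¹ * (g * ((c₀ : ↥T) : G) * g⁻¹) * (g * (x : G) * g⁻¹)⁻¹ =
      g * ((x : G) * ((c₀ : ↥T) : G) * (x : G)⁻¹) * g⁻¹ by group, h1]
    group
  have hec : e₁ ≠ c := fun e => hk₁E (by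
    have := hf (hfk.trans (e.trans hfc.symm))
    rw [this]; exact hc₀)
  have he₁1 : e₁ ≠ 1 := fun e => hk₁E (by
    have : k₁ = 1 := hf (hfk.trans (e.trans (map_one f).symm))
    rw [this]; exact one_mem E)
  -- `y` normalises `E`
  set EG := E.map (T : Subgroup G).subtype
  have hfourE : ∀ e ∈ E, e = 1 ∨ e = e₁ ∨ e = c ∨ e = e₁ * c := by
    classical
    letI : Fintype ↥E := Fintype.ofFinite _
    intro e he
    have h3 : e₁ * c ≠ 1 := fun h => hec (by
      rw [eq_inv_of_mul_eq_one_left h, inv_eq_of_mul_eq_one_right (hE2 c hc)])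
    obtain ⟨A, hA⟩ : ∃ A : ↥E, A = ⟨e₁, he₁⟩ := ⟨_, rfl⟩
    obtain ⟨C, hC⟩ : ∃ C : ↥E, C = ⟨c, hc⟩ := ⟨_, rfl⟩
    have n1 : A ≠ 1 := fun h => he₁1 (by simpa [hA] using congrArg Subtype.val h)
    have n2 : C ≠ 1 := fun h => hc1 (by simpa [hC] using congrArg Subtype.val h)
    have n3 : A ≠ C := fun h => hec (by simpa [hA, hC] using congrArg Subtype.val h)
    have n4 : A * C ≠ 1 := fun h => h3 (by simpa [hA, hC] using congrArg Subtype.val h)
    have huniv : ({1, A, C, A * C} : Finset ↥E) = Finset.univ := by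
      refine Finset.eq_univ_of_card _ (le_antisymm (Finset.card_le_univ _) ?_)
      rw [← Nat.card_eq_fintype_card, hE4]
      simp [n1.symm, n2.symm, n4.symm, n3, n1, n2]
    have hm := huniv ▸ Finset.mem_univ (⟨e, he⟩ : ↥E)
    simp only [Finset.mem_insert, Finset.mem_singleton] at hm
    rcases hm with h | h | h | h <;> have h' := congrArg Subtype.val h
    · exact Or.inl h'
    · exact Or.inr (Or.inl (h'.trans (congrArg Subtype.val hA)))
    · exact Or.inr (Or.inr (Or.inl (h'.trans (congrArg Subtype.val hC))))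
    · refine Or.inr (Or.inr (Or.inr ?_))
      rw [hA, hC] at h'
      exact h'
  have hsub : ∀ a ∈ EG, y * a * y⁻¹ ∈ EG := by
    rintro _ ⟨e, he, rfl⟩
    rcases hfourE e he with rfl | rfl | rfl | rfl
    · simp [one_mem]
    · exact ⟨e * c, mul_mem he hc, hye.symm⟩
    · exact ⟨e, he, hyc.symm⟩
    · refine ⟨e₁ * c * c, mul_mem he hc, ?_⟩
      show (e₁ : G) * (c : G) * (c : G) = y * ((e₁ : G) * (c : G)) * y⁻¹
      rw [show y * ((e₁ : G) * (c : G)) * y⁻¹ = y * (e₁ : G) * y⁻¹ * (y * (c : G) * y⁻¹) by group, hye, hyc]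
  have hyN : y ∈ normalizer (EG : Set G) := by
    have hle : EG.map (MulAut.conj y).toMonoidHom ≤ EG := by
      rintro _ ⟨a, ha, rfl⟩; simpa [MulAut.conj_apply] using hsub a ha
    have heq := eq_of_le_of_card_ge hle (card_map_of_injective (MulAut.conj y).injective).ge
    refine mem_normalizer_iff.2 fun a => ⟨fun ha => hsub a ha, fun ha => ?_⟩
    rw [← heq] at ha
    obtain ⟨b, hb, e⟩ := ha
    have e' : b = a := mul_left_cancel (mul_right_cancel (show y * b * y⁻¹ = y * a * y⁻¹ by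
      simpa [MulAut.conj_apply] using e))
    exact e' ▸ hb
  have hTN : (T : Subgroup G) ≤ normalizer (EG : Set G) := fun t ht => mem_normalizer_iff.2 fun a => by
    have hfix : ∀ b ∈ EG, t * b * t⁻¹ = b := by
      rintro _ ⟨e, he, rfl⟩
      show t * (e : G) * t⁻¹ = (e : G)
      rw [show t * (e : G) = (e : G) * t from congrArg Subtype.val (hcen ⟨t, ht⟩ e he), mul_inv_cancel_right]
    refine ⟨fun ha => by rw [hfix a ha]; exact ha, fun ha => ?_⟩
    have := hfix _ ha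
    rwa [show a = t * a * t⁻¹ from (mul_left_cancel (mul_right_cancel this)).symm]
  have hp : IsPGroup 2 ↥(zpowers (⟨y, hyN⟩ : ↥(normalizer (EG : Set G)))) := by
    rintro ⟨_, i, rfl⟩
    obtain ⟨k, hk⟩ := T.isPGroup' (x ^ i)
    refine ⟨k, Subtype.ext (Subtype.ext ?_)⟩
    have h1 : (y ^ i) ^ 2 ^ k = 1 := by
      rw [hy, conj_zpow, conj_pow, show ((x : G) ^ i) ^ 2 ^ k = 1 from congrArg Subtype.val hk]
      group
    simpa using h1
  obtain ⟨h, hh⟩ := Cfsg.Agent.Invol.exists_conj_subset_sylow hp (T.subtype hTN)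
  have hyT : (h : G) * y * (h : G)⁻¹ ∈ (T : Subgroup G) := hh _ (mem_zpowers _)
  obtain ⟨e', he', hee⟩ : ∃ e' ∈ E, (e' : G) = (h : G) * (e₁ : G) * (h : G)⁻¹ := by
    obtain ⟨e', he', h'⟩ := (mem_normalizer_iff.1 h.2 (e₁ : G)).1 ⟨e₁, he₁, rfl⟩
    exact ⟨e', he', h'⟩
  have hcomm : (h : G) * y * (h : G)⁻¹ * (e' : G) = (e' : G) * ((h : G) * y * (h : G)⁻¹) :=
    congrArg Subtype.val (hcen ⟨_, hyT⟩ e' he')
  rw [hee] at hcomm
  have hye1 : y * (e₁ : G) = (e₁ : G) * y := by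
    have h2 := congrArg (fun a => (h : G)⁻¹ * a * (h : G)) hcomm
    simpa [mul_assoc] using h2
  rw [hye1, mul_inv_cancel_right, left_eq_mul] at hye
  exact hc1 (Subtype.ext hye)

end Cfsg.Agent.Transfer.NTwo
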