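import Cfsg.Agent.S0516
import Cfsg.Agent.S1248
import Cfsg.Agent.S3116
import Cfsg.Agent.S1202
import Cfsg.Agent.Lib.Transfer.NormalTwo.Fuse

/-!
# Simple groups with a Sylow 2-subgroup of normal rank two and a large normaliser (for S3311)
-/

set_option autoImplicit false

namespace Cfsg.Agent.Transfer.NTwo

open Subgroup

/-- The internal trichotomy. -/
theorem internal {P : Type*} [Group P] [Finite P] {φ : MulAut P} (h : Hyp φ) :
    Nat.card P = 4 ∨ Nat.card P = 64 ∨ Nat.card P = 128 ∨ Cfsg.PRankLE 2 2 P ∨ Flip P ∨ Isolate P := by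
  obtain ⟨Z, C, K⟩ := exists_crit h
  by_cases hab : ∀ x ∈ C, x ∈ Z
  · obtain ⟨E, m, H⟩ := K.hom hab
    rcases Nat.lt_or_ge m 3 with hm | hm
    · have h0 := H.pos
      interval_cases m
      · exact Or.inl (H.one_case rfl)
      · rcases H.two_case rfl with e | e | e
        exacts [Or.inr (Or.inl e), Or.inr (Or.inr (Or.inl e)), Or.inr (Or.inr (Or.inr (Or.inl e)))]
    · obtain ⟨n, hn⟩ : ∃ n, m = n + 3 := ⟨m - 3, by omega⟩
      rcases H.big_case hn with e | e
      exacts [Or.inr (Or.inr (Or.inr (Or.inl e))), Or.inr (Or.inr (Or.inr (Or.inr (Or.inl e))))]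
  · push Not at hab
    by_cases hexp : ∀ z ∈ Z, z * z = 1
    · rcases K.four_centre hexp hab with e | e | e
      exacts [Or.inr (Or.inl e), Or.inr (Or.inr (Or.inl e)), Or.inr (Or.inr (Or.inr (Or.inl e)))]
    · push Not at hexp
      rcases K.quat hab hexp with e | e | e | e
      exacts [Or.inr (Or.inl e), Or.inr (Or.inr (Or.inl e)), Or.inr (Or.inr (Or.inr (Or.inl e))),
        Or.inr (Or.inr (Or.inr (Or.inr (Or.inr e))))]

variable {G : Type*} [Group G] [Finite G]

/-- An automorphism of odd prime order from the normaliser. -/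
theorem exists_aut (T : Sylow 2 G)
    (hN : ¬ Subgroup.normalizer ((T : Subgroup G) : Set G) ≤ (T : Subgroup G) ⊔ Subgroup.centralizer ((T : Subgroup G) : Set G)) :
    ∃ φ : MulAut ↥T, (orderOf φ).Prime ∧ Odd (orderOf φ) := by
  haveI : Fact (Nat.Prime 2) := ⟨Nat.prime_two⟩
  obtain ⟨g, hg, hgn⟩ := SetLike.not_le_iff_exists.1 hN
  set N := normalizer ((T : Subgroup G) : Set G)
  let c : ↥N →* MulAut ↥T :=
    { toFun := fun n =>
        { toFun := fun t => ⟨(n : G) * (t : G) * (n : G)⁻¹, (mem_normalizer_iff.1 n.2 _).1 t.2⟩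
          invFun := fun t => ⟨(n : G)⁻¹ * (t : G) * (n : G), (mem_normalizer_iff.1 n.2 _).2 (by
            rw [show (n : G) * ((n : G)⁻¹ * (t : G) * (n : G)) * (n : G)⁻¹ = (t : G) by group]; exact t.2)⟩
          left_inv := fun t => Subtype.ext (by
            show (n : G)⁻¹ * ((n : G) * (t : G) * (n : G)⁻¹) * (n : G) = (t : G)
            group)
          right_inv := fun t => Subtype.ext (by
            show (n : G) * ((n : G)⁻¹ * (t : G) * (n : G)) * (n : G)⁻¹ = (t : G)
            group)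
          map_mul' := fun a b => Subtype.ext (by
            show (n : G) * ((a : G) * (b : G)) * (n : G)⁻¹ = (n : G) * (a : G) * (n : G)⁻¹ * ((n : G) * (b : G) * (n : G)⁻¹)
            group) }
      map_one' := MulEquiv.ext fun t => Subtype.ext (by
        show (1 : G) * (t : G) * (1 : G)⁻¹ = (t : G)
        group)
      map_mul' := fun a b => MulEquiv.ext fun t => Subtype.ext (by
        show (a : G) * (b : G) * (t : G) * ((a : G) * (b : G))⁻¹ = (a : G) * ((b : G) * (t : G) * (b : G)⁻¹) * (a : G)⁻¹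
        group) }
  -- the odd part of `g`
  set n : ↥N := ⟨g, hg⟩
  obtain ⟨a, m, hm, hord⟩ := Nat.exists_eq_pow_mul_and_not_dvd (orderOf_pos n).ne' 2 (by norm_num)
  have hne : c (n ^ 2 ^ a) ≠ 1 := by
    intro e
    refine hgn ?_
    have hcen : ((n ^ 2 ^ a : ↥N) : G) ∈ centralizer ((T : Subgroup G) : Set G) := mem_centralizer_iff.2 fun t ht => by
      have h1 := congrArg Subtype.val (congrArg (fun f : MulAut ↥T => f ⟨t, ht⟩) e)
      exact (mul_inv_eq_iff_eq_mul.1 (show ((n ^ 2 ^ a : ↥N) : G) * t * ((n ^ 2 ^ a : ↥N) : G)⁻¹ = t from h1)).symm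
    have hT : ((n ^ m : ↥N) : G) ∈ (T : Subgroup G) := by
      have hp : IsPGroup 2 ↥(zpowers ((n ^ m : ↥N) : G)) := by
        rintro ⟨_, i, rfl⟩
        refine ⟨a, Subtype.ext ?_⟩
        show ((((n ^ m : ↥N) : G)) ^ i) ^ 2 ^ a = 1
        rw [← zpow_natCast _ (2 ^ a), ← zpow_mul, mul_comm i, zpow_mul, zpow_natCast, ← SubmonoidClass.coe_pow,
          ← pow_mul, mul_comm m, ← hord, pow_orderOf_eq_one, OneMemClass.coe_one, one_zpow]
      have hle : zpowers ((n ^ m : ↥N) : G) ≤ N := zpowers_le.2 (n ^ m).2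
      have hsup := hp.to_sup_of_normal_right' T.isPGroup' hle
      have h3 := T.is_maximal' hsup le_sup_right
      exact h3.le (mem_sup_left (mem_zpowers _))
    have hcop : Nat.Coprime (2 ^ a) m := ((Nat.prime_two.coprime_iff_not_dvd).2 hm).pow_left a
    have hbez : (g : G) = (((n ^ 2 ^ a : ↥N) : G)) ^ Nat.gcdA (2 ^ a) m * (((n ^ m : ↥N) : G)) ^ Nat.gcdB (2 ^ a) m := by
      have h := Nat.gcd_eq_gcd_ab (2 ^ a) m
      rw [hcop.gcd_eq_one] at h
      rw [SubmonoidClass.coe_pow, SubmonoidClass.coe_pow, ← zpow_natCast, ← zpow_natCast, ← zpow_mul, ← zpow_mul,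
        ← zpow_add, ← h, Nat.cast_one, zpow_one]
    rw [hbez]
    exact mul_mem (mem_sup_right (zpow_mem hcen _)) (mem_sup_left (zpow_mem hT _))
  set ψ := c (n ^ 2 ^ a)
  have hψm : ψ ^ m = 1 := by
    rw [← map_pow, ← pow_mul, ← hord, pow_orderOf_eq_one, map_one]
  have hdvd := orderOf_dvd_of_pow_eq_one hψm
  have hne1 : orderOf ψ ≠ 1 := fun e => hne (orderOf_eq_one_iff.1 e)
  obtain ⟨p, hp, hpd⟩ := Nat.exists_prime_and_dvd hne1
  obtain ⟨k, hk⟩ := hpd
  refine ⟨ψ ^ k, ?_⟩
  have hfin : 0 < orderOf ψ := orderOf_pos ψ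
  have hk0 : k ≠ 0 := fun e => by rw [e, mul_zero] at hk; omega
  have hop : orderOf (ψ ^ k) = p := by
    rw [orderOf_pow_of_dvd hk0 ⟨p, by rw [hk, mul_comm]⟩, hk, Nat.mul_div_cancel _ (Nat.pos_of_ne_zero hk0)]
  rw [hop]
  refine ⟨hp, hp.odd_of_ne_two fun e => hm ?_⟩
  exact (e ▸ (Dvd.intro k hk.symm : p ∣ orderOf ψ)).trans hdvd

theorem main [IsSimpleGroup G] (hna : ¬ IsMulCommutative G) (T : Sylow 2 G) {φ : MulAut ↥T} (h : Hyp φ) :
    Nat.card ↥T = 4 ∨ Nat.card ↥T = 64 ∨ Nat.card ↥T = 128 := by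
  haveI : Fact (Nat.Prime 2) := ⟨Nat.prime_two⟩
  rcases internal h with e | e | e | hr | e | e
  · exact Or.inl e
  · exact Or.inr (Or.inl e)
  · exact Or.inr (Or.inr e)
  · have hnot : ¬ IsPGroup 2 (MulAut ↥T) := fun hp => by
      obtain ⟨k, hk⟩ := IsPGroup.iff_orderOf.1 hp φ
      have h1 := h.odd
      have h2 := h.prime
      rw [hk] at h1 h2
      rcases k with _ | k
      · exact Nat.not_prime_one (by simpa using h2)
      · exact (Nat.not_even_iff_odd.2 h1) ⟨2 ^ k, by rw [pow_succ]; ring⟩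
    have hG2 : Cfsg.PRankLE 2 2 G := by
      intro A hA h2
      have hp : IsPGroup 2 ↥A := fun a => ⟨1, Subtype.ext (by rw [pow_one, SubmonoidClass.coe_pow]; exact h2 a a.2)⟩
      obtain ⟨g, hg⟩ := Cfsg.Agent.Invol.exists_conj_subset_sylow hp T
      let f : ↥A →* ↥T :=
        { toFun := fun a => ⟨g * (a : G) * g⁻¹, hg a a.2⟩
          map_one' := Subtype.ext (by show g * (1 : G) * g⁻¹ = 1; group)
          map_mul' := fun a b => Subtype.ext (by
            show g * ((a : G) * (b : G)) * g⁻¹ = g * (a : G) * g⁻¹ * (g * (b : G) * g⁻¹)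
            group) }
      have hf : Function.Injective f := fun a b e =>
        Subtype.ext (mul_left_cancel (mul_right_cancel (congrArg Subtype.val e)))
      have h1 := hr f.range ⟨⟨by
          rintro ⟨_, a, rfl⟩ ⟨_, b, rfl⟩
          refine Subtype.ext ?_
          show f a * f b = f b * f a
          rw [← map_mul, ← map_mul, show a * b = b * a from hA.is_comm.comm a b]⟩⟩ (by
          rintro _ ⟨a, rfl⟩
          rw [← map_pow, show a ^ 2 = 1 from Subtype.ext (by rw [SubmonoidClass.coe_pow]; exact h2 a a.2), map_one])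
      rwa [← Nat.card_congr (MonoidHom.ofInjective hf).toEquiv] at h1
    letI : Fintype (GaloisField 2 4) := Fintype.ofFinite _
    have hF : Fintype.card (GaloisField 2 4) = 16 := by
      rw [← Nat.card_eq_fintype_card, GaloisField.card 2 4 (by norm_num)]
      norm_num
    obtain ⟨S⟩ : Nonempty (Sylow 2 (Cfsg.PSU 3 (GaloisField 2 4) 4)) := inferInstance
    rcases Cfsg.Agent.S0516.result hna hG2 T hF S with ⟨n, hn, ⟨e⟩⟩ | hq | hw | ⟨⟨e⟩⟩
    · have hc : Nat.card ↥T = 2 * n := (Nat.card_congr e.toEquiv).trans DihedralGroup.nat_card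
      by_cases hn4 : 4 ≤ n
      · exact absurd (Cfsg.Agent.S3116.result T.isPGroup' (Or.inl ⟨n, hn4, ⟨e⟩⟩)) hnot
      · obtain ⟨k, hk⟩ := IsPGroup.iff_card.1 T.isPGroup'
        interval_cases n
        · exact Or.inl (by omega)
        · exfalso
          have h3 : 3 ∣ 2 ^ k := ⟨2, hk.symm.trans (hc.trans (by norm_num))⟩
          have := Nat.prime_three.dvd_of_dvd_pow h3
          omega
    · exact absurd (Cfsg.Agent.S3116.result T.isPGroup' (Or.inr hq)) hnot
    · exfalso
      obtain ⟨n, hn2, hcard, hrest⟩ := hw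
      have htop : ¬ IsPGroup 2 (MulAut ↥(⊤ : Subgroup ↥T)) := fun hp =>
        hnot (hp.of_equiv (MulAut.congr Subgroup.topEquiv))
      have h1 := (Cfsg.Agent.S1202.result ⟨n, hn2, hcard, hrest⟩ n hcard ⊤ le_top htop).1
      rw [Subgroup.normalizer_eq_top, relIndex_self] at h1
      omega
    · refine Or.inr (Or.inl ?_)
      exact (Nat.card_congr e.toEquiv).trans (Cfsg.Agent.S1248.result hF S).1
  · exact (flip_false hna T e).elim
  · exact (isolate_false hna T e).elim

end Cfsg.Agent.Transfer.NTwo
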