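import Cfsg.Agent.Lib.Transfer.NormalTwo.Basic
import Cfsg.Agent.Lib.Invol.FpfThree

/-!
# A class two shell over its centre, of exponent at least 4, has centre of index 4 (for S3311)
-/

set_option autoImplicit false

namespace Cfsg.Agent.Transfer.NTwo

open Subgroup
open Cfsg.Agent.Invol.FpfThree (mem_adj card_adj)

variable {P : Type*} [Group P] {φ : MulAut P}

/-- A group of class two over its centre `Z`, whose subgroups above `Z` are normal in `P`. -/
structure Shell (φ : MulAut P) (Z W : Subgroup P) : Prop where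
  Z_le : Z ≤ W
  Z_normal : Z.Normal
  zc : ∀ ζ ∈ Z, ∀ x ∈ W, ζ * x = x * ζ
  selfc : ∀ x ∈ W, (∀ y ∈ W, x * y = y * x) → x ∈ Z
  sq : ∀ x ∈ W, x * x ∈ Z
  comm : ∀ t, ∀ x ∈ W, br t x ∈ Z
  Wφ : ∀ x ∈ W, φ x ∈ W
  Zφ : ∀ x ∈ Z, φ x ∈ Z
  faithful : ∀ ψ : MulAut P, Odd (orderOf ψ) → (∀ x ∈ W, ψ x = x) → ψ = 1
  moves : ∃ x ∈ W, x⁻¹ * φ x ∉ Z

theorem card_cover [Finite P] {Z W : Subgroup P} (a b : P)
    (h : ∀ x ∈ W, x ∈ Z ∨ a⁻¹ * x ∈ Z ∨ b⁻¹ * x ∈ Z ∨ (a * b)⁻¹ * x ∈ Z) : Nat.card ↥W ≤ 4 * Nat.card ↥Z := by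
  classical
  let f : ↥W → Fin 4 × ↥Z := fun x =>
    if h0 : (x : P) ∈ Z then (0, ⟨x, h0⟩)
    else if h1 : a⁻¹ * (x : P) ∈ Z then (1, ⟨_, h1⟩)
    else if h2 : b⁻¹ * (x : P) ∈ Z then (2, ⟨_, h2⟩)
    else (3, ⟨_, ((h x x.2).resolve_left h0).resolve_left h1 |>.resolve_left h2⟩)
  have hf : Function.Injective f := by
    intro x y e
    simp only [f] at e
    refine Subtype.ext ?_
    split_ifs at e <;> first
      | exact congrArg (fun p : Fin 4 × ↥Z => ((p.2 : ↥Z) : P)) e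
      | exact mul_left_cancel (congrArg (fun p : Fin 4 × ↥Z => ((p.2 : ↥Z) : P)) e)
      | (exfalso; simpa using congrArg Prod.fst e)
  have := Nat.card_le_card_of_injective f hf
  rwa [Nat.card_prod, Nat.card_fin] at this

namespace Shell

variable {Z W : Subgroup P} (S : Shell φ Z W)
include S

theorem Zc : ∀ a ∈ Z, ∀ b ∈ Z, a * b = b * a := fun a ha b hb => S.zc a ha b (S.Z_le hb)

theorem br_mem {x : P} {y : P} (hy : y ∈ W) : br x y ∈ Z := S.comm x y hy

theorem br_mul_left {x x' y : P} (hx : x ∈ W) (hy : y ∈ W) : br (x * x') y = br x y * br x' y := by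
  calc br (x * x') y = x * br x' y * x⁻¹ * br x y := by simp only [br]; group
    _ = br x' y * br x y := by rw [← S.zc _ (S.br_mem hy) x hx, mul_inv_cancel_right]
    _ = _ := S.Zc _ (S.br_mem hy) _ (S.br_mem hy)

theorem br_mul_right {x y y' : P} (hy : y ∈ W) (hy' : y' ∈ W) : br x (y * y') = br x y * br x y' := by
  calc br x (y * y') = br x y * (y * br x y' * y⁻¹) := by simp only [br]; group
    _ = _ := by rw [← S.zc _ (S.br_mem hy') y hy, mul_inv_cancel_right]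

theorem br_z {ζ x : P} (hζ : ζ ∈ Z) (hx : x ∈ W) : br ζ x = 1 := br_eq_one.2 (S.zc ζ hζ x hx)

theorem br_z_right {ζ x : P} (hζ : ζ ∈ Z) (hx : x ∈ W) : br x ζ = 1 := br_eq_one.2 (S.zc ζ hζ x hx).symm

theorem br_sq {x y : P} (hx : x ∈ W) (hy : y ∈ W) : br x y * br x y = 1 := by
  rw [← S.br_mul_left hx hy]; exact S.br_z (S.sq x hx) hy

theorem br_symm {x y : P} (hx : x ∈ W) (hy : y ∈ W) : br y x = br x y := by
  rw [← br_inv]; exact inv_eq_of_mul_eq_one_right (S.br_sq hx hy)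

theorem br_omega {x y : P} (hx : x ∈ W) (hy : y ∈ W) : br x y ∈ omega Z S.Zc := ⟨S.br_mem hy, S.br_sq hx hy⟩

theorem sq_mul {x y : P} (hx : x ∈ W) (hy : y ∈ W) : x * y * (x * y) = x * x * (y * y) * br x y := by
  have e : y * x = br y x * (x * y) := by simp only [br]; group
  calc x * y * (x * y) = x * (y * x) * y := by group
    _ = x * br y x * (x * y * y) := by rw [e]; group
    _ = br y x * (x * x * (y * y)) := by rw [← S.zc _ (S.br_mem hx) x hx]; group
    _ = x * x * (y * y) * br y x := S.Zc _ (S.br_mem hx) _ (mul_mem (S.sq x hx) (S.sq y hy))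
    _ = _ := by rw [S.br_symm hx hy]

/-- Subgroups between `Z` and `W` are normal. -/
theorem normal_above {A : Subgroup P} (hZA : Z ≤ A) (hAW : A ≤ W) : A.Normal :=
  ⟨fun x hx t => by rw [conj_eq_br]; exact mul_mem (hZA (S.comm t x (hAW hx))) hx⟩

/-- Commuting elements of `W` with `Z` generate a normal abelian subgroup. -/
theorem no_eight [Finite P] (h : Hyp φ) {x y : P} (hx : x ∈ W) (hy : y ∈ W) (hxy : x * y = y * x)
    (hx2 : x * x = 1) (hy2 : y * y = 1) {D : Subgroup P} (hD : D ≤ omega Z S.Zc) (hD4 : Nat.card ↥D = 4 ∨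
      (Nat.card ↥D = 2 ∧ x ∉ Z ∧ x⁻¹ * y ∉ Z ∧ y ∉ Z)) (hyZ : y ∉ Z) : False := by
  set A := closure (insert x (insert y (Z : Set P))) with hA
  have hcomm : ∀ a ∈ insert x (insert y (Z : Set P)), ∀ b ∈ insert x (insert y (Z : Set P)), a * b = b * a := by
    rintro a (rfl | rfl | ha) b (rfl | rfl | hb)
    exacts [rfl, hxy, (S.zc _ hb _ hx).symm, hxy.symm, rfl, (S.zc _ hb _ hy).symm, S.zc _ ha _ hx,
      S.zc _ ha _ hy, S.Zc _ ha _ hb]
  haveI := Subgroup.isMulCommutative_closure hcomm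
  have hc : ∀ a ∈ A, ∀ b ∈ A, a * b = b * a := fun a ha b hb => setLike_mul_comm ha hb
  have hZA : Z ≤ A := fun z hz => subset_closure (Or.inr (Or.inr hz))
  have hAW : A ≤ W := (closure_le _).2 (by
    rintro a (rfl | rfl | ha)
    · exact hx
    · exact hy
    · exact S.Z_le ha)
  have h4 := h.omega_le (S.normal_above hZA hAW) hc
  have hDA : D ≤ omega A hc := fun d hd => ⟨hZA (hD hd).1, (hD hd).2⟩
  have hxA : x ∈ omega A hc := ⟨subset_closure (Or.inl rfl), hx2⟩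
  have hyA : y ∈ omega A hc := ⟨subset_closure (Or.inr (Or.inl rfl)), hy2⟩
  have hyD : y ∉ D := fun e => hyZ (hD e).1
  rcases hD4 with e4 | ⟨e2, hxZ, hxyZ, -⟩
  · have := card_ge_eight (fun a ha => (mem_omega.1 ha).2) hDA e4 hyA hyD
    omega
  · set D' := D ⊔ zpowers x with hD'
    have hD'A : D' ≤ omega A hc := sup_le hDA (zpowers_le.2 hxA)
    have hD'4 : 4 ≤ Nat.card ↥D' := by
      have h1 : Nat.card ↥D ∣ Nat.card ↥D' := card_dvd_of_le le_sup_left
      have h2 : D ≠ D' := fun e => hxZ (hD (e ▸ mem_sup_right (mem_zpowers x))).1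
      have h3 : Nat.card ↥D < Nat.card ↥D' :=
        lt_of_le_of_ne (Nat.le_of_dvd Nat.card_pos h1) fun e => h2 (eq_of_le_of_card_ge le_sup_left e.ge)
      obtain ⟨k, hk⟩ := h1
      rw [e2] at hk h3
      omega
    have hD'eq : D' = omega A hc := eq_of_le_of_card_ge hD'A (h4.trans hD'4)
    have hyD' : y ∈ D' := hD'eq ▸ hyA
    haveI := S.Z_normal
    have hle : D' ≤ Z ⊔ zpowers x := sup_le_sup_right (fun d hd => (hD hd).1) _
    obtain ⟨z, hz, _, ⟨k, rfl⟩, e⟩ := mem_sup_of_normal_left.1 (hle hyD')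
    obtain ⟨j, rfl | rfl⟩ := k.even_or_odd'
    · refine hyZ ?_
      rw [← e]
      refine mul_mem hz ?_
      simp only [zpow_mul, zpow_two, hx2, one_zpow]
      exact one_mem Z
    · refine hxyZ ?_
      rw [← e]
      simp only [zpow_add, zpow_mul, zpow_two, hx2, one_zpow, one_mul, zpow_one]
      rw [S.zc z hz x hx, inv_mul_cancel_left]
      exact hz

/-- Squares of the centre. -/
def Zsq : Subgroup P where
  carrier := {x | ∃ ζ ∈ Z, ζ * ζ = x}
  one_mem' := ⟨1, one_mem Z, one_mul 1⟩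
  mul_mem' := by
    rintro _ _ ⟨a, ha, rfl⟩ ⟨b, hb, rfl⟩
    refine ⟨a * b, mul_mem ha hb, ?_⟩
    calc a * b * (a * b) = a * (b * a) * b := by group
      _ = a * (a * b) * b := by rw [S.Zc b hb a ha]
      _ = _ := by group
  inv_mem' := by
    rintro _ ⟨a, ha, rfl⟩
    exact ⟨a⁻¹, inv_mem ha, by group⟩

theorem Zsq_le : S.Zsq ≤ Z := by rintro _ ⟨a, ha, rfl⟩; exact mul_mem ha ha

theorem sq_mem_Zsq {ζ : P} (hζ : ζ ∈ Z) : ζ * ζ ∈ S.Zsq := ⟨ζ, hζ, rfl⟩

/-- An element whose square is a square of the centre can be moved to an involution. -/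
theorem adjust {x : P} (hx : x ∈ W) (h : x * x ∈ S.Zsq) :
    ∃ x' ∈ W, x' * x' = 1 ∧ x⁻¹ * x' ∈ Z := by
  obtain ⟨ζ, hζ, e⟩ := h
  refine ⟨x * ζ⁻¹, mul_mem hx (inv_mem (S.Z_le hζ)), ?_, by rw [inv_mul_cancel_left]; exact inv_mem hζ⟩
  have hc : ζ⁻¹ * x = x * ζ⁻¹ := S.zc _ (inv_mem hζ) x hx
  calc x * ζ⁻¹ * (x * ζ⁻¹) = x * (ζ⁻¹ * x) * ζ⁻¹ := by group
    _ = (x * x) * (ζ * ζ)⁻¹ := by rw [hc]; group
    _ = 1 := by rw [e, mul_inv_cancel]

theorem sq_not_sq_four [Finite P] (h : Hyp φ) (h4 : Nat.card ↥(omega Z S.Zc) = 4) {x : P} (hx : x ∈ W)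
    (hxZ : x ∉ Z) : x * x ∉ S.Zsq := fun hsq => by
  obtain ⟨x', hx', h2, hxx⟩ := S.adjust hx hsq
  exact S.no_eight h hx' hx' rfl h2 h2 le_rfl (Or.inl h4) fun e => hxZ (by
    have := mul_mem e (inv_mem hxx); simpa [mul_assoc] using this)

theorem not_comm_two [Finite P] (h : Hyp φ) (h2 : Nat.card ↥(omega Z S.Zc) = 2) {x y : P} (hx : x ∈ W)
    (hy : y ∈ W) (hxZ : x ∉ Z) (hyZ : y ∉ Z) (hxyZ : x⁻¹ * y ∉ Z) (hsx : x * x ∈ S.Zsq) (hsy : y * y ∈ S.Zsq) :
    br x y ≠ 1 := fun e => by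
  obtain ⟨x', hx', hx2, hxx⟩ := S.adjust hx hsx
  obtain ⟨y', hy', hy2, hyy⟩ := S.adjust hy hsy
  obtain ⟨a, ha, rfl⟩ : ∃ a ∈ Z, x' = x * a := ⟨_, hxx, by group⟩
  obtain ⟨b, hb, rfl⟩ : ∃ b ∈ Z, y' = y * b := ⟨_, hyy, by group⟩
  have hc : br (x * a) (y * b) = 1 := by
    rw [S.br_mul_left hx hy', S.br_z ha hy', mul_one, S.br_mul_right hy (S.Z_le hb), S.br_z_right hb hx, mul_one, e]
  refine S.no_eight h hx' hy' (br_eq_one.1 hc) hx2 hy2 le_rfl (Or.inr ⟨h2, ?_, ?_, ?_⟩) ?_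
  · exact fun e => hxZ ((mul_mem_cancel_right ha).1 e)
  · intro e'
    refine hxyZ ?_
    have : x⁻¹ * y * b ∈ Z := by
      have h1 := mul_mem ha e'
      simpa [mul_assoc] using h1
    exact (mul_mem_cancel_right hb).1 this
  · exact fun e => hyZ ((mul_mem_cancel_right hb).1 e)
  · exact fun e => hyZ ((mul_mem_cancel_right hb).1 e)

/-- A subgroup in which independent elements fail to commute modulo `T0` has index at most 4 over `Z`. -/
theorem card_le_four [Finite P] {K T0 : Subgroup P} (hK : K ≤ W)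
    (hT : ∀ d ∈ omega Z S.Zc, ∀ d' ∈ omega Z S.Zc, d ∉ T0 → d' ∉ T0 → d * d' ∈ T0)
    (hne : ∀ x ∈ K, ∀ y ∈ K, x ∉ Z → y ∉ Z → x⁻¹ * y ∉ Z → br x y ∉ T0) :
    Nat.card ↥K ≤ 4 * Nat.card ↥Z := by
  by_cases h1 : ∀ x ∈ K, x ∈ Z
  · exact card_cover 1 1 fun x hx => Or.inl (h1 x hx)
  push Not at h1
  obtain ⟨a, ha, haZ⟩ := h1
  by_cases h2 : ∀ x ∈ K, x ∈ Z ∨ a⁻¹ * x ∈ Z
  · exact card_cover a 1 fun x hx => (h2 x hx).elim Or.inl fun e => Or.inr (Or.inl e)
  push Not at h2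
  obtain ⟨b, hb, hbZ, habZ⟩ := h2
  refine card_cover a b fun x hx => ?_
  by_contra hn
  push Not at hn
  obtain ⟨hxZ, hax, hbx, habx⟩ := hn
  have hd := hT _ (S.br_omega (hK ha) (hK hb)) _ (S.br_omega (hK ha) (hK hx)) (hne a ha b hb haZ hbZ habZ)
    (hne a ha x hx haZ hxZ hax)
  have hbx' : b * x ∈ K := mul_mem hb hx
  have e : br a (b * x) = br a b * br a x := S.br_mul_right (hK hb) (hK hx)
  have hbxZ : b * x ∉ Z := fun e' => hbx (by
    have h3 : b * b ∈ Z := S.sq b (hK hb)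
    have := mul_mem (inv_mem h3) e'
    rwa [show (b * b)⁻¹ * (b * x) = b⁻¹ * x by group] at this)
  refine hne a ha (b * x) hbx' haZ hbxZ (fun e' => habx ?_) (e ▸ hd)
  have h3 := mul_mem (mul_mem (inv_mem (S.sq b (hK hb))) (S.comm b a⁻¹ (inv_mem (hK ha)))) e'
  rwa [show (b * b)⁻¹ * br b a⁻¹ * (a⁻¹ * (b * x)) = (a * b)⁻¹ * x by simp only [br]; group] at h3

/-- Two independent elements give the four cosets of a subgroup of index at most 4 over `Z`. -/
theorem cover [Finite P] {K : Subgroup P} (hKW : K ≤ W) (hZK : Z ≤ K) (hK4 : Nat.card ↥K ≤ 4 * Nat.card ↥Z)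
    {a b : P} (ha : a ∈ K) (hb : b ∈ K) (haZ : a ∉ Z) (hbZ : b ∉ Z) (habZ : a⁻¹ * b ∉ Z) {x : P} (hx : x ∈ K) :
    x ∈ Z ∨ a⁻¹ * x ∈ Z ∨ b⁻¹ * x ∈ Z ∨ (a * b)⁻¹ * x ∈ Z := by
  haveI := S.Z_normal
  set A := Z ⊔ zpowers a
  have hAW : A ≤ W := sup_le S.Z_le (zpowers_le.2 (hKW ha))
  haveI hAn : A.Normal := S.normal_above le_sup_left hAW
  have hbA : b ∉ A := fun e => by
    rcases mem_adj (S.sq a (hKW ha)) e with e' | e'
    · exact hbZ e'
    · refine habZ ?_
      rw [show a⁻¹ * b = a⁻¹ * (b * a⁻¹ * a) by group, S.zc _ e' a (hKW ha), inv_mul_cancel_left]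
      exact e'
  have hbb : b * b ∈ A := mem_sup_left (S.sq b (hKW hb))
  have hB : A ⊔ zpowers b = K := eq_of_le_of_card_ge
    (sup_le (sup_le hZK (zpowers_le.2 ha)) (zpowers_le.2 hb))
    (by rw [card_adj hbb hbA, card_adj (S.sq a (hKW ha)) haZ]; omega)
  rw [← hB] at hx
  rcases mem_adj hbb hx with e | e
  · rcases mem_adj (S.sq a (hKW ha)) e with e' | e'
    · exact Or.inl e'
    · refine Or.inr (Or.inl ?_)
      rw [show a⁻¹ * x = a⁻¹ * (x * a⁻¹ * a) by group, S.zc _ e' a (hKW ha), inv_mul_cancel_left]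
      exact e'
  · rcases mem_adj (S.sq a (hKW ha)) e with e' | e'
    · refine Or.inr (Or.inr (Or.inl ?_))
      rw [show b⁻¹ * x = b⁻¹ * (x * b⁻¹ * b) by group, S.zc _ e' b (hKW hb), inv_mul_cancel_left]
      exact e'
    · refine Or.inr (Or.inr (Or.inr ?_))
      rw [show (a * b)⁻¹ * x = b⁻¹ * (a⁻¹ * (x * b⁻¹ * a⁻¹ * a)) * b by group, S.zc _ e' a (hKW ha),
        inv_mul_cancel_left, mul_assoc, S.zc _ e' b (hKW hb), inv_mul_cancel_left]
      exact e'

/-- The automorphism is trivial on `W` once it is trivial on `Z` and modulo `Z`. -/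
theorem fix_of_mod [Finite P] {ψ : MulAut P} (hψ : Odd (orderOf ψ)) (hZ : ∀ ζ ∈ Z, ψ ζ = ζ)
    (hmod : ∀ x ∈ W, x⁻¹ * ψ x ∈ Z) : ∀ x ∈ W, ψ x = x := by
  intro x hx
  have hc := hmod x hx
  have hsq : x⁻¹ * ψ x * (x⁻¹ * ψ x) = 1 := by
    have e1 : ψ x * ψ x = x * x := by rw [← map_mul, hZ _ (S.sq x hx)]
    have e2 : ψ x * ψ x = x * x * ((x⁻¹ * ψ x) * (x⁻¹ * ψ x)) := by
      calc ψ x * ψ x = x * (x⁻¹ * ψ x) * (x * (x⁻¹ * ψ x)) := by group
        _ = x * ((x⁻¹ * ψ x) * x) * (x⁻¹ * ψ x) := by group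
        _ = x * (x * (x⁻¹ * ψ x)) * (x⁻¹ * ψ x) := by rw [S.zc _ hc x hx]
        _ = _ := by group
    exact mul_eq_left.1 (e2.symm.trans e1)
  exact (inv_mul_eq_one.1 (Cfsg.Agent.Invol.NoSCN.eq_one_of_shift hψ (a := x) (c := x⁻¹ * ψ x)
    (by group) (hZ _ hc) hsq)).symm

theorem fix_Z_of_cyclic [Finite P] (h : Hyp φ) (h2 : Nat.card ↥(omega Z S.Zc) = 2) : ∀ ζ ∈ Z, φ ζ = ζ := by
  refine fixed_abelian h.pgroup h.odd S.Zc S.Zφ fun d hd hd2 => ?_
  obtain ⟨z, -, hz⟩ := (Nat.card_eq_two_iff' (1 : ↥(omega Z S.Zc))).1 h2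
  by_cases e : d = 1
  · rw [e, map_one]
  · have e1 := hz ⟨d, hd, hd2⟩ fun e' => e (congrArg Subtype.val e')
    have e2 := hz ⟨φ d, S.Zφ d hd, by rw [← map_mul, hd2, map_one]⟩ fun e' => e
      (φ.injective ((congrArg Subtype.val e').trans (map_one φ).symm))
    exact congrArg Subtype.val (e2.trans e1.symm)

/-- A moved subgroup of index at most 4 over `Z`, of index at most 2 in `W`, is all of `W`. -/
theorem eq_of_half [Finite P] (h : Hyp φ) (hZ : ∀ ζ ∈ Z, φ ζ = ζ) {K : Subgroup P} (hKW : K ≤ W) (hZK : Z ≤ K)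
    (hK4 : Nat.card ↥K ≤ 4 * Nat.card ↥Z) (hKφ : ∀ x ∈ K, φ x ∈ K)
    (hhalf : ∀ v ∈ W, ∀ v' ∈ W, v ∉ K → v' ∉ K → v * v' ∈ K) :
    orderOf φ = 3 ∧ ∀ x ∈ W, x ∈ K := by
  -- `φ` moves `K` modulo `Z`
  obtain ⟨a, ha, haZ⟩ : ∃ a ∈ K, a⁻¹ * φ a ∉ Z := by
    by_contra hn
    push Not at hn
    obtain ⟨x, hx, hxZ⟩ := S.moves
    refine hxZ ?_
    by_cases hxK : x ∈ K
    · exact hn x hxK
    set y := x⁻¹ * φ x
    have hφxK : φ x ∉ K := fun e => hxK (by
      have hpow : ∀ m : ℕ, (φ ^ (m + 1)) x ∈ K := fun m => by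
        induction m with
        | zero => simpa using e
        | succ m ih => rw [pow_succ', MulAut.mul_apply]; exact hKφ _ ih
      obtain ⟨m, hm⟩ := h.odd
      have := hpow (2 * m)
      rwa [← hm, pow_orderOf_eq_one] at this)
    have hy : y ∈ K := by
      have := hhalf x⁻¹ (inv_mem hx) (φ x) (S.Wφ x hx) (fun e => hxK (inv_mem_iff.1 e)) hφxK
      exact this
    -- shift modulo `Z`
    have hit : ∀ m : ℕ, ∃ ζ ∈ Z, (φ ^ m) x = x * y ^ m * ζ := by
      intro m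
      induction m with
      | zero => exact ⟨1, one_mem _, by simp⟩
      | succ m ih =>
        obtain ⟨ζ, hζ, e⟩ := ih
        obtain ⟨η, hη, e'⟩ : ∃ η ∈ Z, φ (y ^ m) = y ^ m * η :=
          ⟨_, hn (y ^ m) (pow_mem hy m), by group⟩
        refine ⟨η * ζ, mul_mem hη hζ, ?_⟩
        rw [pow_succ', MulAut.mul_apply, e, map_mul, map_mul, e', hZ ζ hζ, show φ x = x * y by simp [y],
          pow_succ']
        group
    obtain ⟨ζ, hζ, e⟩ := hit (orderOf φ)
    rw [pow_orderOf_eq_one, MulAut.one_apply] at e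
    obtain ⟨m, hm⟩ := h.odd
    rw [hm, pow_succ, pow_mul, pow_two, mul_assoc, eq_comm, mul_eq_left] at e
    have e1 : y = (y * y)⁻¹ ^ m * ζ⁻¹ := by
      rw [inv_pow]
      refine eq_mul_inv_of_mul_eq ?_
      exact eq_inv_of_mul_eq_one_right (by simpa [y, mul_assoc] using e)
    rw [e1]
    exact mul_mem (pow_mem (inv_mem (S.sq y (hKW hy))) m) (inv_mem hζ)
  have haW := hKW ha
  have haZ1 : a ∉ Z := fun e => haZ (by rw [hZ a e, inv_mul_cancel]; exact one_mem _)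
  have hbZ : φ a ∉ Z := fun e => haZ1 (by
    have : φ a = a := φ.injective (hZ _ e)
    rwa [← this])
  -- the four cosets
  have hcover := fun x (hx : x ∈ K) => S.cover hKW hZK hK4 ha (hKφ a ha) haZ1 hbZ haZ hx
  -- three applications fix `K` modulo `Z`
  have hKab : br a (φ a) ∈ Z := S.br_mem (S.Wφ a haW)
  have h3a : φ (φ a) * (a * φ a) ∈ Z ∧ (φ a)⁻¹ * φ (φ a) ∉ Z := by
    have hne : (φ a)⁻¹ * φ (φ a) ∉ Z := fun e => haZ (by
      have h1 := hZ _ e
      have : φ (a⁻¹ * φ a) ∈ Z := by rw [map_mul, map_inv]; exact e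
      have h2 := hZ _ this
      rw [← φ.injective h2]; exact this)
    refine ⟨?_, hne⟩
    rcases hcover _ (hKφ _ (hKφ a ha)) with e | e | e | e
    · exact absurd (φ.injective (hZ _ e)) fun e' => hbZ (e' ▸ e)
    · exfalso
      -- `φ² a = a`: odd order
      have hper : ∀ m : ℕ, a⁻¹ * (φ ^ (2 * m)) a ∈ Z := fun m => by
        induction m with
        | zero => simp
        | succ m ih =>
          rw [show 2 * (m + 1) = 2 * m + 1 + 1 by ring, pow_succ', pow_succ', MulAut.mul_apply, MulAut.mul_apply]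
          have h1 : φ (φ (a⁻¹ * (φ ^ (2 * m)) a)) = a⁻¹ * (φ ^ (2 * m)) a := by rw [hZ _ ih, hZ _ ih]
          rw [map_mul, map_mul, map_inv, map_inv] at h1
          have h2 : φ (φ ((φ ^ (2 * m)) a)) = φ (φ a) * (a⁻¹ * (φ ^ (2 * m)) a) := by rw [← h1]; group
          rw [h2, ← mul_assoc]
          exact mul_mem e ih
      obtain ⟨m, hm⟩ := h.odd
      have h1 := hper m
      have h2 : φ (a⁻¹ * (φ ^ (2 * m)) a) = a⁻¹ * (φ ^ (2 * m)) a := hZ _ h1
      rw [map_mul, map_inv, ← MulAut.mul_apply, ← pow_succ', ← hm, pow_orderOf_eq_one, MulAut.one_apply] at h2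
      have h3 : (φ a)⁻¹ * a ∈ Z := by rw [h2]; exact h1
      exact haZ (by have := inv_mem h3; rwa [mul_inv_rev, inv_inv] at this)
    · exact absurd e hne
    · have h4 : (a * φ a) * (a * φ a) ∈ Z := S.sq _ (mul_mem haW (S.Wφ a haW))
      have h5 := mul_mem h4 e
      rw [show a * φ a * (a * φ a) * ((a * φ a)⁻¹ * φ (φ a)) = a * φ a * φ (φ a) by group] at h5
      have h6 : φ (φ a) * (a * φ a) = φ (φ a) * (a * φ a * φ (φ a)) * (φ (φ a))⁻¹ := by group
      rw [h6, ← S.zc _ h5 _ (hKW (hKφ _ (hKφ a ha))), mul_inv_cancel_right]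
      exact h5
  have hcube : ∀ x ∈ K, x⁻¹ * φ (φ (φ x)) ∈ Z := by
    have hba : ∀ c d : P, c ∈ W → d ∈ W → (c⁻¹ * φ (φ (φ c))) ∈ Z → (d⁻¹ * φ (φ (φ d))) ∈ Z →
        (c * d)⁻¹ * φ (φ (φ (c * d))) ∈ Z := fun c d hc hd e1 e2 => by
      rw [map_mul, map_mul, map_mul, show (c * d)⁻¹ * (φ (φ (φ c)) * φ (φ (φ d))) =
        d⁻¹ * (c⁻¹ * φ (φ (φ c))) * φ (φ (φ d)) by group, ← S.zc _ e1 _ (inv_mem hd), mul_assoc]
      exact mul_mem e1 e2
    have hz3 : ∀ ζ ∈ Z, ζ⁻¹ * φ (φ (φ ζ)) ∈ Z := fun ζ hζ => by rw [hZ ζ hζ, hZ ζ hζ, hZ ζ hζ, inv_mul_cancel]; exact one_mem _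
    have h3 : a⁻¹ * φ (φ (φ a)) ∈ Z := by
      have h7 := h3a.1
      have h8 : φ (φ (φ a) * (a * φ a)) = φ (φ a) * (a * φ a) := hZ _ h7
      rw [map_mul, map_mul] at h8
      have h9 : φ (φ (φ a)) = φ (φ a) * (a * φ a) * (φ a * φ (φ a))⁻¹ := by rw [← h8]; group
      rw [h9, show a⁻¹ * (φ (φ a) * (a * φ a) * (φ a * φ (φ a))⁻¹) =
        br a⁻¹ (φ (φ a)) * br (φ (φ a)) (φ a) by simp only [br]; group]
      exact mul_mem (S.br_mem (hKW (hKφ _ (hKφ a ha)))) (S.br_mem (hKW (hKφ a ha)))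
    have hb3 : (φ a)⁻¹ * φ (φ (φ (φ a))) ∈ Z := by
      rw [show (φ a)⁻¹ * φ (φ (φ (φ a))) = φ (a⁻¹ * φ (φ (φ a))) by simp, hZ _ h3]; exact h3
    intro x hx
    rcases hcover x hx with e | e | e | e
    · exact hz3 x e
    · have := hba a _ haW (S.Z_le e) h3 (hz3 _ e); rwa [mul_inv_cancel_left] at this
    · have := hba (φ a) _ (S.Wφ a haW) (S.Z_le e) hb3 (hz3 _ e); rwa [mul_inv_cancel_left] at this
    · have := hba (a * φ a) _ (mul_mem haW (S.Wφ a haW)) (S.Z_le e)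
        (hba a _ haW (S.Wφ a haW) h3 hb3) (hz3 _ e)
      rwa [mul_inv_cancel_left] at this
  -- `φ` has order three
  have hW3 : ∀ x ∈ W, x⁻¹ * (φ ^ 3) x ∈ Z := by
    intro x hx
    have e3 : ∀ y, (φ ^ 3) y = φ (φ (φ y)) := fun y => rfl
    by_cases hxK : x ∈ K
    · rw [e3]; exact hcube x hxK
    have hstep : ∀ v ∈ W, v ∉ K → φ v ∉ K := fun v hv hvK e => hvK (by
      have hpow : ∀ m : ℕ, (φ ^ (m + 1)) v ∈ K := fun m => by
        induction m with
        | zero => simpa using e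
        | succ m ih => rw [pow_succ', MulAut.mul_apply]; exact hKφ _ ih
      obtain ⟨m, hm⟩ := h.odd
      have := hpow (2 * m)
      rwa [← hm, pow_orderOf_eq_one] at this)
    have hy : x⁻¹ * (φ ^ 3) x ∈ K := by
      rw [e3]
      exact hhalf _ (inv_mem hx) _ (S.Wφ _ (S.Wφ _ (S.Wφ x hx))) (fun e => hxK (inv_mem_iff.1 e))
        (hstep _ (S.Wφ _ (S.Wφ x hx)) (hstep _ (S.Wφ x hx) (hstep x hx hxK)))
    set y := x⁻¹ * (φ ^ 3) x
    have hit : ∀ m : ℕ, ∃ ζ ∈ Z, ((φ ^ 3) ^ m) x = x * y ^ m * ζ := by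
      intro m
      induction m with
      | zero => exact ⟨1, one_mem _, by simp⟩
      | succ m ih =>
        obtain ⟨ζ, hζ, e⟩ := ih
        obtain ⟨η, hη, e'⟩ : ∃ η ∈ Z, (φ ^ 3) (y ^ m) = y ^ m * η :=
          ⟨(y ^ m)⁻¹ * (φ ^ 3) (y ^ m), by rw [e3]; exact hcube (y ^ m) (pow_mem hy m), by group⟩
        refine ⟨η * ζ, mul_mem hη hζ, ?_⟩
        rw [pow_succ', MulAut.mul_apply, e, map_mul, map_mul, e', show (φ ^ 3) ζ = ζ by rw [e3, hZ ζ hζ, hZ ζ hζ, hZ ζ hζ],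
          show (φ ^ 3) x = x * y by simp [y], pow_succ']
        group
    obtain ⟨ζ, hζ, e⟩ := hit (orderOf φ)
    rw [← pow_mul, mul_comm 3, pow_mul, pow_orderOf_eq_one, one_pow, MulAut.one_apply, mul_assoc, eq_comm, mul_eq_left] at e
    obtain ⟨m, hm⟩ := h.odd
    rw [hm, pow_succ', mul_assoc] at e
    rw [eq_inv_of_mul_eq_one_left e]
    refine inv_mem (mul_mem ?_ hζ)
    rw [pow_mul, pow_two]
    exact pow_mem (S.sq y (hKW hy)) m
  have hψodd : Odd (orderOf (φ ^ 3)) := h.odd.of_dvd_nat (orderOf_pow_dvd 3)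
  have hψ1 : φ ^ 3 = 1 := S.faithful _ hψodd (S.fix_of_mod hψodd
    (fun ζ hζ => by show φ (φ (φ ζ)) = ζ; rw [hZ ζ hζ, hZ ζ hζ, hZ ζ hζ]) hW3)
  have hord : orderOf φ = 3 := by
    have h1 := orderOf_dvd_of_pow_eq_one hψ1
    exact (Nat.prime_dvd_prime_iff_eq h.prime Nat.prime_three).1 h1
  refine ⟨hord, fun v hv => ?_⟩
  by_contra hvK
  -- an element fixed modulo `Z` outside `K`, commuting with `K`
  have hφ3 : ∀ y, φ (φ (φ y)) = y := fun y => congrArg (fun f : MulAut P => f y) hψ1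
  set u := v * φ v * φ (φ v) with hu
  have hvW1 := S.Wφ v hv
  have hvW2 := S.Wφ _ hvW1
  have huW : u ∈ W := mul_mem (mul_mem hv hvW1) hvW2
  have hvK1 : φ v ∉ K := fun e => hvK (hφ3 v ▸ hKφ _ (hKφ _ e))
  have huK : u ∉ K := fun e => by
    have hvK2 : φ (φ v) ∉ K := fun e' => hvK (hφ3 v ▸ hKφ _ e')
    have h1 := hhalf v hv (φ v) hvW1 hvK hvK1
    exact hvK2 ((mul_mem_cancel_left h1).1 e)
  have huφ : u⁻¹ * φ u ∈ Z := by
    rw [hu, map_mul, map_mul, hφ3,
      show (v * φ v * φ (φ v))⁻¹ * (φ v * φ (φ v) * v) = br (φ v * φ (φ v))⁻¹ v⁻¹ by simp only [br]; group]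
    exact S.br_mem (inv_mem hv)
  have hbfix : ∀ k ∈ K, br u (φ k) = br u k := fun k hk => by
    have h1 : φ (br u k) = br u k := hZ _ (S.br_mem (hKW hk))
    rw [map_br] at h1
    rw [← h1, show φ u = u * (u⁻¹ * φ u) by group, S.br_mul_left huW (hKW (hKφ k hk)),
      S.br_z huφ (hKW (hKφ k hk)), mul_one]
  have hba1 : br u a = 1 := by
    have h7 : br u (φ (φ a) * (a * φ a)) = 1 := S.br_z_right h3a.1 huW
    rw [S.br_mul_right (hKW (hKφ _ (hKφ a ha))) (mul_mem haW (S.Wφ a haW)),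
      S.br_mul_right haW (S.Wφ a haW), hbfix _ (hKφ a ha), hbfix a ha, S.br_sq huW haW, mul_one] at h7
    exact h7
  have hball : ∀ k ∈ K, br u k = 1 := by
    intro k hk
    have hb1 : br u (φ a) = 1 := (hbfix a ha).trans hba1
    rcases hcover k hk with e | e | e | e
    · exact S.br_z_right e huW
    · have := S.br_mul_right (x := u) haW (S.Z_le e)
      rw [mul_inv_cancel_left, hba1, one_mul, S.br_z_right e huW] at this; exact this
    · have := S.br_mul_right (x := u) (S.Wφ a haW) (S.Z_le e)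
      rw [mul_inv_cancel_left, hb1, one_mul, S.br_z_right e huW] at this; exact this
    · have := S.br_mul_right (x := u) (mul_mem haW (S.Wφ a haW)) (S.Z_le e)
      rw [mul_inv_cancel_left, S.br_mul_right haW (S.Wφ a haW), hba1, hb1, one_mul, one_mul,
        S.br_z_right e huW] at this
      exact this
  refine huK (hZK (S.selfc u huW fun y hy => br_eq_one.1 ?_))
  by_cases hyK : y ∈ K
  · exact hball y hyK
  · have h1 := hhalf u⁻¹ (inv_mem huW) y hy (fun e => huK (inv_mem_iff.1 e)) hyK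
    have := S.br_mul_right (x := u) huW (hKW h1)
    rw [mul_inv_cancel_left, br_self, one_mul, hball _ h1] at this
    exact this

/-- The shell has index four, its centre is fixed, and the automorphism has order three. -/
theorem index_four [Finite P] (h : Hyp φ) (hexp : ∃ ζ ∈ Z, ζ * ζ ≠ 1) :
    (∀ ζ ∈ Z, φ ζ = ζ) ∧ orderOf φ = 3 ∧ Nat.card ↥W ≤ 4 * Nat.card ↥Z := by
  classical
  haveI := S.Z_normal
  obtain ⟨ζ₀, hζ₀, hζ₀2⟩ := hexp
  have hZ4 : Nat.card ↥(omega Z S.Zc) ≤ 4 := h.omega_le S.Z_normal S.Zc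
  -- the squaring map of the centre
  let sqh : ↥Z →* ↥Z :=
    { toFun := fun z => ⟨z * z, mul_mem z.2 z.2⟩
      map_one' := Subtype.ext (one_mul _)
      map_mul' := fun a b => Subtype.ext (by
        show (a : P) * b * (a * b) = a * a * (b * b)
        calc (a : P) * b * (a * b) = a * (b * a) * b := by group
          _ = a * (a * b) * b := by rw [S.Zc b b.2 a a.2]
          _ = _ := by group) }
  have hker : Nat.card ↥sqh.ker = Nat.card ↥(omega Z S.Zc) :=
    Nat.card_congr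
      { toFun := fun z => ⟨z.1.1, z.1.2, congrArg Subtype.val z.2⟩
        invFun := fun z => ⟨⟨z.1, z.2.1⟩, Subtype.ext z.2.2⟩
        left_inv := fun _ => rfl
        right_inv := fun _ => rfl }
  have hrange : sqh.range.map Z.subtype = S.Zsq := by
    ext x
    constructor
    · rintro ⟨_, ⟨z, rfl⟩, rfl⟩; exact ⟨z, z.2, rfl⟩
    · rintro ⟨z, hz, rfl⟩; exact ⟨sqh ⟨z, hz⟩, ⟨_, rfl⟩, rfl⟩
  have hcardZ : Nat.card ↥Z = Nat.card ↥S.Zsq * Nat.card ↥(omega Z S.Zc) := by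
    rw [← hrange, card_map_of_injective Z.subtype_injective, ← hker, ← index_ker, mul_comm, card_mul_index]
  -- two-valued quotients
  have pair : ∀ T : Subgroup P, T ≤ Z → Nat.card ↥Z ≤ 2 * Nat.card ↥T → ∀ a ∈ Z, ∀ b ∈ Z, a ∉ T → b ∉ T → a * b ∈ T := by
    intro T hT hcard a ha b hb hna hnb
    by_cases hi : (T.subgroupOf Z).index = 2
    · have := Subgroup.mul_mem_iff_of_index_two hi (a := ⟨a, ha⟩) (b := ⟨b, hb⟩)
      simpa [Subgroup.mem_subgroupOf, hna, hnb] using this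
    · exfalso
      have h1 := card_mul_index (T.subgroupOf Z)
      rw [Nat.card_congr (Subgroup.subgroupOfEquivOfLe hT).toEquiv] at h1
      have h2 : (T.subgroupOf Z).index ≠ 1 := fun e => hna (by
        rw [index_eq_one] at e
        exact (mem_subgroupOf (h := (⟨a, ha⟩ : ↥Z))).1 (e ▸ mem_top _))
      have h3 : (T.subgroupOf Z).index ≠ 0 := FiniteIndex.index_ne_zero
      have h4 : 3 ≤ (T.subgroupOf Z).index := by omega
      have := Nat.mul_le_mul_left (Nat.card ↥T) h4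
      have hp : 0 < Nat.card ↥T := Nat.card_pos
      omega
  obtain ⟨c, hcZ, hc2⟩ : ∃ c ∈ Z, ∃ d ∈ Z, d ≠ 1 ∧ d * d = 1 ∧ d = c * c := by
    obtain ⟨k, hk⟩ := h.pgroup (ζ₀ * ζ₀)
    have hex : ∃ j, (ζ₀ * ζ₀) ^ 2 ^ j = 1 := ⟨k, hk⟩
    set j := Nat.find hex
    have hj := Nat.find_spec hex
    have hj0 : j ≠ 0 := fun e => hζ₀2 (by simpa [show Nat.find hex = 0 from e] using hj)
    obtain ⟨i, hi⟩ : ∃ i, j = i + 1 := ⟨j - 1, by omega⟩
    refine ⟨ζ₀ ^ 2 ^ i, pow_mem hζ₀ _, (ζ₀ * ζ₀) ^ 2 ^ i, pow_mem (mul_mem hζ₀ hζ₀) _,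
      fun e => Nat.find_min hex (show i < j by omega) e, ?_, ?_⟩
    · rw [← pow_two, ← pow_mul, ← pow_succ, ← hi]; exact hj
    · rw [← pow_two, ← pow_mul, ← pow_two, ← pow_mul, mul_comm]
  obtain ⟨s, hsZ, hs1, hs2, hsc⟩ := hc2
  have hsD : s ∈ omega Z S.Zc := ⟨hsZ, hs2⟩
  by_cases h4 : Nat.card ↥(omega Z S.Zc) = 4
  · by_cases hDsq : omega Z S.Zc ≤ S.Zsq
    · exfalso
      have hmapinj : ∀ x ∈ W, ∀ y ∈ W, x * x * (y * y)⁻¹ ∈ S.Zsq → x⁻¹ * y ∈ Z := by
        intro x hx y hy hd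
        by_contra hn
        refine S.sq_not_sq_four h h4 (mul_mem (inv_mem hx) hy) hn ?_
        rw [S.sq_mul (inv_mem hx) hy]
        refine mul_mem ?_ (hDsq (S.br_omega (inv_mem hx) hy))
        have := inv_mem hd
        rwa [mul_inv_rev, inv_inv, S.Zc _ (S.sq y hy) _ (inv_mem (S.sq x hx)),
          show (x * x)⁻¹ = x⁻¹ * x⁻¹ from mul_inv_rev x x] at this
      by_cases hfix : ∀ ζ ∈ Z, φ ζ = ζ
      · obtain ⟨x, hx, hxZ⟩ := S.moves
        refine hxZ (hmapinj x hx (φ x) (S.Wφ x hx) ?_)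
        rw [← map_mul, hfix _ (S.sq x hx), mul_inv_cancel]
        exact one_mem _
      · have hmv : ∃ v ∈ omega Z S.Zc, φ v ≠ v := by
          by_contra hn
          push Not at hn
          exact hfix (fixed_abelian h.pgroup h.odd S.Zc S.Zφ fun d hd hd2 => hn d ⟨hd, hd2⟩)
        obtain ⟨v, hv, hvm⟩ := hmv
        obtain ⟨hrot, -⟩ := Cfsg.Agent.Invol.NoSCN.rot_of_moved h.odd h4.le
          (fun w hw => ⟨S.Zφ w hw.1, by rw [← map_mul, hw.2, map_one]⟩) (fun w hw => hw.2) hv hvm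
        have hW4 : Nat.card ↥W ≤ 4 * Nat.card ↥Z := by
          have hinj : Function.Injective (fun x : ↥W ⧸ Z.subgroupOf W =>
              Quotient.liftOn' x (fun y => (QuotientGroup.mk (⟨(y : P) * y, S.sq y y.2⟩ : ↥Z) : ↥Z ⧸ S.Zsq.subgroupOf Z))
                (fun y y' e => by
                  rw [QuotientGroup.leftRel_apply, mem_subgroupOf] at e
                  refine QuotientGroup.eq.2 ?_
                  rw [mem_subgroupOf]
                  show ((y : P) * y)⁻¹ * ((y' : P) * y') ∈ S.Zsq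
                  obtain ⟨ζ, hζ, e'⟩ : ∃ ζ ∈ Z, (y' : P) = y * ζ := ⟨_, e, by simp⟩
                  refine ⟨ζ, hζ, ?_⟩
                  rw [e', show ((y : P) * y)⁻¹ * (y * ζ * (y * ζ)) = (y : P)⁻¹ * (ζ * y) * ζ by group,
                    S.zc ζ hζ y y.2, inv_mul_cancel_left])) := by
            intro x x'
            induction x using Quotient.inductionOn' with
            | h y =>
              induction x' using Quotient.inductionOn' with
              | h y' =>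
                intro e
                have e1 := QuotientGroup.eq.1 e
                rw [mem_subgroupOf] at e1
                refine Quotient.sound' (QuotientGroup.leftRel_apply.2 ?_)
                rw [mem_subgroupOf]
                refine hmapinj y y.2 y' y'.2 ?_
                have e2 : ((y : P) * y)⁻¹ * ((y' : P) * y') ∈ S.Zsq := e1
                have := inv_mem e2
                rwa [mul_inv_rev, inv_inv, S.Zc _ (inv_mem (S.sq y' y'.2)) _ (S.sq y y.2)] at this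
          have h1 := Nat.card_le_card_of_injective _ hinj
          have h2 := card_mul_index (Z.subgroupOf W)
          have h3 := card_mul_index (S.Zsq.subgroupOf Z)
          rw [Nat.card_congr (Subgroup.subgroupOfEquivOfLe S.Z_le).toEquiv] at h2
          rw [Nat.card_congr (Subgroup.subgroupOfEquivOfLe S.Zsq_le).toEquiv, hcardZ, h4] at h3
          have h5 : (S.Zsq.subgroupOf Z).index = 4 :=
            Nat.eq_of_mul_eq_mul_left Nat.card_pos h3
          change Nat.card (↥W ⧸ Z.subgroupOf W) ≤ Nat.card (↥Z ⧸ S.Zsq.subgroupOf Z) at h1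
          rw [← index_eq_card, ← index_eq_card, h5] at h1
          rw [← h2, mul_comm 4]
          exact Nat.mul_le_mul_left _ h1
        obtain ⟨x, hx, hxZ⟩ := S.moves
        have hxZ0 : x ∉ Z := fun e => hxZ (mul_mem (inv_mem e) (S.Zφ x e))
        have hxW := S.Wφ x hx
        have hcov := fun y (hy : y ∈ W) => S.cover le_rfl S.Z_le hW4 hx hxW hxZ0
          (fun e => hxZ0 (by
            obtain ⟨⟨a, ha⟩, e'⟩ := (Finite.injective_iff_surjective (f := fun a : ↥Z => (⟨φ a, S.Zφ a a.2⟩ : ↥Z))).1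
              (fun a a' e' => Subtype.ext (φ.injective (congrArg Subtype.val e'))) ⟨φ x, e⟩
            rw [← φ.injective (congrArg Subtype.val e')]; exact ha)) hxZ hy
        have hb1 : ∀ y ∈ W, (br x y = br x (φ x) ∨ br x y = 1) ∧ (br (φ x) y = br x (φ x) ∨ br (φ x) y = 1) := by
          intro y hy
          have hr : ∀ (c : P), c ∈ W → c⁻¹ * y ∈ Z → ∀ v ∈ W, br v y = br v c := fun c hc hd v hv => by
            have := S.br_mul_right (x := v) hc (S.Z_le hd)
            rwa [mul_inv_cancel_left, S.br_z_right hd hv, mul_one] at this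
          rcases hcov y hy with e | e | e | e
          · exact ⟨Or.inr (S.br_z_right e hx), Or.inr (S.br_z_right e hxW)⟩
          · exact ⟨Or.inr ((hr x hx e x hx).trans (br_self x)), Or.inl ((hr x hx e _ hxW).trans (S.br_symm hx hxW))⟩
          · exact ⟨Or.inl (hr _ hxW e x hx), Or.inr ((hr _ hxW e _ hxW).trans (br_self _))⟩
          · refine ⟨Or.inl ?_, Or.inl ?_⟩
            · rw [hr _ (mul_mem hx hxW) e x hx, S.br_mul_right hx hxW, br_self, one_mul]
            · rw [hr _ (mul_mem hx hxW) e _ hxW, S.br_mul_right hx hxW, br_self, mul_one, S.br_symm hx hxW]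
        have hone : ∀ y ∈ W, ∀ y' ∈ W, br y y' = br x (φ x) ∨ br y y' = 1 := by
          intro y hy y' hy'
          have hl : ∀ c : P, c ∈ W → c⁻¹ * y ∈ Z → br y y' = br c y' := fun c hc hd => by
            have := S.br_mul_left (x' := c⁻¹ * y) hc hy'
            rwa [mul_inv_cancel_left, S.br_z hd hy', mul_one] at this
          rcases hcov y hy with e | e | e | e
          · exact Or.inr (S.br_z e hy')
          · rw [hl x hx e]; exact (hb1 y' hy').1
          · rw [hl _ hxW e]; exact (hb1 y' hy').2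
          · rw [hl _ (mul_mem hx hxW) e, S.br_mul_left hx hy']
            rcases (hb1 y' hy').1 with e1 | e1 <;> rcases (hb1 y' hy').2 with e2 | e2 <;> rw [e1, e2]
            · right; exact S.br_sq hx hxW
            · left; exact mul_one _
            · left; exact one_mul _
            · right; exact one_mul _
        have hne : br x (φ x) ≠ 1 := fun e => hxZ0 (S.selfc x hx fun y hy => br_eq_one.1 (by
          rcases hone x hx y hy with e' | e'
          · exact e'.trans e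
          · exact e'))
        rcases hone (φ x) (S.Wφ x hx) (φ (φ x)) (S.Wφ _ (S.Wφ x hx)) with e | e
        · exact hne (hrot.ne _ (S.br_omega hx (S.Wφ x hx)) (by rw [map_br]; exact e))
        · exact hne (φ.injective (by rw [map_br, e, map_one]))
    · have hmem : ∀ w ∈ omega Z S.Zc, φ w ∈ omega Z S.Zc :=
        fun w hw => ⟨S.Zφ w hw.1, by rw [← map_mul, hw.2, map_one]⟩
      have hsqφ : ∀ w ∈ S.Zsq, φ w ∈ S.Zsq := by
        rintro _ ⟨a, ha, rfl⟩; exact ⟨φ a, S.Zφ a ha, (map_mul φ a a).symm⟩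
      have hcsq : s ∈ S.Zsq := hsc ▸ S.sq_mem_Zsq hcZ
      have hfix : ∀ ζ ∈ Z, φ ζ = ζ := by
        refine fixed_abelian h.pgroup h.odd S.Zc S.Zφ fun d hd hd2 => ?_
        by_contra hdm
        obtain ⟨hrot, -⟩ := Cfsg.Agent.Invol.NoSCN.rot_of_moved h.odd h4.le hmem (fun w hw => hw.2) ⟨hd, hd2⟩ hdm
        refine hDsq fun w hw => ?_
        rcases hrot.all s hsD hs1 w hw with e | e | e | e <;> rw [e]
        · exact one_mem _
        · exact hcsq
        · exact hsqφ _ hcsq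
        · exact hsqφ _ (hsqφ _ hcsq)
      -- the subgroup of squares in `Zsq·D`
      set T := S.Zsq ⊔ omega Z S.Zc with hT
      haveI : S.Zsq.Normal := ⟨fun _ ⟨a, ha, e⟩ g => ⟨g * a * g⁻¹, S.Z_normal.conj_mem a ha g, by rw [← e]; group⟩⟩
      have hTZ : T ≤ Z := sup_le S.Zsq_le fun d hd => hd.1
      have hTcard : Nat.card ↥Z ≤ 2 * Nat.card ↥T := by
        have h1 : Nat.card ↥S.Zsq ∣ Nat.card ↥T := card_dvd_of_le le_sup_left
        have h2 : Nat.card ↥S.Zsq < Nat.card ↥T :=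
          lt_of_le_of_ne (Nat.le_of_dvd Nat.card_pos h1) fun e =>
            hDsq (fun d hd => (eq_of_le_of_card_ge le_sup_left e.ge : S.Zsq = T) ▸ mem_sup_right hd)
        obtain ⟨m, hm⟩ := h1
        have : 2 ≤ m := by
          by_contra hlt
          rw [hm] at h2
          interval_cases m <;> omega
        rw [hcardZ, h4, hm]
        calc _ = 2 * (Nat.card ↥S.Zsq * 2) := by ring
          _ ≤ _ := Nat.mul_le_mul_left _ (Nat.mul_le_mul_left _ this)
      have hTφ : ∀ w ∈ T, φ w ∈ T := fun w hw => by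
        obtain ⟨a, ha, d, hd, rfl⟩ := mem_sup_of_normal_left.1 hw
        rw [map_mul]; exact mul_mem (mem_sup_left (hsqφ a ha)) (mem_sup_right (hmem d hd))
      let K : Subgroup P :=
        { carrier := {x | x ∈ W ∧ x * x ∈ T}
          one_mem' := ⟨one_mem _, by rw [one_mul]; exact one_mem _⟩
          mul_mem' := fun {x y} hx hy => ⟨mul_mem hx.1 hy.1, by
            rw [S.sq_mul hx.1 hy.1]; exact mul_mem (mul_mem hx.2 hy.2) (mem_sup_right (S.br_omega hx.1 hy.1))⟩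
          inv_mem' := fun {x} hx => ⟨inv_mem hx.1, by rw [← mul_inv_rev]; exact inv_mem hx.2⟩ }
      have hsq4 := fun x (hx : x ∈ W) (hxZ : x ∉ Z) => S.sq_not_sq_four h h4 hx hxZ
      -- two nonsquares of `T` differ by a square
      have hTpair : ∀ a ∈ T, ∀ b ∈ T, a ∉ S.Zsq → b ∉ S.Zsq → a * b ∈ S.Zsq := by
        intro a ha b hb hna hnb
        have hsub : ∀ t ∈ T, t ∈ S.Zsq ∨ ∃ d ∈ omega Z S.Zc, d ∉ S.Zsq ∧ t * d ∈ S.Zsq := fun t ht => by
          obtain ⟨z, hz, d, hd, rfl⟩ := mem_sup_of_normal_left.1 ht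
          by_cases hdq : d ∈ S.Zsq
          · exact Or.inl (mul_mem hz hdq)
          · exact Or.inr ⟨d, hd, hdq, by rw [mul_assoc, hd.2, mul_one]; exact hz⟩
        obtain ⟨d, hd, hdn, hda⟩ := (hsub a ha).resolve_left hna
        obtain ⟨e, he, hen, heb⟩ := (hsub b hb).resolve_left hnb
        have hde : d * e ∈ S.Zsq := by
          rcases eq_or_ne d e with rfl | hne
          · rw [hd.2]; exact one_mem _
          · have hfour : ∀ w ∈ omega Z S.Zc, w = 1 ∨ w = d ∨ w = e ∨ w = d * e := by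
              letI : Fintype ↥(omega Z S.Zc) := Fintype.ofFinite _
              intro w hw
              have hd1 : d ≠ 1 := fun e1 => hdn (e1 ▸ one_mem _)
              have he1 : e ≠ 1 := fun e1 => hen (e1 ▸ one_mem _)
              have hde1 : d * e ≠ 1 := fun e1 => hne ((eq_inv_of_mul_eq_one_left e1).trans
                (inv_eq_of_mul_eq_one_right he.2))
              have huniv : ({1, ⟨d, hd⟩, ⟨e, he⟩, ⟨d * e, mul_mem hd he⟩} : Finset ↥(omega Z S.Zc)) = Finset.univ := by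
                refine Finset.eq_univ_of_card _ ?_
                rw [← Nat.card_eq_fintype_card, h4]
                simp [Subtype.ext_iff, hd1.symm, he1.symm, hde1.symm, hne, hd1, he1]
              have := huniv ▸ Finset.mem_univ (⟨w, hw⟩ : ↥(omega Z S.Zc))
              simpa [Subtype.ext_iff] using this
            rcases hfour s hsD with e' | e' | e' | e'
            · exact absurd e' hs1
            · exact absurd (e' ▸ hcsq) hdn
            · exact absurd (e' ▸ hcsq) hen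
            · exact e' ▸ hcsq
        have h1 := mul_mem (mul_mem hda heb) (inv_mem hde)
        rwa [show a * d * (b * e) * (d * e)⁻¹ = a * (d * b) * d⁻¹ by group,
          S.Zc d hd.1 b (hTZ hb), ← mul_assoc, mul_inv_cancel_right] at h1
      have hK4 : Nat.card ↥K ≤ 4 * Nat.card ↥Z := S.card_le_four (K := K) (T0 := S.Zsq) (fun x hx => hx.1)
        (fun d hd d' hd' => hTpair d (mem_sup_right hd) d' (mem_sup_right hd'))
        (fun x hx y hy hxZ hyZ hxyZ hb => by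
          have hxyZ' : x * y ∉ Z := fun e => hxyZ (by
            have := mul_mem (inv_mem (S.sq x hx.1)) e
            rwa [show (x * x)⁻¹ * (x * y) = x⁻¹ * y by group] at this)
          refine hsq4 _ (mul_mem hx.1 hy.1) hxyZ' ?_
          rw [S.sq_mul hx.1 hy.1]
          exact mul_mem (hTpair _ hx.2 _ hy.2 (hsq4 x hx.1 hxZ) (hsq4 y hy.1 hyZ)) hb)
      obtain ⟨hord, hall⟩ := S.eq_of_half h hfix (K := K) (fun x hx => hx.1)
        (fun z hz => ⟨S.Z_le hz, mem_sup_left (S.sq_mem_Zsq hz)⟩) hK4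
        (fun x hx => ⟨S.Wφ x hx.1, by rw [← map_mul]; exact hTφ _ hx.2⟩)
        (fun v hv v' hv' hn hn' => ⟨mul_mem hv hv', by
          rw [S.sq_mul hv hv']
          exact mul_mem (pair T hTZ hTcard _ (S.sq v hv) _ (S.sq v' hv') (fun e => hn ⟨hv, e⟩) fun e => hn' ⟨hv', e⟩)
            (mem_sup_right (S.br_omega hv hv'))⟩)
      exact ⟨hfix, hord, le_trans (Nat.card_le_card_of_injective
        (fun x : ↥W => (⟨x, hall x x.2⟩ : ↥K)) fun a b e => Subtype.ext (congrArg Subtype.val e :)) hK4⟩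
  · -- a cyclic centre
    have h2 : Nat.card ↥(omega Z S.Zc) = 2 := by
      obtain ⟨e, he⟩ := IsPGroup.iff_card.1 (h.pgroup.to_subgroup (omega Z S.Zc))
      have hgt : 1 < Nat.card ↥(omega Z S.Zc) := Finite.one_lt_card_iff_nontrivial.2
        ⟨⟨s, hsD⟩, 1, fun e' => hs1 (congrArg Subtype.val e')⟩
      rw [he] at hgt h4 hZ4 ⊢
      have : e ≤ 2 := (Nat.pow_le_pow_iff_right (by norm_num : 1 < 2)).1 (hZ4.trans (by norm_num : 4 ≤ 2 ^ 2))
      interval_cases e <;> simp_all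
    have hfix := S.fix_Z_of_cyclic h h2
    have hDsq : ∀ d ∈ omega Z S.Zc, d ∈ S.Zsq := fun d hd => by
      obtain ⟨z, -, hz⟩ := (Nat.card_eq_two_iff' (1 : ↥(omega Z S.Zc))).1 h2
      by_cases e : d = 1
      · rw [e]; exact one_mem _
      · have e1 := hz ⟨d, hd⟩ fun e' => e (congrArg Subtype.val e')
        have e2 := hz ⟨s, hsD⟩ fun e' => hs1 (congrArg Subtype.val e')
        rw [show d = s from congrArg Subtype.val (e1.trans e2.symm), hsc]
        exact ⟨c, hcZ, rfl⟩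
    have hZcard : Nat.card ↥Z ≤ 2 * Nat.card ↥S.Zsq := by rw [hcardZ, h2, mul_comm]
    let K : Subgroup P :=
      { carrier := {x | x ∈ W ∧ x * x ∈ S.Zsq}
        one_mem' := ⟨one_mem _, by rw [one_mul]; exact one_mem _⟩
        mul_mem' := fun {x y} hx hy => ⟨mul_mem hx.1 hy.1, by
          rw [S.sq_mul hx.1 hy.1]; exact mul_mem (mul_mem hx.2 hy.2) (hDsq _ (S.br_omega hx.1 hy.1))⟩
        inv_mem' := fun {x} hx => ⟨inv_mem hx.1, by rw [← mul_inv_rev]; exact inv_mem hx.2⟩ }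
    have hK4 : Nat.card ↥K ≤ 4 * Nat.card ↥Z := S.card_le_four (K := K) (T0 := ⊥) (fun x hx => hx.1)
      (fun d hd d' hd' hn hn' => by
        rw [mem_bot] at hn hn' ⊢
        obtain ⟨z, -, hz⟩ := (Nat.card_eq_two_iff' (1 : ↥(omega Z S.Zc))).1 h2
        have e1 := hz ⟨d, hd⟩ fun e' => hn (congrArg Subtype.val e')
        have e2 := hz ⟨d', hd'⟩ fun e' => hn' (congrArg Subtype.val e')
        rw [show d' = d from congrArg Subtype.val (e2.trans e1.symm), hd.2])
      (fun x hx y hy hxZ hyZ hxyZ => by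
        rw [mem_bot]; exact S.not_comm_two h h2 hx.1 hy.1 hxZ hyZ hxyZ hx.2 hy.2)
    obtain ⟨hord, hall⟩ := S.eq_of_half h hfix (K := K) (fun x hx => hx.1)
      (fun z hz => ⟨S.Z_le hz, S.sq_mem_Zsq hz⟩) hK4
      (fun x hx => ⟨S.Wφ x hx.1, by
        obtain ⟨a, ha, e⟩ := hx.2
        exact ⟨φ a, S.Zφ a ha, by rw [← map_mul, e, map_mul]⟩⟩)
      (fun v hv v' hv' hn hn' => ⟨mul_mem hv hv', by
        rw [S.sq_mul hv hv']
        exact mul_mem (pair S.Zsq S.Zsq_le hZcard _ (S.sq v hv) _ (S.sq v' hv') (fun e => hn ⟨hv, e⟩)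
          fun e => hn' ⟨hv', e⟩) (hDsq _ (S.br_omega hv hv'))⟩)
    exact ⟨hfix, hord, le_trans (Nat.card_le_card_of_injective
      (fun x : ↥W => (⟨x, hall x x.2⟩ : ↥K)) fun a b e => Subtype.ext (congrArg Subtype.val e :)) hK4⟩

end Shell

end Cfsg.Agent.Transfer.NTwo
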